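import Groth.Agent.AdeqShLib.Ext

/-!
# Parasitic modules
-/

set_option autoImplicit false
set_option backward.isDefEq.respectTransparency false
set_option backward.isDefEq.respectTransparency.types false
set_option maxHeartbeats 800000
universe u

namespace Groth.Agent.AdeqShLib

open CategoryTheory Limits AlgebraicGeometry Opposite TensorProduct Groth.Agent.AdeqLib

variable {S : Scheme.{u}}

/-- Parasitic is a property local on flat affine pieces. -/
theorem parasitic_of_forall_affine (M : BigSite.Mod Scheme.fppfPrecoverage S)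
    (h : ∀ U : Over S, Flat U.hom → ∀ y : U.left, ∃ (R : CommRingCat.{u}) (j : Spec R ⟶ U.left),
      IsOpenImmersion j ∧ y ∈ Set.range j ∧ Subsingleton ((baseAb R (j ≫ U.hom) M).obj (op (topOb R)))) :
    Adeq.parasitic Scheme.fppfPrecoverage S M := by
  intro U hU
  choose R j hj hy hsub using h U hU
  haveI := hj
  let f : ∀ y, (Over.map (j y ≫ U.hom)).obj (topOb (R y)) ⟶ U := fun y =>
    Over.homMk (U := (Over.map (j y ≫ U.hom)).obj (topOb (R y))) (j y) (Category.id_comp (j y ≫ U.hom)).symm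
  have key : ∀ x : (secPre M).obj (op U), x = 0 := fun x =>
    eq_zero_of_cover (isSheaf_secPre M) f
      (generate_mem_J fppfP f (fun z => ⟨z, hy z⟩) fun y => fppfP_of_isOpenImmersion (j y) inferInstance)
      fun y => (hsub y).elim _ _
  exact ⟨fun x x' => (key x).trans (key x').symm⟩

/-- A flat extension kills no more than the base. -/
theorem subsingleton_val_of_flat {A : Type u} [CommRing A] {F : Adeq.MVF A} (q : Pres F)
    (h : Subsingleton (Val F (Adeq.algOf A A))) (B : Adeq.Alg A) [Module.Flat A B] : Subsingleton (Val F B) := by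
  have hφ : Function.Injective q.φ.hom := by
    refine (injective_iff_map_eq_zero _).2 fun m hm => ?_
    obtain ⟨y, hy⟩ := (q.mem (Adeq.algOf A A) ((uEquiv q.M (Adeq.algOf A A)).symm ((1 : A) ⊗ₜ[A] m))).1
      ((uEquiv q.N (Adeq.algOf A A)).injective (by
        rw [uEquiv_map, LinearEquiv.apply_symm_apply, map_zero, LinearMap.baseChange_tmul, hm, TensorProduct.tmul_zero]))
    rw [h.elim y 0, map_zero] at hy
    have h2 := congrArg (fun z => TensorProduct.lid A q.M (uEquiv q.M (Adeq.algOf A A) z)) hy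
    simpa using h2.symm
  refine ⟨fun x y => q.inj B ((uEquiv q.M B).injective (Module.Flat.lTensor_preserves_injective_linearMap q.φ.hom hφ ?_))⟩
  have hz : ∀ x : Val F B, q.φ.hom.baseChange B (uEquiv q.M B (app q.ι B x)) = 0 := fun x =>
    (uEquiv_map q.φ B _).symm.trans ((congrArg (uEquiv q.N B) ((q.mem B _).2 ⟨x, rfl⟩)).trans (map_zero (uEquiv q.N B)))
  rw [← LinearMap.baseChange_eq_ltensor]
  exact (hz x).trans (hz y).symm

theorem subsingleton_of_iso {C : Type*} [Category C] (P : Cᵒᵖ ⥤ Ab.{u + 1}) {X Y : C} (e : X ≅ Y)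
    (h : Subsingleton (P.obj (op X))) : Subsingleton (P.obj (op Y)) := by
  have he : IsIso (P.map e.hom.op) := inferInstance
  exact (ConcreteCategory.bijective_of_isIso (P.map e.hom.op)).1.subsingleton

/-- An adequate module vanishing on an affine base vanishes on flat affines over it. -/
theorem subsingleton_topOb_of_flat (M : BigSite.Mod Scheme.fppfPrecoverage S)
    (hM : Adeq.adequateMod Scheme.fppfPrecoverage S M) {R : CommRingCat.{u}} (a : Spec R ⟶ S)
    (h : Subsingleton ((baseAb R a M).obj (op (topOb R)))) {A : CommRingCat.{u}} (φ : R ⟶ A) (hφ : φ.hom.Flat) :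
    Subsingleton ((baseAb A (Spec.map φ ≫ a) M).obj (op (topOb A))) := by
  obtain ⟨q⟩ := exists_pres (adequate_toMVF_fppf M hM a)
  letI := φ.hom.toAlgebra
  haveI : Module.Flat R A := hφ
  have h0 : Subsingleton (Val ((Adeq.toMVF Scheme.fppfPrecoverage a).obj M) (Adeq.algOf R R)) :=
    subsingleton_of_iso (secPre M) (topIso a).symm h
  exact subsingleton_of_iso (secPre M)
    (selfIso a (Adeq.algOf R A) ≪≫ topIso (Spec.map (CommRingCat.ofHom (algebraMap R A)) ≫ a))
    (subsingleton_val_of_flat q h0 (Adeq.algOf R A))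

/-- An open affine as the image of a spectrum. -/
noncomputable def openTopIso {V : S.Opens} (hV : IsAffineOpen V) :
    (Over.map hV.fromSpec).obj (topOb Γ(S, V)) ≅ (BigSite.zarIncl S).obj V :=
  Over.isoMk (f := (Over.map hV.fromSpec).obj (topOb Γ(S, V))) (g := (BigSite.zarIncl S).obj V) hV.isoSpec.symm
    (by
      show hV.isoSpec.inv ≫ V.ι = 𝟙 _ ≫ hV.fromSpec
      rw [Category.id_comp, IsAffineOpen.isoSpec_inv_ι])

theorem parasitic_of_affine_cover (M : BigSite.Mod Scheme.fppfPrecoverage S)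
    (hM : Adeq.adequateMod Scheme.fppfPrecoverage S M) {ι : Type u} (V : ι → S.Opens) (hV : ∀ i, IsAffineOpen (V i))
    (hcov : (⨆ i, V i) = ⊤)
    (h : ∀ i, Subsingleton (BigSite.sectMod Scheme.fppfPrecoverage M ((BigSite.zarIncl S).obj (V i)))) :
    Adeq.parasitic Scheme.fppfPrecoverage S M := by
  refine parasitic_of_forall_affine M fun U hU y => ?_
  obtain ⟨i, hi⟩ := TopologicalSpace.Opens.mem_iSup.1 (show U.hom y ∈ ⨆ i, V i by rw [hcov]; trivial)
  obtain ⟨W, hW, hyW, hWi⟩ := exists_isAffineOpen_mem_and_subset (x := y) (U := U.hom ⁻¹ᵁ V i) hi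
  refine ⟨Γ(U.left, W), hW.fromSpec, inferInstance, by rw [hW.range_fromSpec]; exact hyW, ?_⟩
  have hflat : (U.hom.appLE (V i) W hWi).hom.Flat :=
    HasRingHomProperty.appLE @Flat U.hom hU ⟨V i, hV i⟩ ⟨W, hW⟩ hWi
  rw [← (hV i).SpecMap_appLE_fromSpec U.hom hW hWi]
  exact subsingleton_topOb_of_flat M hM _ (subsingleton_of_iso (secPre M) (openTopIso (hV i)).symm (h i)) _ hflat

theorem parasiticFor_of_parasitic (M : BigSite.Mod Scheme.fppfPrecoverage S)
    (h : Adeq.parasitic Scheme.fppfPrecoverage S M) : Adeq.parasiticFor Scheme.fppfPrecoverage S M :=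
  fun _ hP _ g hg => h (Over.mk g) (hP.2 hg).1

theorem subsingleton_open_of_parasiticFor (M : BigSite.Mod Scheme.fppfPrecoverage S)
    (h : Adeq.parasiticFor Scheme.fppfPrecoverage S M) (U : S.Opens) :
    Subsingleton (BigSite.sectMod Scheme.fppfPrecoverage M ((BigSite.zarIncl S).obj U)) := by
  let V : ULift.{u} Bool → S.Opens := fun b => if b.down then U else ⊤
  have hP : Presieve.ofArrows (fun b => (V b).toScheme) (fun b => (V b).ι) ∈ Scheme.fppfPrecoverage.coverings S :=
    (Scheme.ofArrows_mem_precoverage_iff fppfP).2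
      ⟨fun x => ⟨⟨false⟩, ⟨x, trivial⟩, rfl⟩, fun b => fppfP_of_isOpenImmersion _ inferInstance⟩
  exact h hP ((V ⟨true⟩).ι) (Presieve.ofArrows.mk _)

theorem parasitic_of_exact {C : ShortComplex (BigSite.Mod Scheme.fppfPrecoverage S)} (hC : C.Exact)
    (p₁ : Adeq.parasitic Scheme.fppfPrecoverage S C.X₁) (p₃ : Adeq.parasitic Scheme.fppfPrecoverage S C.X₃) :
    Adeq.parasitic Scheme.fppfPrecoverage S C.X₂ := by
  refine parasitic_of_forall_affine C.X₂ fun U hU y => ?_
  obtain ⟨W, hW, hyW, -⟩ := exists_isAffineOpen_mem_and_subset (x := y) (U := (⊤ : U.left.Opens)) trivial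
  refine ⟨Γ(U.left, W), hW.fromSpec, inferInstance, by rw [hW.range_fromSpec]; exact hyW, ?_⟩
  let R := Γ(U.left, W)
  let a : Spec R ⟶ S := hW.fromSpec ≫ U.hom
  haveI : Flat U.hom := hU
  haveI : Flat a := inferInstanceAs (Flat (hW.fromSpec ≫ U.hom))
  suffices key : ∀ s : (baseAb R a C.X₂).obj (op (topOb R)), s = 0 from ⟨fun x x' => (key x).trans (key x').symm⟩
  intro s
  haveI : Epi (kernel.lift C.g C.f C.zero) := C.exact_iff_epi_kernel_lift.1 hC
  have hs3 : (secMap a C.g).app _ s = 0 := by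
    haveI : Flat ((Over.map a).obj (topOb R)).hom := inferInstanceAs (Flat (𝟙 _ ≫ a))
    exact (p₃ ((Over.map a).obj (topOb R)) inferInstance).elim _ _
  obtain ⟨k, hk⟩ := ((kernel_sections C.g ((Over.map a).obj (topOb R))).2 s).1 hs3
  obtain ⟨ι, -, B, -, hcov, hP, hlift⟩ := exists_local_lifts a (kernel.lift C.g C.f C.zero) k
  have hk0 : k = 0 := by
    refine (glue_base a (kernel C.g) (fun i => toTop (bOb R (B i))) hcov hP (fun _ => 0) fun i j Z g h _ => ?_).unique
      (fun i => ?_) fun i => map_zero ((baseAb R a (kernel C.g)).map (toTop (bOb R (B i))).op).hom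
    · exact (map_zero ((baseAb R a (kernel C.g)).map g.op).hom).trans (map_zero ((baseAb R a (kernel C.g)).map h.op).hom).symm
    · obtain ⟨t, ht⟩ := hlift i
      haveI : Flat (Spec.map (CommRingCat.ofHom (algebraMap R (B i)))) := (hP i).1
      haveI : Flat ((Over.map a).obj (bOb R (B i))).hom :=
        inferInstanceAs (Flat (Spec.map (CommRingCat.ofHom (algebraMap R (B i))) ≫ a))
      rw [show t = 0 from (p₁ ((Over.map a).obj (bOb R (B i))) inferInstance).elim _ _, map_zero] at ht
      exact ht.symm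
  rw [← hk, hk0]
  exact map_zero _

end Groth.Agent.AdeqShLib
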