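import Groth.Agent.AdeqShLib.AbSurj
import Groth.Agent.AdeqShLib.Parasitic
import Mathlib.CategoryTheory.Functor.Flat

/-!
# Zariski and fppf cohomology of sheaves with exact Čech complexes
-/

set_option autoImplicit false
set_option backward.isDefEq.respectTransparency false
set_option backward.isDefEq.respectTransparency.types false
set_option maxHeartbeats 800000
universe u

namespace Groth.Agent.AdeqShLib

open CategoryTheory Limits AlgebraicGeometry Opposite TopologicalSpace

section Lan

variable {C : Type u} [Category.{u} C] {D : Type (u + 1)} [Category.{u} D]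

set_option backward.defeqAttrib.useBackward true in
/-- Evaluation of a left Kan extension as a colimit over costructured arrows. -/
noncomputable def lanEvalIsoColim {E : Type (u + 2)} [Category.{u + 1} E] (F : Cᵒᵖ ⥤ Dᵒᵖ) (X : Dᵒᵖ)
    [∀ H : Cᵒᵖ ⥤ E, F.HasLeftKanExtension H] [∀ X : Dᵒᵖ, HasColimitsOfShape (CostructuredArrow F X) E] :
    F.lan ⋙ (evaluation Dᵒᵖ E).obj X ≅
      (Functor.whiskeringLeft _ _ E).obj (CostructuredArrow.proj F X) ⋙ colim :=
  NatIso.ofComponents (fun G =>
    IsColimit.coconePointUniqueUpToIso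
    (Functor.isPointwiseLeftKanExtensionLeftKanExtensionUnit F G X)
    (colimit.isColimit _)) (fun {G₁ G₂} φ => by
      apply (Functor.isPointwiseLeftKanExtensionLeftKanExtensionUnit F G₁ X).hom_ext
      intro T
      have h₁ := fun (G : Cᵒᵖ ⥤ E) => IsColimit.comp_coconePointUniqueUpToIso_hom
        (Functor.isPointwiseLeftKanExtensionLeftKanExtensionUnit F G X) (colimit.isColimit _) T
      have h₂ := congr_app (F.lanUnit.naturality φ) T.left
      dsimp at h₁ h₂ ⊢
      simp only [Category.assoc] at h₁ ⊢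
      simp only [Functor.lan, Functor.lanUnit] at h₂ ⊢
      rw [reassoc_of% h₁, NatTrans.naturality_assoc, ← reassoc_of% h₂, h₁,
        ι_colimMap, Functor.whiskerLeft_app]
      rfl)

theorem preservesFiniteLimits_lan_ab (F : C ⥤ D) [RepresentablyFlat F]
    [∀ H : Cᵒᵖ ⥤ AddCommGrpCat.{u + 1}, F.op.HasLeftKanExtension H] :
    PreservesFiniteLimits (F.op.lan : _ ⥤ Dᵒᵖ ⥤ AddCommGrpCat.{u + 1}) := by
  apply preservesFiniteLimits_of_preservesFiniteLimitsOfSize.{u + 1}
  intro J _ _
  apply preservesLimitsOfShape_of_evaluation (F.op.lan : (Cᵒᵖ ⥤ AddCommGrpCat.{u + 1}) ⥤ Dᵒᵖ ⥤ AddCommGrpCat.{u + 1}) J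
  intro K
  haveI : IsFiltered (CostructuredArrow F.op K) :=
    IsFiltered.of_equivalence (structuredArrowOpEquivalence F (unop K))
  haveI : IsFiltered (AsSmall.{u + 1} (CostructuredArrow F.op K)) := IsFiltered.of_equivalence AsSmall.equiv
  haveI : PreservesColimitsOfShape (CostructuredArrow F.op K) (forget AddCommGrpCat.{u + 1}) :=
    preservesColimitsOfShape_of_equiv (AsSmall.equiv (C := CostructuredArrow F.op K)).symm _
  exact preservesLimitsOfShape_of_natIso (lanEvalIsoColim (E := AddCommGrpCat.{u + 1}) F.op K).symm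

end Lan

variable (S : Scheme.{u})

theorem range_subset_of_arrow {X : Over S} {U : S.Opens} (f : X ⟶ (BigSite.zarIncl S).obj U) :
    Set.range X.hom ⊆ (U : Set S) := by
  rintro _ ⟨x, rfl⟩
  rw [← Over.w f]
  exact (f.left x).2

theorem zarIncl_hom_ext {X : Over S} {U : S.Opens} (f g : X ⟶ (BigSite.zarIncl S).obj U) : f = g :=
  Over.OverMorphism.ext ((cancel_mono U.ι).1 ((Over.w f).trans (Over.w g).symm))

theorem representablyFlat_zarIncl : RepresentablyFlat (BigSite.zarIncl S) where
  cofiltered X := by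
    have mk : ∀ U : S.Opens, Set.range X.hom ⊆ (U : Set S) → (X ⟶ (BigSite.zarIncl S).obj U) := fun U h =>
      Over.homMk (IsOpenImmersion.lift U.ι X.hom (h.trans_eq (Scheme.Opens.range_ι U).symm))
        (IsOpenImmersion.lift_fac _ _ _)
    haveI : Nonempty (StructuredArrow X (BigSite.zarIncl S)) :=
      ⟨StructuredArrow.mk (mk ⊤ (fun _ _ => trivial))⟩
    haveI : IsCofilteredOrEmpty (StructuredArrow X (BigSite.zarIncl S)) :=
      { cone_objs := fun A B =>
          ⟨StructuredArrow.mk (mk (A.right ⊓ B.right) fun x hx =>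
              ⟨range_subset_of_arrow S A.hom hx, range_subset_of_arrow S B.hom hx⟩),
            StructuredArrow.homMk (homOfLE inf_le_left) (zarIncl_hom_ext S _ _),
            StructuredArrow.homMk (homOfLE inf_le_right) (zarIncl_hom_ext S _ _), trivial⟩
        cone_maps := fun A B f g => ⟨A, 𝟙 A, by
          rw [StructuredArrow.hom_ext f g (Subsingleton.elim _ _)]⟩ }
    exact { }

variable [BigSite.ZarCont Scheme.fppfPrecoverage S]

theorem preservesMonomorphisms_piZarPull :
    (BigSite.piZarPull Scheme.fppfPrecoverage S).PreservesMonomorphisms := by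
  haveI := representablyFlat_zarIncl S
  haveI : PreservesFiniteLimits ((BigSite.zarIncl S).op.lan : _ ⥤ (Over S)ᵒᵖ ⥤ AddCommGrpCat.{u + 1}) :=
    preservesFiniteLimits_lan_ab _
  haveI : PreservesFiniteLimits (BigSite.piZarPull Scheme.fppfPrecoverage S) :=
    Functor.sheafPullbackConstruction.preservesFiniteLimits (BigSite.zarIncl S) AddCommGrpCat.{u + 1} _ _
  infer_instance

theorem injective_resZar (I : BigSite.Ab Scheme.fppfPrecoverage S) [Injective I] :
    Injective ((BigSite.resZar Scheme.fppfPrecoverage S).obj I) :=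
  haveI := preservesMonomorphisms_piZarPull S
  Injective.injective_of_adjoint (BigSite.piZarAdj Scheme.fppfPrecoverage S) I

theorem shortExact_resZar {C : ShortComplex (BigSite.Ab Scheme.fppfPrecoverage S)} (hC : C.ShortExact)
    (h₁ : CechExact C.X₁) : (C.map (BigSite.resZar Scheme.fppfPrecoverage S)).ShortExact := by
  let G := BigSite.resZar Scheme.fppfPrecoverage S
  haveI : PreservesLimitsOfSize.{0, 0} G := (BigSite.piZarAdj Scheme.fppfPrecoverage S).rightAdjoint_preservesLimits
  haveI := hC.mono_f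
  haveI : Sheaf.IsLocallySurjective (G.map C.g) := by
    refine ⟨fun {U} s => ?_⟩
    intro x hx
    obtain ⟨W, hW, hxW, hWU⟩ := exists_isAffineOpen_mem_and_subset (x := x) (U := U) hx
    let e := openTopIso hW
    let m := (BigSite.zarIncl S).map (homOfLE hWU)
    obtain ⟨t, ht⟩ := ab_surjective_top hW.fromSpec hC h₁ (C.X₃.obj.map (e.hom ≫ m).op s)
    refine ⟨W, homOfLE hWU, ⟨C.X₂.obj.map e.inv.op t, ?_⟩, hxW⟩
    refine (NatTrans.naturality_apply C.g.hom e.inv.op t).trans ((congrArg _ ht).trans ?_)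
    rw [← ConcreteCategory.comp_apply, ← Functor.map_comp, ← op_comp, Iso.inv_hom_id_assoc]
    rfl
  haveI : Epi (G.map C.g) := inferInstance
  haveI : Mono (G.map C.f) := inferInstance
  exact { exact := hC.exact.map_of_mono_of_preservesKernel G inferInstance inferInstance
          mono_f := inferInstanceAs (Mono (G.map C.f))
          epi_g := inferInstanceAs (Epi (G.map C.g)) }

open Abelian in
/-- The connecting map on cohomology, out of degree `q`. -/
noncomputable def connH {A : Type*} [Category A] [Abelian A] [HasExt.{u + 1} A] (Z : A) {C : ShortComplex A}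
    (hC : C.ShortExact) (q : ℕ) : Ext Z C.X₃ q →+ Ext Z C.X₁ (q + 1) :=
  hC.extClass.postcomp Z rfl

section ConnH

open Abelian

variable {A : Type*} [Category A] [Abelian A] [HasExt.{u + 1} A] (Z : A) {C : ShortComplex A} (hC : C.ShortExact)
  [Injective C.X₂]

theorem connH_surjective (q : ℕ) : Function.Surjective (connH Z hC q) := fun x => by
  obtain ⟨y, hy⟩ := Ext.covariant_sequence_exact₁ _ hC x (Ext.eq_zero_of_injective _) rfl
  exact ⟨y, hy⟩

theorem connH_bijective (q : ℕ) : Function.Bijective (connH Z hC (q + 1)) := by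
  refine ⟨(injective_iff_map_eq_zero _).2 fun x hx => ?_, connH_surjective Z hC (q + 1)⟩
  obtain ⟨y, hy⟩ := Ext.covariant_sequence_exact₃ _ hC x rfl hx
  rw [← hy, Ext.eq_zero_of_injective y, Ext.zero_comp]

theorem connH_zero_ker : (connH Z hC 0).ker = ((Ext.mk₀ C.g).postcomp Z (add_zero 0)).range := by
  ext x
  refine ⟨fun hx => ?_, ?_⟩
  · obtain ⟨y, hy⟩ := Ext.covariant_sequence_exact₃ _ hC x rfl hx
    exact ⟨y, hy⟩
  · rintro ⟨y, rfl⟩
    show ((y.comp (Ext.mk₀ C.g) (add_zero 0)).comp hC.extClass rfl) = 0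
    rw [Ext.comp_assoc_of_second_deg_zero, hC.comp_extClass, Ext.comp_zero]

end ConnH

/-- Zariski and big-site sections over the whole scheme. -/
noncomputable def topObIso : (BigSite.zarIncl S).obj (⊤ : S.Opens) ≅ Over.mk (𝟙 S) :=
  Over.isoMk (f := (BigSite.zarIncl S).obj (⊤ : S.Opens)) (g := Over.mk (𝟙 S)) S.topIso (Category.comp_id _)

/-- Degree zero comparison. -/
noncomputable def zarH0 (F : BigSite.Ab Scheme.fppfPrecoverage S) :
    EtZar.H ((BigSite.resZar Scheme.fppfPrecoverage S).obj F) 0 ≃+ Sheaf.H F 0 :=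
  (Sheaf.H.equiv₀ _ isTerminalTop).trans
    ((F.obj.mapIso (topObIso S).symm.op).addCommGroupIsoToAddEquiv.trans (Sheaf.H.equiv₀ F Over.mkIdTerminal).symm)

theorem zarH0_naturality {F G : BigSite.Ab Scheme.fppfPrecoverage S} (g : F ⟶ G)
    (x : EtZar.H ((BigSite.resZar Scheme.fppfPrecoverage S).obj F) 0) :
    zarH0 S G (Sheaf.H.map ((BigSite.resZar Scheme.fppfPrecoverage S).map g) 0 x) = Sheaf.H.map g 0 (zarH0 S F x) := by
  show (Sheaf.H.equiv₀ G Over.mkIdTerminal).symm (G.obj.map (topObIso S).symm.hom.op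
      (Sheaf.H.equiv₀ _ isTerminalTop (Sheaf.H.map ((BigSite.resZar Scheme.fppfPrecoverage S).map g) 0 x))) =
    Sheaf.H.map g 0 ((Sheaf.H.equiv₀ F Over.mkIdTerminal).symm (F.obj.map (topObIso S).symm.hom.op
      (Sheaf.H.equiv₀ _ isTerminalTop x)))
  rw [← Sheaf.H.equiv₀_naturality, Sheaf.H.equiv₀_symm_naturality]
  exact congrArg _ (NatTrans.naturality_apply g.hom _ _).symm

/-- Zariski and fppf cohomology agree on sheaves with exact Čech complexes. -/
theorem nonempty_zarH_equiv : ∀ (q : ℕ) (F : BigSite.Ab Scheme.fppfPrecoverage S), CechExact F →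
    Nonempty (EtZar.H ((BigSite.resZar Scheme.fppfPrecoverage S).obj F) q ≃+ Sheaf.H F q) := by
  intro q
  induction q with
  | zero => exact fun F _ => ⟨zarH0 S F⟩
  | succ q ih =>
    intro F hF
    let C := ShortComplex.mk (Injective.ι F) (cokernel.π (Injective.ι F)) (cokernel.condition _)
    have hC : C.ShortExact := { exact := ShortComplex.exact_of_g_is_cokernel C (cokernelIsCokernel _) }
    haveI : Injective C.X₂ := Injective.injective_under F
    have hZ := shortExact_resZar S hC hF
    haveI : Injective (C.map (BigSite.resZar Scheme.fppfPrecoverage S)).X₂ := injective_resZar S C.X₂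
    let δ := connH ((constantSheaf (QuotSh.J Scheme.fppfPrecoverage S) AddCommGrpCat.{u + 1}).obj
      (AddCommGrpCat.of (ULift.{u + 1} ℤ))) hC q
    let δ' := connH ((constantSheaf (Opens.grothendieckTopology S) AddCommGrpCat.{u + 1}).obj
      (AddCommGrpCat.of (ULift.{u + 1} ℤ))) hZ q
    cases q with
    | zero =>
      let e := zarH0 S C.X₃
      have hker : δ'.ker.map e.toAddMonoidHom = δ.ker := by
        rw [connH_zero_ker, connH_zero_ker]
        ext x
        refine ⟨?_, ?_⟩
        · rintro ⟨_, ⟨y, rfl⟩, rfl⟩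
          exact ⟨zarH0 S C.X₂ y, (zarH0_naturality S C.g y).symm⟩
        · rintro ⟨y, rfl⟩
          exact ⟨_, ⟨(zarH0 S C.X₂).symm y, rfl⟩,
            (zarH0_naturality S C.g _).trans (congrArg _ ((zarH0 S C.X₂).apply_symm_apply y))⟩
      exact ⟨(QuotientAddGroup.quotientKerEquivOfSurjective δ' (connH_surjective _ hZ 0)).symm.trans
        ((QuotientAddGroup.congr _ _ e hker).trans
          (QuotientAddGroup.quotientKerEquivOfSurjective δ (connH_surjective _ hC 0)))⟩
    | succ q =>
      obtain ⟨e⟩ := ih C.X₃ (cechExact_quotient hC hF (cechExact_of_injective C.X₂))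
      exact ⟨(AddEquiv.ofBijective δ' (connH_bijective _ hZ q)).symm.trans
        (e.trans (AddEquiv.ofBijective δ (connH_bijective _ hC q)))⟩

end Groth.Agent.AdeqShLib
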