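import Groth.Agent.AdeqShLib.AbVanish
import Mathlib.CategoryTheory.Sites.EpiMono
import Mathlib.Algebra.Homology.DerivedCategory.Ext.EnoughInjectives

/-!
# Vanishing of higher cohomology on affine objects
-/

set_option autoImplicit false
set_option backward.isDefEq.respectTransparency false
set_option backward.isDefEq.respectTransparency.types false
set_option maxHeartbeats 800000
universe u w

namespace Groth.Agent.AdeqShLib

open CategoryTheory Limits AlgebraicGeometry Opposite TensorProduct Groth.Agent.AdeqLib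

variable {S : Scheme.{u}} {R : CommRingCat.{u}} (a : Spec R ⟶ S)

/-- Gluing along a covering of an object over the affine base. -/
theorem ab_glue (F : BigSite.Ab Scheme.fppfPrecoverage S) {W : Over (Spec R)} {ι : Type w} {V : ι → Over (Spec R)}
    (f : ∀ i, V i ⟶ W) (hs : ∀ x : W.left, ∃ i, x ∈ Set.range (f i).left) (hP : ∀ i, fppfP (f i).left)
    (x : ∀ i, (abBase R a F).obj (op (V i)))
    (hx : ∀ i j (Z : Over (Spec R)) (g : Z ⟶ V i) (h : Z ⟶ V j), g ≫ f i = h ≫ f j →
      (abBase R a F).map g.op (x i) = (abBase R a F).map h.op (x j)) :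
    ∃! t : (abBase R a F).obj (op W), ∀ i, (abBase R a F).map (f i).op t = x i := by
  refine existsUnique_glue (F.property) (fun i => (Over.map a).map (f i))
    (generate_mem_J fppfP _ hs hP) x fun i j Z g h e => ?_
  let Z₀ : Over (Spec R) := Over.mk (g.left ≫ (V i).hom)
  have hl : g.left ≫ (f i).left = h.left ≫ (f j).left := congrArg CommaMorphism.left e
  let g₀ : Z₀ ⟶ V i := Over.homMk g.left rfl
  let h₀ : Z₀ ⟶ V j := Over.homMk h.left (by
    show h.left ≫ (V j).hom = g.left ≫ (V i).hom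
    rw [← Over.w (f i), ← Over.w (f j), ← Category.assoc, ← Category.assoc, hl])
  have h0 := hx i j Z₀ g₀ h₀ (Over.OverMorphism.ext hl)
  let e₀ : Z ⟶ (Over.map a).obj Z₀ := Over.homMk (𝟙 _) ((Category.id_comp _).trans
    ((Category.assoc _ _ _).trans (Over.w g)))
  have hg : g = e₀ ≫ (Over.map a).map g₀ := Over.OverMorphism.ext (Category.id_comp _).symm
  have hh : h = e₀ ≫ (Over.map a).map h₀ := Over.OverMorphism.ext (Category.id_comp _).symm
  rw [hg, hh, op_comp, op_comp, Functor.map_comp, Functor.map_comp]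
  exact congrArg ((F.obj).map e₀.op) h0

theorem ab_eq_zero_of_isEmpty (F : BigSite.Ab Scheme.fppfPrecoverage S) (W : Over (Spec R)) [IsEmpty W.left]
    (x : (abBase R a F).obj (op W)) : x = 0 :=
  (ab_glue a F (W := W) (ι := PEmpty.{1}) (V := fun i => i.elim) (fun i => i.elim) (fun x => isEmptyElim x)
    (fun i => i.elim) (fun i => i.elim) (fun i => i.elim)).unique (fun i => i.elim) (fun i => i.elim)

theorem ab_pi_section {ι : Type u} (C : ι → Adeq.Alg R) [Finite ι] (F : BigSite.Ab Scheme.fppfPrecoverage S)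
    (t : ∀ i, (abBase R a F).obj (op (bOb R (C i)))) :
    ∃! x : (abBase R a F).obj (op (bOb R (∀ i, (C i : Type u)))),
      ∀ i, (abBase R a F).map (piInc C i).op x = t i := by
  refine ab_glue a F (piInc C) (piInc_surjective C) (fppf_piInc C) t fun i j Z g h e => ?_
  by_cases hij : i = j
  · subst hij
    haveI := isOpenImmersion_piInc C i
    have : g = h := Over.OverMorphism.ext ((cancel_mono (piInc C i).left).1 (congrArg CommaMorphism.left e))
    rw [this]
  · haveI : IsEmpty Z.left := ⟨fun z => hij (piInc_disjoint C (g.left z) (h.left z) (by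
      have h1 := congrArg (fun f => f.base z) (congrArg CommaMorphism.left e)
      simpa using h1))⟩
    rw [ab_eq_zero_of_isEmpty a F Z ((abBase R a F).map g.op (t i)),
      ab_eq_zero_of_isEmpty a F Z ((abBase R a F).map h.op (t j))]

/-- A map of abelian sheaves on sections. -/
noncomputable def abMap {F G : BigSite.Ab Scheme.fppfPrecoverage S} (g : F ⟶ G) : abBase R a F ⟶ abBase R a G :=
  Functor.whiskerLeft (Over.map a).op g.hom

theorem ab_local_lifts {F G : BigSite.Ab Scheme.fppfPrecoverage S} (g : F ⟶ G) [Epi g]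
    (s : (abBase R a G).obj (op (topOb R))) :
    ∃ (ι : Type u) (_ : Finite ι) (C : ι → Adeq.Alg R), Module.FaithfullyFlat R (∀ i, (C i : Type u)) ∧
      (∀ x : Spec R, ∃ i, x ∈ Set.range (Spec.map (CommRingCat.ofHom (algebraMap R (C i))))) ∧
      (∀ i, fppfP (Spec.map (CommRingCat.ofHom (algebraMap R (C i))))) ∧
      ∀ i, ∃ t : (abBase R a F).obj (op (bOb R (C i))),
        (abMap a g).app _ t = (abBase R a G).map (toTop (bOb R (C i))).op s := by
  haveI : Sheaf.IsLocallySurjective g := (Sheaf.isLocallySurjective_iff_epi' _ g).2 inferInstance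
  obtain ⟨ι, hι, C, hC, hs, hP, hmap⟩ := exists_ff_refine_top a _
    (Presheaf.imageSieve_mem (QuotSh.J Scheme.fppfPrecoverage S) g.hom s)
  exact ⟨ι, hι, C, hC, hs, hP, hmap⟩

theorem ab_sections_exact' {C : ShortComplex (BigSite.Ab Scheme.fppfPrecoverage S)} (hC : C.ShortExact) (X : Over S) :
    Function.Injective (C.f.hom.app (op X)) ∧ Function.Exact (C.f.hom.app (op X)) (C.g.hom.app (op X)) := by
  let E : BigSite.Ab Scheme.fppfPrecoverage S ⥤ Ab.{u + 1} := sheafToPresheaf _ _ ⋙ (evaluation _ _).obj (op X)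
  haveI := hC.mono_f
  refine ⟨(AddCommGrpCat.mono_iff_injective (E.map C.f)).1 inferInstance, ?_⟩
  have h := hC.exact.map_of_mono_of_preservesKernel E inferInstance inferInstance
  rw [ShortComplex.ab_exact_iff] at h
  exact fun y => ⟨h y, fun ⟨x, hx⟩ => hx ▸ ConcreteCategory.congr_hom (C.map E).zero x⟩

theorem ab_sections_exact (R : CommRingCat.{u}) (a : Spec R ⟶ S) (B : Type u) [CommRing B] [Algebra R B]
    {C : ShortComplex (BigSite.Ab Scheme.fppfPrecoverage S)} (hC : C.ShortExact) (k : ℕ) :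
    Function.Injective ((abMap a C.f).app (op (qOb R B k))) ∧
      Function.Exact ((abMap a C.f).app (op (qOb R B k))) ((abMap a C.g).app (op (qOb R B k))) :=
  ab_sections_exact' hC _

/-- A short exact sequence with adequate kernel is exact on sections over affines. -/
theorem ab_surjective_top {C : ShortComplex (BigSite.Ab Scheme.fppfPrecoverage S)} (hC : C.ShortExact)
    (h₁ : CechExact C.X₁) (s : (abBase R a C.X₃).obj (op (topOb R))) :
    ∃ t, (abMap a C.g).app _ t = s := by
  haveI := hC.epi_g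
  obtain ⟨ι, hι, A, hA, hs, hP, hlift⟩ := ab_local_lifts a C.g s
  haveI := hι
  haveI := hA
  choose t ht using hlift
  let G₁ := abBase R a C.X₁
  let G₂ := abBase R a C.X₂
  let G₃ := abBase R a C.X₃
  let B := ∀ i, (A i : Type u)
  obtain ⟨tB, htB, -⟩ := ab_pi_section a A C.X₂ t
  have hgB : (abMap a C.g).app _ tB = G₃.map (toTop (bOb R B)).op s := by
    refine (ab_glue a C.X₃ (piInc A) (piInc_surjective A) (fppf_piInc A)
      (fun i => G₃.map (toTop (bOb R (A i))).op s) fun i j Z g h _ => ?_).unique (fun i => ?_) fun i => ?_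
    · rw [← ConcreteCategory.comp_apply, ← ConcreteCategory.comp_apply, ← G₃.map_comp, ← G₃.map_comp, ← op_comp,
        ← op_comp, toTop_unique (g ≫ _), toTop_unique (h ≫ _)]
    · rw [← ht i, ← htB i]
      exact (NatTrans.naturality_apply (abMap a C.g) _ tB).symm
    · rw [← ConcreteCategory.comp_apply, ← G₃.map_comp, ← op_comp, toTop_unique (piInc A i ≫ _)]
  let r : ∀ k, Fin k → G₂.obj (op (qOb R B k)) := fun k j => G₂.map (qPr R B k j).op tB
  have hr : ∀ k (i : Fin (k + 1)) (j : Fin k), G₂.map (qFaceOb R B k i).op (r k j) = r (k + 1) (i.succAbove j) := by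
    intro k i j
    simp only [r]
    rw [← ConcreteCategory.comp_apply, ← G₂.map_comp, ← op_comp, qFaceOb_qPr]
  have hgr : ∀ k (j : Fin k), (abMap a C.g).app _ (r k j) = G₃.map (toTop (qOb R B k)).op s := by
    intro k j
    refine (NatTrans.naturality_apply (abMap a C.g) _ tB).trans ((congrArg _ hgB).trans ?_)
    rw [← ConcreteCategory.comp_apply, ← G₃.map_comp, ← op_comp, toTop_unique (qPr R B k j ≫ _)]
  have hex := ab_sections_exact R a B hC
  obtain ⟨c, hc⟩ := ((hex 2).2 (r 2 1 - r 2 0)).1 (by rw [map_sub, hgr, hgr, sub_self])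
  obtain ⟨y, hy⟩ := h₁ R a B 0 c ((hex 3).1 (by
    rw [map_sum, map_zero]
    refine (Finset.sum_congr rfl fun (i : Fin 3) _ => (map_zsmul ((abMap a C.f).app (op (qOb R B 3))).hom _ _).trans
      (congrArg ((-1 : ℤ) ^ (i : ℕ) • ·) (((NatTrans.naturality_apply (abMap a C.f) _ c).trans (congrArg _ hc)).trans
        ((map_sub (G₂.map (qFaceOb R B 2 i).op).hom (r 2 1) (r 2 0)).trans
          (congrArg₂ (· - ·) (hr 2 i 1) (hr 2 i 0)))))).trans ?_
    simp [Fin.sum_univ_three, Fin.succAbove]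
    try abel))
  let t' := r 1 0 - (abMap a C.f).app _ y
  have ht' : G₂.map (qFaceOb R B 1 0).op t' = G₂.map (qFaceOb R B 1 1).op t' := by
    have h := congrArg ((abMap a C.f).app _) hy
    rw [map_sum, Fin.sum_univ_two, map_zsmul, map_zsmul, NatTrans.naturality_apply, NatTrans.naturality_apply, hc] at h
    simp only [Fin.val_zero, Fin.val_one, pow_zero, pow_one, one_zsmul, neg_zsmul] at h
    simp only [t', map_sub, hr]
    rw [Fin.succAbove_zero, show (1 : Fin 2).succAbove (0 : Fin 1) = 0 from rfl, show Fin.succ (0 : Fin 1) = 1 from rfl]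
    linear_combination (norm := abel) -h
  have hcompat : ∀ (Z : Over (Spec R)) (g h : Z ⟶ qOb R B 1), G₂.map g.op t' = G₂.map h.op t' := by
    intro Z g h
    obtain ⟨u, hu⟩ := exists_qOb_lift R B (k := 2) ![g ≫ qPr R B 1 0, h ≫ qPr R B 1 0]
    have hg : u ≫ qFaceOb R B 1 1 = g := qOb_hom_ext R B fun j => by
      fin_cases j; rw [Category.assoc, qFaceOb_qPr]; exact hu 0
    have hh : u ≫ qFaceOb R B 1 0 = h := qOb_hom_ext R B fun j => by
      fin_cases j; rw [Category.assoc, qFaceOb_qPr]; exact hu 1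
    rw [← hg, ← hh, op_comp, op_comp, G₂.map_comp, G₂.map_comp, ConcreteCategory.comp_apply,
      ConcreteCategory.comp_apply, ht']
  choose v hv using fun i => exists_qOb_lift R B (Z := bOb R (A i)) (k := 1) fun _ => piInc A i
  obtain ⟨x, hx, -⟩ := ab_glue a C.X₂ (fun i => toTop (bOb R (A i))) hs hP (fun i => G₂.map (v i).op t')
    fun i j Z g h _ => by
      rw [← ConcreteCategory.comp_apply, ← ConcreteCategory.comp_apply, ← G₂.map_comp, ← G₂.map_comp, ← op_comp,
        ← op_comp]
      exact hcompat Z _ _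
  refine ⟨x, (ab_glue a C.X₃ (fun i => toTop (bOb R (A i))) hs hP (fun i => G₃.map (toTop (bOb R (A i))).op s)
    fun i j Z g h _ => ?_).unique (fun i => ?_) fun i => rfl⟩
  · rw [← ConcreteCategory.comp_apply, ← ConcreteCategory.comp_apply, ← G₃.map_comp, ← G₃.map_comp, ← op_comp,
      ← op_comp, toTop_unique (g ≫ _), toTop_unique (h ≫ _)]
  · refine (NatTrans.naturality_apply (abMap a C.g) _ x).symm.trans ?_
    rw [hx i, NatTrans.naturality_apply, map_sub, (hex 1).2.apply_apply_eq_zero, sub_zero, hgr,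
      ← ConcreteCategory.comp_apply, ← G₃.map_comp, ← op_comp, toTop_unique (v i ≫ _)]

theorem dd_zero (R : CommRingCat.{u}) (a : Spec R ⟶ S) (B : Type u) [CommRing B] [Algebra R B]
    (F : BigSite.Ab Scheme.fppfPrecoverage S) (k : ℕ) (x : (abBase R a F).obj (op (qOb R B (k + 1)))) :
    ∑ i : Fin (k + 3), (-1 : ℤ) ^ (i : ℕ) • (abBase R a F).map (qFaceOb R B (k + 2) i).op
      (∑ j : Fin (k + 2), (-1 : ℤ) ^ (j : ℕ) • (abBase R a F).map (qFaceOb R B (k + 1) j).op x) = 0 := by
  let y : FreeAbelianGroup (ULift.{u + 1} (qS' R a B (k + 3) ⟶ qS' R a B (k + 3))) := FreeAbelianGroup.of ⟨𝟙 _⟩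
  have h := congrArg ((freeHom F.obj x).app (op (qS' R a B (k + 3))))
    (ConcreteCategory.congr_hom (NatTrans.congr_app (freeD_comp R a B k) (op (qS' R a B (k + 3)))) y)
  refine Eq.trans ?_ (h.trans (map_zero ((freeHom F.obj x).app (op (qS' R a B (k + 3)))).hom))
  show _ = (freeHom F.obj x).app _ ((freeD R a B (k + 1)).app _ ((freeD R a B (k + 2)).app _ y))
  refine Eq.trans ?_ (congrArg (fun v => (freeHom F.obj x).app (op (qS' R a B (k + 3)))
    ((freeD R a B (k + 1)).app (op (qS' R a B (k + 3))) v)) (freeD_of R a B (k + 2) (op (qS' R a B (k + 3))) (𝟙 _))).symm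
  simp only [map_sum, map_zsmul]
  refine Finset.sum_congr rfl fun i _ => congrArg ((-1 : ℤ) ^ (i : ℕ) • ·) ?_
  refine Eq.trans ?_ (congrArg ((freeHom F.obj x).app (op (qS' R a B (k + 3)))) (freeD_of R a B (k + 1) _ _)).symm
  simp only [map_sum, map_zsmul]
  refine Finset.sum_congr rfl fun j _ => congrArg ((-1 : ℤ) ^ (j : ℕ) • ·) ?_
  refine Eq.trans ?_ (freeHom_of F.obj x _ _).symm
  refine (ConcreteCategory.congr_hom (F.obj.map_comp (qF' R a B (k + 1) j).op (qF' R a B (k + 2) i).op) x).symm.trans ?_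
  simp only [← op_comp, Category.id_comp]

theorem ab_surjective_of_affine {T : Scheme.{u}} [IsAffine T] {C : ShortComplex (BigSite.Ab Scheme.fppfPrecoverage T)}
    (hC : C.ShortExact) (h₁ : CechExact C.X₁) (s : C.X₃.obj.obj (op (Over.mk (𝟙 T)))) :
    ∃ t, C.g.hom.app (op (Over.mk (𝟙 T))) t = s := by
  let e : (Over.map T.isoSpec.inv).obj (topOb Γ(T, ⊤)) ≅ Over.mk (𝟙 T) :=
    Over.isoMk (f := (Over.map T.isoSpec.inv).obj (topOb Γ(T, ⊤))) (g := Over.mk (𝟙 T)) T.isoSpec.symm
      ((Category.comp_id _).trans (Category.id_comp _).symm)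
  obtain ⟨t, ht⟩ := ab_surjective_top T.isoSpec.inv hC h₁ (C.X₃.obj.map e.hom.op s)
  refine ⟨C.X₂.obj.map e.inv.op t, (NatTrans.naturality_apply C.g.hom e.inv.op t).trans ?_⟩
  refine (congrArg _ ht).trans ?_
  rw [← ConcreteCategory.comp_apply, ← Functor.map_comp, ← op_comp, e.inv_hom_id, op_id]
  exact ConcreteCategory.congr_hom (C.X₃.obj.map_id _) s

/-- A fibre power as an affine base over itself. -/
noncomputable def qTopIso (R : CommRingCat.{u}) (a : Spec R ⟶ S) (B : Type u) [CommRing B] [Algebra R B] (k : ℕ) :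
    (Over.map a).obj (qOb R B k) ≅
      (Over.map (Spec.map (CommRingCat.ofHom (algebraMap R (Cq R B k))) ≫ a)).obj (topOb (CommRingCat.of (Cq R B k))) :=
  qObIso R B a k ≪≫ selfIso a (qAlg B k) ≪≫ topIso (Spec.map (CommRingCat.ofHom (algebraMap R (Cq R B k))) ≫ a)

theorem ab_surjective_qOb {C : ShortComplex (BigSite.Ab Scheme.fppfPrecoverage S)} (hC : C.ShortExact)
    (h₁ : CechExact C.X₁) (R : CommRingCat.{u}) (a : Spec R ⟶ S) (B : Type u) [CommRing B] [Algebra R B] (k : ℕ)
    (s : (abBase R a C.X₃).obj (op (qOb R B k))) : ∃ t, (abMap a C.g).app _ t = s := by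
  let e := qTopIso R a B k
  obtain ⟨t, ht⟩ := ab_surjective_top (Spec.map (CommRingCat.ofHom (algebraMap R (Cq R B k))) ≫ a) hC h₁
    (C.X₃.obj.map e.inv.op s)
  refine ⟨C.X₂.obj.map e.hom.op t, (NatTrans.naturality_apply C.g.hom e.hom.op t).trans ?_⟩
  refine (congrArg _ ht).trans ?_
  rw [← ConcreteCategory.comp_apply, ← Functor.map_comp, ← op_comp, e.hom_inv_id, op_id]
  exact ConcreteCategory.congr_hom (C.X₃.obj.map_id _) s

/-- Quotients inherit exactness of Čech complexes. -/
theorem cechExact_quotient {C : ShortComplex (BigSite.Ab Scheme.fppfPrecoverage S)} (hC : C.ShortExact)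
    (h₁ : CechExact C.X₁) (h₂ : CechExact C.X₂) : CechExact C.X₃ := by
  intro R a B _ _ _ k x hx
  obtain ⟨x₂, rfl⟩ := ab_surjective_qOb hC h₁ R a B (k + 2) x
  have hex := ab_sections_exact R a B hC
  let G₁ := abBase R a C.X₁
  let G₂ := abBase R a C.X₂
  let d₁ := fun l (y : G₁.obj (op (qOb R B l))) =>
    ∑ i : Fin (l + 1), (-1 : ℤ) ^ (i : ℕ) • G₁.map (qFaceOb R B l i).op y
  let d₂ := fun l (y : G₂.obj (op (qOb R B l))) =>
    ∑ i : Fin (l + 1), (-1 : ℤ) ^ (i : ℕ) • G₂.map (qFaceOb R B l i).op y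
  have hf : ∀ l y, (abMap a C.f).app _ (d₁ l y) = d₂ l ((abMap a C.f).app _ y) := fun l y => by
    rw [map_sum]
    exact Finset.sum_congr rfl fun i _ =>
      (map_zsmul _ _ _).trans (congrArg _ (NatTrans.naturality_apply (abMap a C.f) _ y))
  have hg : ∀ l y, (abMap a C.g).app _ (d₂ l y) =
      ∑ i : Fin (l + 1), (-1 : ℤ) ^ (i : ℕ) • (abBase R a C.X₃).map (qFaceOb R B l i).op ((abMap a C.g).app _ y) :=
    fun l y => by
    rw [map_sum]
    exact Finset.sum_congr rfl fun i _ =>
      (map_zsmul _ _ _).trans (congrArg _ (NatTrans.naturality_apply (abMap a C.g) _ y))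
  obtain ⟨c, hc⟩ := ((hex (k + 3)).2 (d₂ (k + 2) x₂)).1 ((hg (k + 2) x₂).trans hx)
  obtain ⟨b, hb⟩ := h₁ R a B (k + 1) c ((hex (k + 4)).1 (by
    show (abMap a C.f).app _ (d₁ (k + 3) c) = (abMap a C.f).app _ 0
    rw [hf, hc, map_zero]
    exact dd_zero R a B C.X₂ (k + 1) x₂))
  obtain ⟨y₂, hy₂⟩ := h₂ R a B k (x₂ - (abMap a C.f).app _ b) (by
    show d₂ (k + 2) (x₂ - _) = 0
    have hsub : ∀ p q, d₂ (k + 2) (p - q) = d₂ (k + 2) p - d₂ (k + 2) q := fun p q => by
      simp only [d₂, map_sub, smul_sub, Finset.sum_sub_distrib]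
    rw [hsub, ← hf]
    exact sub_eq_zero.2 (hc.symm.trans (congrArg _ hb.symm)))
  refine ⟨(abMap a C.g).app _ y₂, (hg (k + 1) y₂).symm.trans ((congrArg _ hy₂).trans ?_)⟩
  rw [map_sub, (hex (k + 2)).2.apply_apply_eq_zero, sub_zero]

theorem subsingleton_H_of_cechExact {T : Scheme.{u}} [IsAffine T] :
    ∀ (n : ℕ) (F : BigSite.Ab Scheme.fppfPrecoverage T), CechExact F → Subsingleton (Sheaf.H F (n + 1)) := by
  intro n
  induction n with
  | zero =>
    intro F hF
    let C := ShortComplex.mk (Injective.ι F) (cokernel.π (Injective.ι F)) (cokernel.condition _)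
    have hC : C.ShortExact := { exact := ShortComplex.exact_of_g_is_cokernel C (cokernelIsCokernel _) }
    haveI : Injective C.X₂ := Injective.injective_under F
    refine subsingleton_of_forall_eq 0 fun x => ?_
    obtain ⟨y, rfl⟩ := Abelian.Ext.covariant_sequence_exact₁ _ hC x (Abelian.Ext.eq_zero_of_injective _) (zero_add 1)
    let hT : IsTerminal (Over.mk (𝟙 T)) := Over.mkIdTerminal
    obtain ⟨t, ht⟩ := ab_surjective_of_affine hC hF (Sheaf.H.equiv₀ C.X₃ hT y)
    have hy : y = Sheaf.H.map C.g 0 ((Sheaf.H.equiv₀ C.X₂ hT).symm t) := by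
      rw [Sheaf.H.equiv₀_symm_naturality]
      exact ((Sheaf.H.equiv₀ C.X₃ hT).eq_symm_apply.2 ht.symm)
    rw [hy, Sheaf.H.map_apply, Abelian.Ext.comp_assoc_of_second_deg_zero,
      hC.comp_extClass, Abelian.Ext.comp_zero]
  | succ n ih =>
    intro F hF
    let C := ShortComplex.mk (Injective.ι F) (cokernel.π (Injective.ι F)) (cokernel.condition _)
    have hC : C.ShortExact := { exact := ShortComplex.exact_of_g_is_cokernel C (cokernelIsCokernel _) }
    haveI : Injective C.X₂ := Injective.injective_under F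
    refine subsingleton_of_forall_eq 0 fun x => ?_
    obtain ⟨y, rfl⟩ := Abelian.Ext.covariant_sequence_exact₁ _ hC x (Abelian.Ext.eq_zero_of_injective _) rfl
    rw [(ih C.X₃ (cechExact_quotient hC hF (cechExact_of_injective C.X₂))).elim y 0, Abelian.Ext.zero_comp]

end Groth.Agent.AdeqShLib
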