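import Groth.Agent.AdeqShLib.Ext
import Mathlib.CategoryTheory.Sites.EpiMono

/-!
# Vanishing of cohomology on affine objects from exactness of Čech complexes
-/

set_option autoImplicit false
set_option backward.isDefEq.respectTransparency false
set_option backward.isDefEq.respectTransparency.types false
set_option maxHeartbeats 800000
universe u w

namespace Groth.Agent.AdeqShLib

open CategoryTheory Limits AlgebraicGeometry Opposite TensorProduct Groth.Agent.AdeqLib

variable {S : Scheme.{u}}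

/-- Sections of an abelian sheaf over objects over an affine base. -/
noncomputable abbrev abBase (R : CommRingCat.{u}) (a : Spec R ⟶ S) (F : BigSite.Ab Scheme.fppfPrecoverage S) :
    (Over (Spec R))ᵒᵖ ⥤ Ab.{u + 1} :=
  (Over.map a).op ⋙ F.obj

/-- The Čech complexes of faithfully flat maps of affines are exact in positive degrees. -/
def CechExact (F : BigSite.Ab Scheme.fppfPrecoverage S) : Prop :=
  ∀ (R : CommRingCat.{u}) (a : Spec R ⟶ S) (B : Type u) [CommRing B] [Algebra R B] [Module.FaithfullyFlat R B]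
    (k : ℕ) (x : (abBase R a F).obj (op (qOb R B (k + 2)))),
    ∑ i : Fin (k + 3), (-1 : ℤ) ^ (i : ℕ) • (abBase R a F).map (qFaceOb R B (k + 2) i).op x = 0 →
    ∃ y, ∑ i : Fin (k + 2), (-1 : ℤ) ^ (i : ℕ) • (abBase R a F).map (qFaceOb R B (k + 1) i).op y = x

theorem cechExact_of_adequate (M : BigSite.Mod Scheme.fppfPrecoverage S)
    (hM : Adeq.adequateMod Scheme.fppfPrecoverage S M) :
    CechExact ((BigSite.toAbMod Scheme.fppfPrecoverage S).obj M) :=
  fun R a B _ _ _ k x hx => qOb_exact R B a M hM (k + 1) x hx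

section Injective

/-- The free abelian presheaf on a representable. -/
noncomputable def freeRep (X : Over S) : (Over S)ᵒᵖ ⥤ Ab.{u + 1} where
  obj Z := AddCommGrpCat.of (FreeAbelianGroup (ULift.{u + 1} (Z.unop ⟶ X)))
  map f := AddCommGrpCat.ofHom (FreeAbelianGroup.map fun h => ⟨f.unop ≫ h.down⟩)
  map_id Z := by
    refine AddCommGrpCat.hom_ext (FreeAbelianGroup.lift_ext _ _ fun h => ?_)
    simp
  map_comp f g := by
    refine AddCommGrpCat.hom_ext (FreeAbelianGroup.lift_ext _ _ fun h => ?_)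
    simp

/-- Maps of free presheaves. -/
noncomputable def freeMap {X Y : Over S} (m : X ⟶ Y) : freeRep X ⟶ freeRep Y where
  app Z := AddCommGrpCat.ofHom (FreeAbelianGroup.map fun h => ⟨h.down ≫ m⟩)
  naturality Z Z' f := by
    refine AddCommGrpCat.hom_ext (FreeAbelianGroup.lift_ext _ _ fun h => ?_)
    simp [freeRep]

/-- A section as a map out of a free presheaf. -/
noncomputable def freeHom {X : Over S} (P : (Over S)ᵒᵖ ⥤ Ab.{u + 1}) (c : P.obj (op X)) : freeRep X ⟶ P where
  app Z := AddCommGrpCat.ofHom (FreeAbelianGroup.lift fun h => P.map h.down.op c)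
  naturality Z Z' f := by
    refine AddCommGrpCat.hom_ext (FreeAbelianGroup.lift_ext _ _ fun h => ?_)
    simp [freeRep]

theorem freeMap_of {X Y : Over S} (m : X ⟶ Y) (Z : (Over S)ᵒᵖ) (h : Z.unop ⟶ X) :
    (freeMap m).app Z (FreeAbelianGroup.of ⟨h⟩) = FreeAbelianGroup.of ⟨h ≫ m⟩ :=
  FreeAbelianGroup.map_of_apply _

theorem freeHom_of {X : Over S} (P : (Over S)ᵒᵖ ⥤ Ab.{u + 1}) (c : P.obj (op X)) (Z : (Over S)ᵒᵖ) (h : Z.unop ⟶ X) :
    (freeHom P c).app Z (FreeAbelianGroup.of ⟨h⟩) = P.map h.op c :=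
  FreeAbelianGroup.lift_apply_of _ _

variable (R : CommRingCat.{u}) (a : Spec R ⟶ S) (B : Type u) [CommRing B] [Algebra R B]

/-- The fibre powers in the big site. -/
noncomputable abbrev qS' (k : ℕ) : Over S := (Over.map a).obj (qOb R B k)

/-- The faces in the big site. -/
noncomputable abbrev qF' (k : ℕ) (i : Fin (k + 1)) : qS' R a B (k + 1) ⟶ qS' R a B k := (Over.map a).map (qFaceOb R B k i)

/-- The differential of the free complex on the fibre powers. -/
noncomputable def freeD (k : ℕ) : freeRep (qS' R a B (k + 1)) ⟶ freeRep (qS' R a B k) :=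
  ∑ i : Fin (k + 1), (-1 : ℤ) ^ (i : ℕ) • freeMap (qF' R a B k i)

theorem natTrans_sum_apply {P Q : (Over S)ᵒᵖ ⥤ Ab.{u + 1}} {ι : Type} (s : Finset ι) (f : ι → (P ⟶ Q))
    (c : ι → ℤ) (Z : (Over S)ᵒᵖ) (x : P.obj Z) :
    (∑ i ∈ s, c i • f i).app Z x = ∑ i ∈ s, c i • (f i).app Z x := by
  classical
  induction s using Finset.induction_on with
  | empty => simp
  | insert b s hb ih =>
    rw [Finset.sum_insert hb, Finset.sum_insert hb, NatTrans.app_add, AddCommGrpCat.hom_add_apply, ih]
    rfl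

theorem freeD_of (k : ℕ) (Z : (Over S)ᵒᵖ) (h : Z.unop ⟶ qS' R a B (k + 1)) :
    (freeD R a B k).app Z (FreeAbelianGroup.of ⟨h⟩) =
      ∑ i : Fin (k + 1), (-1 : ℤ) ^ (i : ℕ) • FreeAbelianGroup.of ⟨h ≫ qF' R a B k i⟩ := by
  rw [freeD, natTrans_sum_apply]
  exact Finset.sum_congr rfl fun i _ => congrArg _ (freeMap_of _ _ _)

theorem qS'_hom_ext {Z : Over S} {k : ℕ} {g h : Z ⟶ qS' R a B k}
    (h0 : g.left ≫ (qOb R B k).hom = h.left ≫ (qOb R B k).hom)
    (hj : ∀ j, g ≫ (Over.map a).map (qPr R B k j) = h ≫ (Over.map a).map (qPr R B k j)) : g = h := by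
  let Z₀ : Over (Spec R) := Over.mk (g.left ≫ (qOb R B k).hom)
  let g₀ : Z₀ ⟶ qOb R B k := Over.homMk g.left rfl
  let h₀ : Z₀ ⟶ qOb R B k := Over.homMk h.left h0.symm
  have hl : g₀ = h₀ := qOb_hom_ext R B fun j => Over.OverMorphism.ext (congrArg CommaMorphism.left (hj j) :)
  exact Over.OverMorphism.ext (congrArg CommaMorphism.left hl :)

theorem exists_qS'_lift {Z : Over S} {k : ℕ} (g : Z.left ⟶ Spec R) (hg : g ≫ a = Z.hom)
    (s : Fin k → (Z ⟶ (Over.map a).obj (bOb R B))) (hs : ∀ j, (s j).left ≫ (bOb R B).hom = g) :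
    ∃ t : Z ⟶ qS' R a B k, t.left ≫ (qOb R B k).hom = g ∧ ∀ j, t ≫ (Over.map a).map (qPr R B k j) = s j := by
  obtain ⟨t, ht⟩ := exists_qOb_lift R B (Z := Over.mk g) (k := k) fun j => Over.homMk (s j).left (hs j)
  refine ⟨Over.homMk t.left ?_, Over.w t, fun j => Over.OverMorphism.ext (congrArg CommaMorphism.left (ht j) :)⟩
  show t.left ≫ (qOb R B k).hom ≫ a = Z.hom
  rw [← Category.assoc, Over.w t]
  exact hg

theorem exists_homotopy (k : ℕ) (Z : (Over S)ᵒᵖ) :
    ∃ (E₁ : (freeRep (qS' R a B (k + 1))).obj Z →+ (freeRep (qS' R a B (k + 2))).obj Z)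
      (E₀ : (freeRep (qS' R a B k)).obj Z →+ (freeRep (qS' R a B (k + 1))).obj Z),
      ∀ y, (freeD R a B (k + 1)).app Z (E₁ y) = y - E₀ ((freeD R a B k).app Z y) := by
  classical
  -- chosen lifts, depending only on the map to the base
  let good : (Z.unop.left ⟶ Spec R) → Prop := fun g =>
    ∃ s : Z.unop ⟶ (Over.map a).obj (bOb R B), s.left ≫ (bOb R B).hom = g
  have hgood : ∀ {l : ℕ} (h : Z.unop ⟶ qS' R a B (l + 1)), good (h.left ≫ (qOb R B (l + 1)).hom) := fun {l} h =>
    ⟨h ≫ (Over.map a).map (qPr R B (l + 1) 0), (Category.assoc _ _ _).trans (congrArg (h.left ≫ ·) (Over.w (qPr R B (l + 1) 0)))⟩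
  have hext : ∀ {l : ℕ} (h : Z.unop ⟶ qS' R a B l) (hh : good (h.left ≫ (qOb R B l).hom)),
      ∃ t : Z.unop ⟶ qS' R a B (l + 1), t.left ≫ (qOb R B (l + 1)).hom = h.left ≫ (qOb R B l).hom ∧
        ∀ j, t ≫ (Over.map a).map (qPr R B (l + 1) j) =
          (Fin.cons hh.choose (fun j => h ≫ (Over.map a).map (qPr R B l j)) :
            Fin (l + 1) → (Z.unop ⟶ (Over.map a).obj (bOb R B))) j :=
    fun {l} h hh => exists_qS'_lift R a B (h.left ≫ (qOb R B l).hom)
      ((Category.assoc _ _ _).trans (Over.w h)) _ (Fin.cases hh.choose_spec fun j => by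
        simp only [Fin.cons_succ]
        exact (Category.assoc _ _ _).trans (congrArg (h.left ≫ ·) (Over.w (qPr R B l j))))
  let η : ∀ {l : ℕ}, (Z.unop ⟶ qS' R a B l) → FreeAbelianGroup (ULift.{u + 1} (Z.unop ⟶ qS' R a B (l + 1))) :=
    fun {l} h => if hh : good (h.left ≫ (qOb R B l).hom) then FreeAbelianGroup.of ⟨(hext h hh).choose⟩ else 0
  let E : ∀ l, (freeRep (qS' R a B l)).obj Z →+ (freeRep (qS' R a B (l + 1))).obj Z := fun l =>
    FreeAbelianGroup.lift fun h => η h.down
  have key : ∀ y : (freeRep (qS' R a B (k + 1))).obj Z,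
      (freeD R a B (k + 1)).app Z (E (k + 1) y) = y - E k ((freeD R a B k).app Z y) := by
    intro y
    refine FreeAbelianGroup.induction_on y (by simp only [map_zero, sub_zero]) (fun h => ?_)
      (fun h hh => by simp only [map_neg, hh]; exact (neg_sub _ _).trans (neg_sub_neg _ _).symm) (fun p q hp hq => by simp only [map_add, hp, hq]; exact (add_sub_add_comm _ _ _ _).symm)
    obtain ⟨h⟩ := h
    have hg := hgood h
    have hη : E (k + 1) (FreeAbelianGroup.of ⟨h⟩) = FreeAbelianGroup.of ⟨(hext h hg).choose⟩ :=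
      (FreeAbelianGroup.lift_apply_of _ _).trans (dif_pos hg)
    obtain ⟨ht0, ht⟩ := (hext h hg).choose_spec
    rw [hη, freeD_of, freeD_of, map_sum, Fin.sum_univ_succ, sub_eq_add_neg, ← Finset.sum_neg_distrib]
    have e0 : (hext h hg).choose ≫ qF' R a B (k + 1) 0 = h := by
      refine qS'_hom_ext R a B ((Category.assoc _ _ _).trans
        ((congrArg _ (Over.w (qFaceOb R B (k + 1) 0))).trans ht0)) fun j => ?_
      rw [Category.assoc, ← Functor.map_comp, qFaceOb_qPr, ht, Fin.succAbove_zero, Fin.cons_succ]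
    refine congrArg₂ (· + ·) (by rw [e0, Fin.val_zero, pow_zero, one_zsmul]) (Finset.sum_congr rfl fun i _ => ?_)
    rw [Fin.val_succ, pow_succ, mul_neg, mul_one, neg_smul, map_zsmul]
    refine congrArg (fun v => -((-1 : ℤ) ^ (i : ℕ) • v)) ?_
    have hb : (h ≫ qF' R a B k i).left ≫ (qOb R B k).hom = h.left ≫ (qOb R B (k + 1)).hom :=
      (Category.assoc _ _ _).trans (congrArg _ (Over.w (qFaceOb R B k i)))
    have hg' : good ((h ≫ qF' R a B k i).left ≫ (qOb R B k).hom) := hb ▸ hg
    refine Eq.trans ?_ ((FreeAbelianGroup.lift_apply_of _ _).trans (dif_pos hg')).symm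
    obtain ⟨ht0', ht'⟩ := (hext (h ≫ qF' R a B k i) hg').choose_spec
    have hch : ∀ {g g' : Z.unop.left ⟶ Spec R} (_ : g = g') (p : good g) (p' : good g'), p.choose = p'.choose := by
      rintro g _ rfl p p'; rfl
    refine congrArg (fun v => FreeAbelianGroup.of (ULift.up v)) (qS'_hom_ext R a B
      ((Category.assoc _ _ _).trans ((congrArg _ (Over.w (qFaceOb R B (k + 1) i.succ))).trans
        (ht0.trans (hb.symm.trans ht0'.symm)))) fun j => ?_)
    rw [ht', Category.assoc, ← Functor.map_comp, qFaceOb_qPr, ht]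
    induction j using Fin.cases with
    | zero => rw [Fin.succ_succAbove_zero, Fin.cons_zero, Fin.cons_zero]; exact hch hb.symm _ _
    | succ j =>
      rw [Fin.succ_succAbove_succ, Fin.cons_succ, Fin.cons_succ, Category.assoc, ← Functor.map_comp, qFaceOb_qPr]
  exact ⟨E (k + 1), E k, key⟩

theorem freeD_exact (k : ℕ) (Z : (Over S)ᵒᵖ) (x : (freeRep (qS' R a B (k + 1))).obj Z)
    (hx : (freeD R a B k).app Z x = 0) : ∃ w, (freeD R a B (k + 1)).app Z w = x := by
  obtain ⟨E₁, E₀, key⟩ := exists_homotopy R a B k Z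
  exact ⟨E₁ x, by rw [key, hx, map_zero, sub_zero]⟩

/-- The fibre powers as a simplicial object, in free abelian presheaves. -/
noncomputable def freeSimp : SimplicialObject ((Over S)ᵒᵖ ⥤ Ab.{u + 1}) where
  obj m := freeRep (qS' R a B (m.unop.len + 1))
  map {m m'} f := freeMap ((Over.map a).map (Over.homMk (Spec.map (qMap R B (k := m'.unop.len + 1) (l := m.unop.len + 1) f.unop.toOrderHom))
    ((Spec.map_comp _ _).symm.trans (congrArg Spec.map (qHd_qMap R B _)))))
  map_id m := by
    refine NatTrans.ext (funext fun Z => AddCommGrpCat.hom_ext (FreeAbelianGroup.lift_ext _ _ fun h => ?_))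
    obtain ⟨h⟩ := h
    refine (freeMap_of _ _ _).trans (congrArg (fun v => FreeAbelianGroup.of (ULift.up v)) (Over.OverMorphism.ext ?_))
    have h1 : qMap R B (fun j : Fin (m.unop.len + 1) => j) = 𝟙 _ :=
      Cq_ext R B _ _ ((qHd_qMap R B _).trans (Category.comp_id _).symm) fun j => (qι_qMap R B _ j).trans (Category.comp_id _).symm
    show h.left ≫ Spec.map (qMap R B fun j : Fin (m.unop.len + 1) => j) = h.left
    rw [h1, Spec.map_id]
    exact Category.comp_id _
  map_comp {m m' m''} f g := by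
    refine NatTrans.ext (funext fun Z => AddCommGrpCat.hom_ext (FreeAbelianGroup.lift_ext _ _ fun h => ?_))
    obtain ⟨h⟩ := h
    refine (freeMap_of _ _ _).trans (Eq.trans ?_ ((congrArg _ (freeMap_of _ Z h)).trans (freeMap_of _ _ _)).symm)
    refine congrArg (fun v => FreeAbelianGroup.of (ULift.up v)) (Over.OverMorphism.ext ?_)
    let σ : Fin (m''.unop.len + 1) → Fin (m'.unop.len + 1) := g.unop.toOrderHom
    let τ : Fin (m'.unop.len + 1) → Fin (m.unop.len + 1) := f.unop.toOrderHom
    have h1 : qMap R B (τ ∘ σ) = qMap R B σ ≫ qMap R B τ :=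
      Cq_ext R B _ _ (by rw [← Category.assoc, qHd_qMap, qHd_qMap, qHd_qMap]) fun j => by
        rw [← Category.assoc, qι_qMap, qι_qMap, qι_qMap, Function.comp_apply]
    show h.left ≫ Spec.map (qMap R B (τ ∘ σ)) = (h.left ≫ Spec.map (qMap R B τ)) ≫ Spec.map (qMap R B σ)
    rw [h1, Spec.map_comp, Category.assoc]

theorem freeD_comp (k : ℕ) : freeD R a B (k + 2) ≫ freeD R a B (k + 1) = 0 := by
  have h : ∀ n, freeD R a B (n + 1) = AlgebraicTopology.AlternatingFaceMapComplex.objD (freeSimp R a B) n :=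
    fun n => rfl
  rw [h, h]
  exact AlgebraicTopology.AlternatingFaceMapComplex.d_squared (freeSimp R a B) k

theorem cechExact_of_injective (F : BigSite.Ab Scheme.fppfPrecoverage S) [Injective F] : CechExact F := by
  intro R a B _ _ _ k x hx
  let P := F.obj
  haveI : Injective P := Injective.injective_of_adjoint (sheafificationAdjunction _ _) F
  let C : ShortComplex ((Over S)ᵒᵖ ⥤ Ab.{u + 1}) := ShortComplex.mk (freeD R a B (k + 2)) (freeD R a B (k + 1)) (freeD_comp R a B k)
  have hC : C.Exact := by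
    rw [ShortComplex.exact_iff_isZero_homology, Functor.isZero_iff]
    intro Z
    have hZ : (C.map ((evaluation _ _).obj Z)).Exact := by
      rw [ShortComplex.ab_exact_iff]
      exact fun y hy => freeD_exact R a B (k + 1) Z y hy
    exact ((ShortComplex.exact_iff_isZero_homology _).1 hZ).of_iso (C.mapHomologyIso ((evaluation _ _).obj Z)).symm
  have hf : C.f ≫ freeHom P x = 0 := by
    refine NatTrans.ext (funext fun Z => AddCommGrpCat.hom_ext (FreeAbelianGroup.lift_ext _ _ fun h => ?_))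
    obtain ⟨h⟩ := h
    show (freeHom P x).app Z ((freeD R a B (k + 2)).app Z (FreeAbelianGroup.of ⟨h⟩)) = 0
    rw [freeD_of, map_sum]
    refine Eq.trans ?_ ((congrArg (P.map h.op) hx).trans (map_zero (P.map h.op).hom))
    rw [map_sum]
    refine Finset.sum_congr rfl fun i _ => ?_
    rw [map_zsmul, map_zsmul, freeHom_of, op_comp, Functor.map_comp]
    rfl
  let φ := hC.descToInjective (freeHom P x) hf
  refine ⟨φ.app (op (qS' R a B (k + 1))) (FreeAbelianGroup.of ⟨𝟙 _⟩), ?_⟩
  have h1 := ConcreteCategory.congr_hom (NatTrans.congr_app (hC.comp_descToInjective (freeHom P x) hf) (op (qS' R a B (k + 2))))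
    (FreeAbelianGroup.of ⟨𝟙 (qS' R a B (k + 2))⟩)
  refine Eq.trans ?_ (h1.trans ((freeHom_of P x _ (𝟙 _)).trans (ConcreteCategory.congr_hom (P.map_id _) x)))
  show _ = φ.app _ ((freeD R a B (k + 1)).app _ _)
  rw [freeD_of, map_sum]
  refine Finset.sum_congr rfl fun i _ => ?_
  rw [map_zsmul]
  refine congrArg _ ?_
  refine (NatTrans.naturality_apply φ (qF' R a B (k + 1) i).op _).symm.trans (congrArg _ ?_)
  exact (FreeAbelianGroup.map_of_apply _).trans (by simp)

end Injective

end Groth.Agent.AdeqShLib
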