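import Groth.Agent.AdeqShLib.Named
import Groth.Agent.AdeqLib.Amitsur

/-!
# Čech complexes of adequate modules on affine coverings
-/

set_option autoImplicit false
set_option backward.isDefEq.respectTransparency false
set_option backward.isDefEq.respectTransparency.types false
set_option maxHeartbeats 800000
universe u w

namespace Groth.Agent.AdeqShLib

open CategoryTheory Limits AlgebraicGeometry Opposite TensorProduct Groth.Agent.AdeqLib

/-- The ring map attached to a morphism into an affine scheme. -/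
noncomputable def ringOfHom {T : Scheme.{u}} {A : CommRingCat.{u}} (f : T ⟶ Spec A) : A ⟶ Γ(T, ⊤) :=
  (Scheme.ΓSpecIso A).inv ≫ f.appTop

theorem toSpecΓ_ringOfHom {T : Scheme.{u}} {A : CommRingCat.{u}} (f : T ⟶ Spec A) :
    T.toSpecΓ ≫ Spec.map (ringOfHom f) = f := by
  rw [ringOfHom, Spec.map_comp, ← Scheme.toSpecΓ_naturality_assoc, toSpecΓ_SpecMap_ΓSpecIso_inv, Category.comp_id]

theorem ringOfHom_comp {T : Scheme.{u}} {A A' : CommRingCat.{u}} (f : T ⟶ Spec A) (h : A' ⟶ A) :
    ringOfHom (f ≫ Spec.map h) = h ≫ ringOfHom f := by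
  rw [ringOfHom, ringOfHom, Scheme.Hom.comp_appTop, ← Scheme.ΓSpecIso_inv_naturality_assoc]

section

variable (R : CommRingCat.{u}) (B : Type u) [CommRing B] [Algebra R B]

/-- The covering object. -/
noncomputable abbrev bOb : Over (Spec R) := Over.mk (Spec.map (CommRingCat.ofHom (algebraMap R B)))

/-- The fibre powers of the covering object. -/
noncomputable abbrev qOb (k : ℕ) : Over (Spec R) := Over.mk (Spec.map (qHd R B k))

/-- The projections of the fibre powers. -/
noncomputable def qPr (k : ℕ) (j : Fin k) : qOb R B k ⟶ bOb R B :=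
  Over.homMk (Spec.map (qι R B k j)) ((Spec.map_comp _ _).symm.trans (congrArg Spec.map (algebraMap_qι R B k j)))

/-- The faces of the fibre powers. -/
noncomputable def qFaceOb (k : ℕ) (i : Fin (k + 1)) : qOb R B (k + 1) ⟶ qOb R B k :=
  Over.homMk (Spec.map (qMap R B i.succAbove)) ((Spec.map_comp _ _).symm.trans (congrArg Spec.map (qHd_qMap R B i.succAbove)))

theorem qFaceOb_qPr (k : ℕ) (i : Fin (k + 1)) (j : Fin k) :
    qFaceOb R B k i ≫ qPr R B k j = qPr R B (k + 1) (i.succAbove j) :=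
  Over.OverMorphism.ext ((Spec.map_comp _ _).symm.trans (congrArg Spec.map (qι_qMap R B i.succAbove j)))

theorem qOb_hom_ext {Z : Over (Spec R)} {k : ℕ} {f g : Z ⟶ qOb R B k}
    (h : ∀ j, f ≫ qPr R B k j = g ≫ qPr R B k j) : f = g := by
  refine Over.OverMorphism.ext ?_
  rw [← toSpecΓ_ringOfHom f.left, ← toSpecΓ_ringOfHom g.left]
  refine congrArg (fun r => Z.left.toSpecΓ ≫ Spec.map r) (Cq_ext R B _ _ ?_ fun j => ?_)
  · rw [← ringOfHom_comp, ← ringOfHom_comp]
    exact congrArg ringOfHom ((Over.w f).trans (Over.w g).symm)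
  · rw [← ringOfHom_comp, ← ringOfHom_comp]
    exact congrArg ringOfHom (congrArg CommaMorphism.left (h j))

theorem exists_qOb_lift {Z : Over (Spec R)} {k : ℕ} (s : Fin k → (Z ⟶ bOb R B)) :
    ∃ t : Z ⟶ qOb R B k, ∀ j, t ≫ qPr R B k j = s j := by
  let r : Cq R B k ⟶ Γ(Z.left, ⊤) := WidePushout.desc (ringOfHom Z.hom) (fun j => ringOfHom (s j).left) fun j => by
    rw [← ringOfHom_comp]
    exact congrArg ringOfHom (Over.w (s j))
  refine ⟨Over.homMk (Z.left.toSpecΓ ≫ Spec.map r) ?_, fun j => Over.OverMorphism.ext ?_⟩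
  · show (Z.left.toSpecΓ ≫ Spec.map r) ≫ Spec.map (qHd R B k) = Z.hom
    rw [Category.assoc, ← Spec.map_comp]
    exact (congrArg (fun v => Z.left.toSpecΓ ≫ Spec.map v) (WidePushout.head_desc _ _ _ _)).trans (toSpecΓ_ringOfHom _)
  · show (Z.left.toSpecΓ ≫ Spec.map r) ≫ Spec.map (qι R B k j) = (s j).left
    rw [Category.assoc, ← Spec.map_comp]
    exact (congrArg (fun v => Z.left.toSpecΓ ≫ Spec.map v) (WidePushout.ι_desc _ _ _ _ _)).trans (toSpecΓ_ringOfHom _)

theorem isIso_qLift (n : ℕ) :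
    IsIso (Pi.lift (fun j => qPr R B n j) : qOb R B n ⟶ ∏ᶜ fun _ : Fin n => bOb R B) := by
  obtain ⟨t, ht⟩ := exists_qOb_lift R B (Z := ∏ᶜ fun _ : Fin n => bOb R B) (k := n) fun j => Pi.π _ j
  refine ⟨t, qOb_hom_ext R B fun j => ?_, Pi.hom_ext _ _ fun j => ?_⟩
  · rw [Category.assoc, ht, Pi.lift_π, Category.id_comp]
  · rw [Category.assoc, Pi.lift_π, ht, Category.id_comp]

variable {S : Scheme.{u}} (a : Spec R ⟶ S)

theorem qOb_hom_eq (k : ℕ) : ((Over.map a).obj (qOb R B k)).hom = ((Adeq.specOver a).obj (op (qAlg (A := R) B k))).hom := by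
  have h1 : ((Over.map a).obj (qOb R B k)).hom = Spec.map (qHd R B k) ≫ a := rfl
  have h2 : ((Adeq.specOver a).obj (op (qAlg (A := R) B k))).hom =
      Spec.map (CommRingCat.ofHom (algebraMap R (Cq R B k))) ≫ a := rfl
  have h3 : CommRingCat.ofHom (algebraMap R (Cq R B k)) = qHd R B k := rfl
  rw [h1, h2, h3]

/-- The fibre powers over `S` as affine objects. -/
noncomputable def qObIso (k : ℕ) : (Over.map a).obj (qOb R B k) ≅ (Adeq.specOver a).obj (op (qAlg (A := R) B k)) :=
  Over.isoMk (f := (Over.map a).obj (qOb R B k)) (g := (Adeq.specOver a).obj (op (qAlg (A := R) B k)))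
    (Iso.refl (Spec (Cq R B k))) ((Category.id_comp _).trans (qOb_hom_eq R B a k).symm)

theorem qObIso_face (k : ℕ) (i : Fin (k + 1)) :
    (Over.map a).map (qFaceOb R B k i) ≫ (qObIso R B a k).hom =
      (qObIso R B a (k + 1)).hom ≫ (Adeq.specOver a).map (qδ (A := R) B k i).op :=
  Over.OverMorphism.ext ((Category.comp_id (Spec.map (qMap R B i.succAbove))).trans (Category.id_comp _).symm)

variable (M : BigSite.Mod Scheme.fppfPrecoverage S)

/-- The presheaf on `Over (Spec R)` of which the Čech complex is taken. -/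
noncomputable abbrev baseAb : (Over (Spec R))ᵒᵖ ⥤ AddCommGrpCat.{u + 1} :=
  (Over.map a).op ⋙ ((BigSite.toAbMod Scheme.fppfPrecoverage S).obj M).obj

/-- The values of `M` on fibre powers as values of its functor. -/
noncomputable def qVal (k : ℕ) :
    Val ((Adeq.toMVF Scheme.fppfPrecoverage a).obj M) (qAlg (A := R) B k) →+ (baseAb R a M).obj (op (qOb R B k)) :=
  (((BigSite.toAbMod Scheme.fppfPrecoverage S).obj M).obj.map (qObIso R B a k).hom.op).hom

theorem qVal_bijective (k : ℕ) : Function.Bijective (qVal R B a M k) :=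
  ConcreteCategory.bijective_of_isIso (((BigSite.toAbMod Scheme.fppfPrecoverage S).obj M).obj.map (qObIso R B a k).hom.op)

theorem qVal_face (k : ℕ) (i : Fin (k + 1))
    (x : Val ((Adeq.toMVF Scheme.fppfPrecoverage a).obj M) (qAlg (A := R) B k)) :
    (baseAb R a M).map (qFaceOb R B k i).op (qVal R B a M k x) =
      qVal R B a M (k + 1) (res _ (qδ (A := R) B k i) x) := by
  let P := ((BigSite.toAbMod Scheme.fppfPrecoverage S).obj M).obj
  have h : P.map (qObIso R B a k).hom.op ≫ P.map ((Over.map a).map (qFaceOb R B k i)).op =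
      P.map ((Adeq.specOver a).map (qδ (A := R) B k i).op).op ≫ P.map (qObIso R B a (k + 1)).hom.op := by
    rw [← P.map_comp, ← P.map_comp, ← op_comp, ← op_comp, qObIso_face]
  exact ConcreteCategory.congr_hom h x

/-- Exactness of the sections on fibre powers, in all positive degrees. -/
theorem qOb_exact [Module.FaithfullyFlat R B] (hM : Adeq.adequateMod Scheme.fppfPrecoverage S M) (k : ℕ)
    (x : (baseAb R a M).obj (op (qOb R B (k + 1))))
    (hx : ∑ i : Fin (k + 2), (-1 : ℤ) ^ (i : ℕ) • (baseAb R a M).map (qFaceOb R B (k + 1) i).op x = 0) :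
    ∃ y, ∑ i : Fin (k + 1), (-1 : ℤ) ^ (i : ℕ) • (baseAb R a M).map (qFaceOb R B k i).op y = x := by
  obtain ⟨q⟩ := exists_pres (adequate_toMVF_fppf M hM a)
  obtain ⟨x, rfl⟩ := (qVal_bijective R B a M (k + 1)).2 x
  obtain ⟨y, hy⟩ := q.amitsur_exact B k x ((qVal_bijective R B a M (k + 2)).1 (by
    rw [map_sum, map_zero]
    refine Eq.trans (Finset.sum_congr rfl fun i _ => ?_) hx
    rw [map_zsmul, qVal_face]))
  refine ⟨qVal R B a M k y, ?_⟩
  rw [← hy, map_sum]
  refine Finset.sum_congr rfl fun i _ => ?_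
  rw [map_zsmul, qVal_face]

theorem addCommGrp_sum_apply {X Y : AddCommGrpCat.{w}} {ι : Type} (s : Finset ι) (f : ι → (X ⟶ Y)) (x : X) :
    (∑ i ∈ s, f i) x = ∑ i ∈ s, f i x := by
  classical
  induction s using Finset.induction_on with
  | empty => simp
  | insert a s ha ih => simp [Finset.sum_insert ha, ih]

/-- The Čech complex of an adequate module for a faithfully flat affine covering is exact in positive degrees. -/
theorem cech_exactAt [Module.FaithfullyFlat R B] (hM : Adeq.adequateMod Scheme.fppfPrecoverage S M) (m : ℕ) :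
    ((cechComplexFunctor (A := AddCommGrpCat.{u + 1}) (fun _ : PUnit.{u + 2} => bOb R B)).obj
      (baseAb R a M)).ExactAt (m + 1) := by
  let G := baseAb R a M
  let U := FormalCoproduct.mk _ (fun _ : PUnit.{u + 2} => bOb R B)
  let X := (FormalCoproduct.cosimplicialObjectFunctor (A := AddCommGrpCat.{u + 1}) U.cech).obj G
  let v : ∀ n, Fin (n + 1) → PUnit.{u + 2} := fun _ _ => PUnit.unit
  let θ : ∀ n, qOb R B (n + 1) ⟶ ∏ᶜ fun _ : Fin (n + 1) => bOb R B := fun n => Pi.lift fun j => qPr R B (n + 1) j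
  haveI : ∀ n, IsIso (θ n) := fun n => isIso_qLift R B (n + 1)
  let e : ∀ n, X.obj (SimplexCategory.mk n) ⟶ G.obj (op (qOb R B (n + 1))) := fun n =>
    Pi.π (fun i : Fin (n + 1) → PUnit.{u + 2} => G.obj (op (∏ᶜ fun j => bOb R B))) (v n) ≫ G.map (θ n).op
  have he : ∀ n, IsIso (e n) := fun n => by
    haveI : IsIso (Pi.π (fun i : Fin (n + 1) → PUnit.{u + 2} => G.obj (op (∏ᶜ fun j : Fin (n + 1) => bOb R B))) (v n)) :=
      ⟨Pi.lift fun i => 𝟙 _, Pi.hom_ext _ _ fun i => by
        rw [Category.assoc, Pi.lift_π, Category.comp_id, Category.id_comp, Subsingleton.elim i (v n)], Pi.lift_π _ _⟩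
    exact IsIso.comp_isIso
  have hcomm : ∀ n (i : Fin (n + 2)), X.δ i ≫ e (n + 1) = e n ≫ G.map (qFaceOb R B (n + 1) i).op := by
    intro n i
    have hδ : X.δ i ≫ Pi.π (fun i : Fin (n + 2) → PUnit.{u + 2} => G.obj (op (∏ᶜ fun j => bOb R B))) (v (n + 1)) =
        Pi.π (fun i : Fin (n + 1) → PUnit.{u + 2} => G.obj (op (∏ᶜ fun j => bOb R B))) (v n) ≫
          G.map (Pi.lift fun j : Fin (n + 1) => Pi.π (fun _ : Fin (n + 2) => bOb R B) (i.succAbove j)).op :=
      Pi.lift_π _ _
    have hθ : θ (n + 1) ≫ (Pi.lift fun j : Fin (n + 1) => Pi.π (fun _ : Fin (n + 2) => bOb R B) (i.succAbove j)) =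
        qFaceOb R B (n + 1) i ≫ θ n := by
      refine Pi.hom_ext _ _ fun j => ?_
      simp only [θ, Category.assoc, Pi.lift_π]
      exact (qFaceOb_qPr R B (n + 1) i j).symm
    show X.δ i ≫ Pi.π _ (v (n + 1)) ≫ G.map (θ (n + 1)).op = (Pi.π _ (v n) ≫ G.map (θ n).op) ≫ _
    refine (Category.assoc _ _ _).symm.trans ((congrArg (fun f => f ≫ G.map (θ (n + 1)).op) hδ).trans ?_)
    refine (Category.assoc _ _ _).trans ((congrArg (fun f => Pi.π _ (v n) ≫ f) ?_).trans (Category.assoc _ _ _).symm)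
    rw [← G.map_comp, ← G.map_comp, ← op_comp, ← op_comp, hθ]
  let K := AlgebraicTopology.AlternatingCofaceMapComplex.obj X
  have hd : ∀ n (x : K.X n), e (n + 1) (K.d n (n + 1) x) =
      ∑ i : Fin (n + 2), (-1 : ℤ) ^ (i : ℕ) • G.map (qFaceOb R B (n + 1) i).op (e n x) := by
    intro n x
    have hgen : K.d n (n + 1) = AlgebraicTopology.AlternatingCofaceMapComplex.objD X n := by
      simp only [K]
      delta AlgebraicTopology.AlternatingCofaceMapComplex.obj
      exact CochainComplex.of_d (fun n => X.obj (SimplexCategory.mk n)) (AlgebraicTopology.AlternatingCofaceMapComplex.objD X) n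
    rw [hgen]
    show e (n + 1) ((∑ i : Fin (n + 2), (-1 : ℤ) ^ (i : ℕ) • X.δ i) x) = _
    rw [addCommGrp_sum_apply, map_sum]
    refine Finset.sum_congr rfl fun i _ => ?_
    show e (n + 1) ((-1 : ℤ) ^ (i : ℕ) • X.δ i x) = _
    rw [map_zsmul]
    exact congrArg _ (ConcreteCategory.congr_hom (hcomm n i) x)
  show K.ExactAt (m + 1)
  rw [HomologicalComplex.exactAt_iff' _ m (m + 1) (m + 2) (by simp) (by simp), ShortComplex.ab_exact_iff]
  intro x hx
  haveI := he m
  haveI := he (m + 1)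
  obtain ⟨y, hy⟩ := qOb_exact R B a M hM (m + 1) (e (m + 1) x) ((hd (m + 1) x).symm.trans
    ((congrArg (e (m + 2)) hx).trans (map_zero (e (m + 2)).hom)))
  obtain ⟨y, rfl⟩ := (ConcreteCategory.bijective_of_isIso (e m)).2 y
  exact ⟨y, (ConcreteCategory.bijective_of_isIso (e (m + 1))).1 ((hd m y).trans hy)⟩

end

end Groth.Agent.AdeqShLib
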