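import Groth.Agent.AdeqShLib.Sheafify
import Groth.Agent.AdeqLib.Coprod
import Groth.Agent.AdeqLib.Closure

/-!
# Colimits of adequate modules
-/

set_option autoImplicit false
set_option backward.isDefEq.respectTransparency false
set_option backward.isDefEq.respectTransparency.types false
set_option maxHeartbeats 800000
universe u w w'

namespace Groth.Agent.AdeqShLib

open CategoryTheory Limits AlgebraicGeometry Opposite TensorProduct Groth.Agent.AdeqLib

variable {S : Scheme.{u}}

instance preservesColimitsOfShape_toMVFPre {J : Type w} [Category.{w'} J] [HasColimitsOfShape J Ab.{u + 1}]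
    {R : CommRingCat.{u}} (a : Spec R ⟶ S) :
    PreservesColimitsOfShape J (Adeq.toMVFPre Scheme.fppfPrecoverage a) := by
  let e : PresheafOfModules.toPresheaf (BigSite.ORing Scheme.fppfPrecoverage S).obj ⋙
        (Functor.whiskeringLeft _ _ Ab.{u + 1}).obj (Adeq.specOver a).op ≅
      Adeq.toMVFPre Scheme.fppfPrecoverage a ⋙ PresheafOfModules.toPresheaf _ :=
    NatIso.ofComponents (fun P => Iso.refl _) (fun f => rfl)
  haveI := preservesColimitsOfShape_of_natIso (J := J) e
  haveI : ReflectsColimitsOfShape J (PresheafOfModules.toPresheaf.{u + 1} (Adeq.ringOf R)) :=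
    reflectsColimitsOfShape_of_reflectsIsomorphisms
  exact preservesColimitsOfShape_of_reflects_of_preserves _ (PresheafOfModules.toPresheaf _)

theorem adequateMod_of_iso {M N : BigSite.Mod Scheme.fppfPrecoverage S} (e : M ≅ N)
    (hM : Adeq.adequateMod Scheme.fppfPrecoverage S M) : Adeq.adequateMod Scheme.fppfPrecoverage S N :=
  adequateMod_fppf N fun _ a => adequate_of_iso ((Adeq.toMVF _ a).mapIso e) (adequate_toMVF_fppf M hM a)

/-- The forgetful functor to presheaves right adjoint to sheafification. -/
noncomputable abbrev toPre (S : Scheme.{u}) : BigSite.Mod Scheme.fppfPrecoverage S ⥤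
    PresheafOfModules.{u + 1} (BigSite.ORing Scheme.fppfPrecoverage S).obj :=
  SheafOfModules.forget _ ⋙ PresheafOfModules.restrictScalars (𝟙 (BigSite.ORing Scheme.fppfPrecoverage S).obj)

theorem adequate_toPre {M : BigSite.Mod Scheme.fppfPrecoverage S} (hM : Adeq.adequateMod Scheme.fppfPrecoverage S M)
    {R : CommRingCat.{u}} (a : Spec R ⟶ S) :
    Adeq.adequate R ((Adeq.toMVFPre Scheme.fppfPrecoverage a).obj ((toPre S).obj M)) :=
  adequate_toMVF_fppf M hM a

theorem adequateMod_colimit {J : Type (u + 1)} [SmallCategory J] (D : J ⥤ BigSite.Mod Scheme.fppfPrecoverage S)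
    (hD : ∀ j, Adeq.adequateMod Scheme.fppfPrecoverage S (D.obj j)) :
    Adeq.adequateMod Scheme.fppfPrecoverage S (colimit D) := by
  let L := PresheafOfModules.sheafification.{u + 1} (𝟙 (BigSite.ORing Scheme.fppfPrecoverage S).obj)
  let e : L.obj (colimit (D ⋙ toPre S)) ≅ colimit D :=
    preservesColimitIso L (D ⋙ toPre S) ≪≫ HasColimit.isoOfNatIso
      (Functor.associator D (toPre S) L ≪≫
        Functor.isoWhiskerLeft D (asIso (PresheafOfModules.sheafificationAdjunction
          (𝟙 (BigSite.ORing Scheme.fppfPrecoverage S).obj)).counit) ≪≫ D.rightUnitor)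
  refine adequateMod_of_iso e (adequateMod_sheafification _ fun R a => ?_)
  exact adequate_of_iso (preservesColimitIso (Adeq.toMVFPre Scheme.fppfPrecoverage a) (D ⋙ toPre S)).symm
    (adequate_colimit _ fun j => adequate_toPre (hD j) a)

theorem adequateMod_cokernel {M N : BigSite.Mod Scheme.fppfPrecoverage S} (φ : M ⟶ N)
    (hM : Adeq.adequateMod Scheme.fppfPrecoverage S M) (hN : Adeq.adequateMod Scheme.fppfPrecoverage S N) :
    Adeq.adequateMod Scheme.fppfPrecoverage S (cokernel φ) := by
  let L := PresheafOfModules.sheafification.{u + 1} (𝟙 (BigSite.ORing Scheme.fppfPrecoverage S).obj)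
  let c := asIso (PresheafOfModules.sheafificationAdjunction (𝟙 (BigSite.ORing Scheme.fppfPrecoverage S).obj)).counit
  let e : L.obj (cokernel ((toPre S).map φ)) ≅ cokernel φ :=
    PreservesCokernel.iso L ((toPre S).map φ) ≪≫ cokernel.mapIso _ _ (c.app M) (c.app N) (c.hom.naturality φ)
  refine adequateMod_of_iso e (adequateMod_sheafification _ fun R a => ?_)
  exact adequate_of_iso (PreservesCokernel.iso (Adeq.toMVFPre Scheme.fppfPrecoverage a) ((toPre S).map φ)).symm
    (adequate_cokernel (adequate_toPre hM a) (adequate_toPre hN a) _)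

end Groth.Agent.AdeqShLib
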