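import Mathlib
import Groth.Prelude.Def_Adeq2

/-!
# Coverings and the sheaf condition on big sites, elementwise
-/

set_option autoImplicit false
set_option backward.isDefEq.respectTransparency false
set_option backward.isDefEq.respectTransparency.types false
universe u w

namespace Groth.Agent.AdeqShLib

open CategoryTheory Limits AlgebraicGeometry Opposite TensorProduct

section Sheaf

variable {C : Type (u + 1)} [Category.{u} C] {J : GrothendieckTopology C} {M : Cᵒᵖ ⥤ Ab.{u + 1}}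
  (hM : Presheaf.IsSheaf J M) {X : C} {ι : Type w} {U : ι → C} (f : ∀ i, U i ⟶ X)
  (hf : Sieve.generate (Presieve.ofArrows U f) ∈ J X)

include hM hf

theorem existsUnique_glue (x : ∀ i, M.obj (op (U i)))
    (hx : ∀ i j Z (g : Z ⟶ U i) (h : Z ⟶ U j), g ≫ f i = h ≫ f j → M.map g.op (x i) = M.map h.op (x j)) :
    ∃! t : M.obj (op X), ∀ i, M.map (f i).op t = x i := by
  have h1 : Presieve.IsSheaf J (M ⋙ forget Ab) := (isSheaf_iff_isSheaf_of_type J _).1
    ((Presheaf.isSheaf_iff_isSheaf_forget J M (forget Ab)).1 hM)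
  have h2 := (Presieve.isSheafFor_arrows_iff (M ⋙ forget Ab) f).1
    ((Presieve.isSheafFor_iff_generate _).2 (h1 _ hf))
  exact h2 x (fun i j Z g h e => hx i j Z g h e)

theorem eq_zero_of_cover {t : M.obj (op X)} (ht : ∀ i, M.map (f i).op t = 0) : t = 0 :=
  (existsUnique_glue hM f hf (fun _ => 0) (fun i j Z g h _ => (map_zero (M.map g.op).hom).trans
    (map_zero (M.map h.op).hom).symm)).unique ht (fun i => map_zero (M.map (f i).op).hom)

theorem eq_of_cover {t t' : M.obj (op X)} (ht : ∀ i, M.map (f i).op t = M.map (f i).op t') : t = t' :=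
  sub_eq_zero.1 (eq_zero_of_cover hM f hf fun i => (map_sub (M.map (f i).op).hom t t').trans (sub_eq_zero.2 (ht i)))

end Sheaf

section Scheme

variable (P : MorphismProperty Scheme.{u})

/-- Jointly surjective families of `P`-maps generate covering sieves in the big site. -/
theorem generate_mem_J {S : Scheme.{u}} {ι : Type w} {X : Over S} {U : ι → Over S} (f : ∀ i, U i ⟶ X)
    (hs : ∀ x : X.left, ∃ i, x ∈ Set.range (f i).left) (hP : ∀ i, P (f i).left) :
    Sieve.generate (Presieve.ofArrows U f) ∈ QuotSh.J (Scheme.precoverage P) S X := by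
  rw [GrothendieckTopology.mem_over_iff]
  refine GrothendieckTopology.superset_covering _ ?_ (Precoverage.generate_mem_toGrothendieck
    (J := Scheme.precoverage P) ((Scheme.ofArrows_mem_precoverage_iff P (f := fun i => (f i).left)).2 ⟨hs, hP⟩))
  rw [Sieve.generate_le_iff]
  rintro Z g ⟨i⟩
  exact ⟨U i, f i, 𝟙 _, ⟨U i, 𝟙 _, f i, Presieve.ofArrows.mk i, Category.id_comp _⟩, (Category.id_comp _).symm⟩

/-- A refinement of a covering, over an affine base, by finitely many affines. -/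
theorem exists_refine [P.IsStableUnderBaseChange] [P.IsStableUnderComposition]
    (hopen : ∀ {X Y : Scheme.{u}} (f : X ⟶ Y), P f → IsOpenMap f)
    (himm : ∀ {X Y : Scheme.{u}} (f : X ⟶ Y), IsOpenImmersion f → P f)
    {S : Scheme.{u}} {ι : Type w} {U : ι → Scheme.{u}} (a : ∀ i, U i ⟶ S)
    (hcov : Presieve.ofArrows U a ∈ (Scheme.precoverage P).coverings S) {R : CommRingCat.{u}} (b : Spec R ⟶ S) :
    ∃ (n : ℕ) (C : Fin n → CommRingCat.{u}) (φ : ∀ l, R ⟶ C l),
      (∀ x : Spec R, ∃ l, x ∈ Set.range (Spec.map (φ l))) ∧ (∀ l, P (Spec.map (φ l))) ∧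
      ∀ l, ∃ (i : ι) (g : Spec (C l) ⟶ U i), g ≫ a i = Spec.map (φ l) ≫ b := by
  obtain ⟨hs, hP⟩ := (Scheme.ofArrows_mem_precoverage_iff P).1 hcov
  have hex : ∀ x : Spec R, ∃ (i : ι) (W : (pullback (a i) b).Opens), IsAffineOpen W ∧
      x ∈ Set.range (W.ι ≫ pullback.snd (a i) b) := by
    intro x
    obtain ⟨i, hi⟩ := hs (b x)
    obtain ⟨y, rfl⟩ : x ∈ Set.range (pullback.snd (a i) b) := by
      rw [Scheme.Pullback.range_snd]; exact hi
    obtain ⟨W, hW, hy, -⟩ := exists_isAffineOpen_mem_and_subset (x := y) (U := ⊤) trivial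
    exact ⟨i, W, hW, ⟨⟨y, hy⟩, rfl⟩⟩
  choose i W hW hx using hex
  have hPW : ∀ x, P ((W x).ι ≫ pullback.snd (a (i x)) b) := fun x =>
    P.comp_mem _ _ (himm _ inferInstance) (P.pullback_snd _ _ (hP _))
  obtain ⟨s, hs⟩ := isCompact_univ.elim_finite_subcover (fun x => Set.range ((W x).ι ≫ pullback.snd (a (i x)) b))
    (fun x => (hopen _ (hPW x)).isOpen_range) (fun x _ => Set.mem_iUnion.2 ⟨x, hx x⟩)
  let x : Fin s.card → Spec R := fun l => (s.equivFin.symm l).1
  let q : ∀ l, Spec Γ((W (x l)).toScheme, ⊤) ⟶ Spec R := fun l =>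
    haveI : IsAffine (W (x l)).toScheme := hW (x l)
    (W (x l)).toScheme.isoSpec.inv ≫ (W (x l)).ι ≫ pullback.snd (a (i (x l))) b
  refine ⟨s.card, fun l => Γ((W (x l)).toScheme, ⊤), fun l => Spec.preimage (q l), fun y => ?_, fun l => ?_,
    fun l => ⟨i (x l), ?_⟩⟩
  · obtain ⟨z, hz, hy⟩ := Set.mem_iUnion₂.1 (hs (Set.mem_univ y))
    obtain ⟨w, rfl⟩ := hy
    obtain ⟨l, hl⟩ : ∃ l, x l = z := ⟨s.equivFin ⟨z, hz⟩, by simp [x]⟩
    subst hl
    haveI : IsAffine (W (x l)).toScheme := hW (x l)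
    refine ⟨l, (W (x l)).toScheme.isoSpec.hom w, ?_⟩
    rw [Spec.map_preimage, ← Scheme.Hom.comp_apply, Iso.hom_inv_id_assoc]
  · rw [Spec.map_preimage]
    haveI : IsAffine (W (x l)).toScheme := hW (x l)
    exact P.comp_mem _ _ (himm _ inferInstance) (hPW (x l))
  · haveI : IsAffine (W (x l)).toScheme := hW (x l)
    refine ⟨(W (x l)).toScheme.isoSpec.inv ≫ (W (x l)).ι ≫ pullback.fst (a (i (x l))) b, ?_⟩
    rw [Spec.map_preimage]
    simp only [q, Category.assoc, pullback.condition]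

end Scheme

end Groth.Agent.AdeqShLib
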