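import Groth.Agent.AdeqShLib.Cover
import Groth.Agent.AdeqLib.Equalizer

/-!
# Adequacy of the functor of a sheaf of modules is local
-/

set_option autoImplicit false
set_option backward.isDefEq.respectTransparency false
set_option backward.isDefEq.respectTransparency.types false
set_option maxHeartbeats 800000
universe u

namespace Groth.Agent.AdeqShLib

open CategoryTheory Limits AlgebraicGeometry Opposite TensorProduct Groth.Agent.AdeqLib

variable {K : Precoverage Scheme.{u}} [BigSite.OSh K] {S : Scheme.{u}}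

/-- The abelian presheaf under a module. -/
noncomputable abbrev secPre (M : BigSite.Mod K S) : (Over S)ᵒᵖ ⥤ Ab.{u + 1} :=
  (PresheafOfModules.toPresheaf (BigSite.ORing K S).obj).obj M.val

theorem isSheaf_secPre (M : BigSite.Mod K S) : Presheaf.IsSheaf (QuotSh.J K S) (secPre M) := M.isSheaf

theorem res_toMVF {R : CommRingCat.{u}} (a : Spec R ⟶ S) (M : BigSite.Mod K S) {B B' : Adeq.Alg R} (g : B ⟶ B')
    (x : Val ((Adeq.toMVF K a).obj M) B) :
    res ((Adeq.toMVF K a).obj M) g x = (secPre M).map ((Adeq.specOver a).map g.op).op x := rfl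

theorem toSect_apply {R : CommRingCat.{u}} (a : Spec R ⟶ S) (B : Adeq.Alg R) (b : B) :
    (Adeq.toSect K a B b).down = (Scheme.ΓSpecIso (CommRingCat.of B)).inv.hom b := rfl

section Restr

variable {R C : CommRingCat.{u}} [Algebra R C]

/-- An algebra over an algebra gives the same object of the big site. -/
noncomputable def restrObjIso (a : Spec R ⟶ S) (a' : Spec C ⟶ S)
    (h : a' = Spec.map (CommRingCat.ofHom (algebraMap R C)) ≫ a) (B : Adeq.Alg C) :
    (Adeq.specOver a').obj (op B) ≅ (Adeq.specOver a).obj (op ((Adeq.Alg.restr R C).obj B)) :=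
  Over.isoMk (Iso.refl _) (by
    subst h
    show 𝟙 _ ≫ Spec.map (CommRingCat.ofHom ((algebraMap C B).comp (algebraMap R C))) ≫ a =
      Spec.map (CommRingCat.ofHom (algebraMap C B)) ≫ Spec.map (CommRingCat.ofHom (algebraMap R C)) ≫ a
    rw [Category.id_comp, CommRingCat.ofHom_comp, Spec.map_comp, Category.assoc])

theorem restrObjIso_nat (a : Spec R ⟶ S) (a' : Spec C ⟶ S)
    (h : a' = Spec.map (CommRingCat.ofHom (algebraMap R C)) ≫ a) {B B' : Adeq.Alg C} (g : B ⟶ B') :
    (Adeq.specOver a').map g.op ≫ (restrObjIso a a' h B).hom =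
      (restrObjIso a a' h B').hom ≫ (Adeq.specOver a).map ((Adeq.Alg.restr R C).map g).op := by
  refine Over.OverMorphism.ext ?_
  show Spec.map _ ≫ 𝟙 _ = 𝟙 _ ≫ Spec.map _
  rw [Category.comp_id, Category.id_comp]
  rfl

/-- The restriction of the functor of a module. -/
theorem adequate_restr_iff (a : Spec R ⟶ S) (a' : Spec C ⟶ S)
    (h : a' = Spec.map (CommRingCat.ofHom (algebraMap R C)) ≫ a) (M : BigSite.Mod K S) :
    Adeq.adequate C ((Adeq.restr R C).obj ((Adeq.toMVF K a).obj M)) ↔
      Adeq.adequate C ((Adeq.toMVF K a').obj M) := by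
  let e := restrObjIso a a' h
  let F := (Adeq.restr R C).obj ((Adeq.toMVF K a).obj M)
  let F' := (Adeq.toMVF K a').obj M
  let f : ∀ B : Adeq.Alg C, Val F B →ₗ[(B : Type u)] Val F' B := fun B =>
    { toFun := fun x => (secPre M).map (e B).hom.op x
      map_add' := fun x y => map_add ((secPre M).map (e B).hom.op).hom x y
      map_smul' := fun b x => by
        refine (M.val.map_smul (e B).hom.op (Adeq.toSect K a ((Adeq.Alg.restr R C).obj B) b) x).trans ?_
        refine congrArg (fun r => r • (show M.val.obj (op ((Adeq.specOver a').obj (op B))) from (secPre M).map (e B).hom.op x)) ?_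
        apply ULift.ext
        show (Scheme.Hom.appTop (𝟙 (Spec (CommRingCat.of B)))).hom ((Scheme.ΓSpecIso (CommRingCat.of B)).inv.hom b) =
          (Scheme.ΓSpecIso (CommRingCat.of B)).inv.hom b
        simp }
  let φ : F ⟶ F' := homMk f fun {B B'} g x => by
    show (secPre M).map (e B').hom.op ((secPre M).map ((Adeq.specOver a).map ((Adeq.Alg.restr R C).map g).op).op x) =
      (secPre M).map ((Adeq.specOver a').map g.op).op ((secPre M).map (e B).hom.op x)
    rw [← ConcreteCategory.comp_apply, ← ConcreteCategory.comp_apply, ← Functor.map_comp, ← Functor.map_comp,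
      ← op_comp, ← op_comp, restrObjIso_nat]
  haveI : IsIso φ := isIso_of_bijective fun B => by
    haveI : IsIso ((secPre M).map (e B).hom.op) := inferInstance
    exact (ConcreteCategory.isIso_iff_bijective ((secPre M).map (e B).hom.op)).1 inferInstance
  exact ⟨fun hF => (Adeq.adequate C).prop_of_iso (asIso φ) hF,
    fun hF => (Adeq.adequate C).prop_of_iso (asIso φ).symm hF⟩

end Restr

/-- Restriction along a map of affine objects preserves adequacy. -/
theorem adequate_of_factor {R C : CommRingCat.{u}} (φ : R ⟶ C) (a : Spec R ⟶ S) (a' : Spec C ⟶ S)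
    (h : Spec.map φ ≫ a = a') (M : BigSite.Mod K S) (hM : Adeq.adequate R ((Adeq.toMVF K a).obj M)) :
    Adeq.adequate C ((Adeq.toMVF K a').obj M) := by
  letI : Algebra R C := φ.hom.toAlgebra
  exact (adequate_restr_iff a a' h.symm M).1 (restrPres C (exists_pres hM).some).adequate

/-- The ring map of a map of algebras. -/
noncomputable def rh {R : CommRingCat.{u}} {B B' : Adeq.Alg R} (f : B ⟶ B') : CommRingCat.of B ⟶ CommRingCat.of B' :=
  CommRingCat.ofHom f.hom.toRingHom

theorem rh_alg {R : CommRingCat.{u}} {B B' : Adeq.Alg R} (f : B ⟶ B') :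
    Spec.map (rh f) ≫ Spec.map (CommRingCat.ofHom (algebraMap R B)) = Spec.map (CommRingCat.ofHom (algebraMap R B')) := by
  rw [rh, ← Spec.map_comp, ← CommRingCat.ofHom_comp, AlgHom.toRingHom_eq_coe, AlgHom.comp_algebraMap]

theorem specOver_map_left {R : CommRingCat.{u}} (a : Spec R ⟶ S) {B B' : Adeq.Alg R} (f : B ⟶ B') :
    ((Adeq.specOver a).map f.op).left = Spec.map (rh f) := rfl

section Pieces

variable {R : CommRingCat.{u}} (C : Adeq.Alg R)

/-- The first map to a base change. -/
noncomputable def inclL (D : Adeq.Alg R) : CommRingCat.of C ⟶ CommRingCat.of (coAlg C D) :=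
  CommRingCat.ofHom (Algebra.TensorProduct.includeLeftRingHom : (C : Type u) →+* (C : Type u) ⊗[R] (D : Type u))

theorem isPullback_coAlg (D : Adeq.Alg R) :
    IsPullback (Spec.map (inclL C D)) (Spec.map (rh (Adeq.Alg.unit R C D)))
      (Spec.map (CommRingCat.ofHom (algebraMap R C))) (Spec.map (CommRingCat.ofHom (algebraMap R D))) :=
  isPullback_SpecMap_of_isPushout _ _ _ _ (CommRingCat.isPushout_tensorProduct R C D)

theorem inclL_map {D D' : Adeq.Alg R} (g : D ⟶ D') :
    Spec.map (rh ((Adeq.Alg.restr R C).map ((Adeq.Alg.baseChange R C).map g))) ≫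
      Spec.map (inclL C D) = Spec.map (inclL C D') := by
  rw [← Spec.map_comp]
  congr 1
  refine CommRingCat.hom_ext (RingHom.ext fun c => ?_)
  show Algebra.TensorProduct.map (AlgHom.id C C) g.hom ((c : C) ⊗ₜ[R] (1 : D)) = (c : C) ⊗ₜ[R] (1 : D')
  rw [Algebra.TensorProduct.map_tmul, map_one]
  rfl

theorem range_coAlg (D : Adeq.Alg R) :
    Set.range (Spec.map (rh (Adeq.Alg.unit R C D))) =
      (Spec.map (CommRingCat.ofHom (algebraMap R D))) ⁻¹' Set.range (Spec.map (CommRingCat.ofHom (algebraMap R C))) := by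
  have h := isPullback_coAlg C D
  have hsurj : Function.Surjective h.isoPullback.hom := h.isoPullback.hom.homeomorph.surjective
  rw [← h.isoPullback_hom_snd, Scheme.Hom.comp_base, TopCat.coe_comp, Set.range_comp,
    hsurj.range_eq, Set.image_univ, Scheme.Pullback.range_snd]

end Pieces

/-- Adequacy of the functor of a sheaf of modules can be checked on a covering of the affine base. -/
theorem adequate_of_cover (P : MorphismProperty Scheme.{u}) [P.IsStableUnderBaseChange]
    [BigSite.OSh (Scheme.precoverage P)] (M : BigSite.Mod (Scheme.precoverage P) S) {R : CommRingCat.{u}}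
    (a : Spec R ⟶ S) {ι : Type u} [Finite ι] (C : ι → Adeq.Alg R)
    (hs : ∀ x : Spec R, ∃ i, x ∈ Set.range (Spec.map (CommRingCat.ofHom (algebraMap R (C i)))))
    (hP : ∀ i, P (Spec.map (CommRingCat.ofHom (algebraMap R (C i)))))
    (hC : ∀ i, Adeq.adequate (C i) ((Adeq.toMVF (Scheme.precoverage P)
      (Spec.map (CommRingCat.ofHom (algebraMap R (C i))) ≫ a)).obj M)) :
    Adeq.adequate R ((Adeq.toMVF (Scheme.precoverage P) a).obj M) := by
  let fam : ∀ (B : Adeq.Alg R) (i : ι), (Adeq.specOver a).obj (op (coAlg (C i) B)) ⟶ (Adeq.specOver a).obj (op B) :=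
    fun B i => (Adeq.specOver a).map (Adeq.Alg.unit R (C i) B).op
  have hmem : ∀ B, Sieve.generate (Presieve.ofArrows _ (fam B)) ∈ QuotSh.J (Scheme.precoverage P) S _ := fun B => by
    refine generate_mem_J P (fam B) (fun x => ?_) fun i => ?_
    · obtain ⟨i, hi⟩ := hs (Spec.map (CommRingCat.ofHom (algebraMap R B)) x)
      refine ⟨i, ?_⟩
      show x ∈ Set.range (Spec.map (rh (Adeq.Alg.unit R (C i) B)))
      rw [range_coAlg]
      exact hi
    · exact P.of_isPullback (isPullback_coAlg (C i) B) (hP i)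
  refine adequate_of_descent_family _ C (fun i => (adequate_restr_iff (C := CommRingCat.of (C i)) a _ rfl M).2 (hC i))
    (fun B x hx => eq_zero_of_cover (isSheaf_secPre M) (fam B) (hmem B) hx) fun B y hy => ?_
  obtain ⟨t, ht, -⟩ := existsUnique_glue (isSheaf_secPre M) (fam B) (hmem B) y fun i j Z g h e => by
    have e' : g.left ≫ Spec.map (rh (Adeq.Alg.unit R (C i) B)) =
        h.left ≫ Spec.map (rh (Adeq.Alg.unit R (C j) B)) := congrArg CommaMorphism.left e
    have halg : Spec.map (CommRingCat.ofHom (algebraMap R (coAlg (C i) B))) =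
        Spec.map (rh (Adeq.Alg.unit R (C i) B)) ≫ Spec.map (CommRingCat.ofHom (algebraMap R B)) := (rh_alg _).symm
    have hw : (h.left ≫ Spec.map (inclL (C j) B)) ≫ Spec.map (CommRingCat.ofHom (algebraMap R (C j))) =
        g.left ≫ Spec.map (CommRingCat.ofHom (algebraMap R (coAlg (C i) B))) := by
      rw [Category.assoc, (isPullback_coAlg (C j) B).w, halg, reassoc_of% e']
    let w := (isPullback_coAlg (C j) (coAlg (C i) B)).lift _ _ hw
    have hw1 := (isPullback_coAlg (C j) (coAlg (C i) B)).lift_snd _ _ hw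
    have hw2 := (isPullback_coAlg (C j) (coAlg (C i) B)).lift_fst _ _ hw
    let u₁ := Adeq.Alg.unit R (C j) (coAlg (C i) B)
    let u₂ := (Adeq.Alg.restr R (C j)).map ((Adeq.Alg.baseChange R (C j)).map (Adeq.Alg.unit R (C i) B))
    have hnat : Spec.map (rh u₂) ≫
        Spec.map (rh (Adeq.Alg.unit R (C j) B)) =
        Spec.map (rh u₁) ≫
          Spec.map (rh (Adeq.Alg.unit R (C i) B)) := by
      have h1 := congrArg (fun v => Spec.map (rh v))
        (AdeqLib.unit_naturality (C j) (Adeq.Alg.unit R (C i) B))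
      rw [← Spec.map_comp, ← Spec.map_comp]
      exact h1.symm
    have hw3 : w ≫ Spec.map (rh u₂) = h.left := by
      refine (isPullback_coAlg (C j) B).hom_ext ?_ ?_
      · rw [Category.assoc, inclL_map, hw2]
      · rw [Category.assoc, hnat, reassoc_of% hw1, e']
    let W : Z ⟶ (Adeq.specOver a).obj (op (coAlg (C j) (coAlg (C i) B))) := Over.homMk w (by
      show w ≫ Spec.map _ ≫ a = Z.hom
      rw [← Over.w g]
      show _ = g.left ≫ Spec.map _ ≫ a
      rw [← reassoc_of% hw1, reassoc_of% rh_alg])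
    have hg : g = W ≫ (Adeq.specOver a).map u₁.op := Over.OverMorphism.ext hw1.symm
    have hh : h = W ≫ (Adeq.specOver a).map u₂.op := Over.OverMorphism.ext hw3.symm
    rw [hg, hh, op_comp, op_comp, Functor.map_comp, Functor.map_comp, ConcreteCategory.comp_apply,
      ConcreteCategory.comp_apply]
    exact congrArg _ (hy i j)
  exact ⟨t, ht⟩

/-- Adequate modules have adequate functors over every affine object. -/
theorem adequate_toMVF (P : MorphismProperty Scheme.{u}) [P.IsStableUnderBaseChange] [P.IsStableUnderComposition]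
    [BigSite.OSh (Scheme.precoverage P)]
    (hopen : ∀ {X Y : Scheme.{u}} (f : X ⟶ Y), P f → IsOpenMap f)
    (himm : ∀ {X Y : Scheme.{u}} (f : X ⟶ Y), IsOpenImmersion f → P f)
    (M : BigSite.Mod (Scheme.precoverage P) S) (hM : Adeq.adequateMod (Scheme.precoverage P) S M)
    {R : CommRingCat.{u}} (b : Spec R ⟶ S) : Adeq.adequate R ((Adeq.toMVF (Scheme.precoverage P) b).obj M) := by
  obtain ⟨ι, T, a, hcov, had⟩ := hM
  obtain ⟨n, D, φ, hs, hP, hfac⟩ := exists_refine P hopen himm a hcov b
  let C : ULift.{u} (Fin n) → Adeq.Alg R := fun l =>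
    letI : Algebra R (D l.down) := (φ l.down).hom.toAlgebra
    Adeq.algOf R (D l.down)
  refine adequate_of_cover P M b C (fun x => ?_) (fun l => hP l.down) fun l => ?_
  · obtain ⟨l, hl⟩ := hs x
    exact ⟨⟨l⟩, hl⟩
  · obtain ⟨i, g, hg⟩ := hfac l.down
    exact adequate_of_factor (Spec.preimage g) (a i) _ (by rw [Spec.map_preimage]; exact hg) M (had i)

end Groth.Agent.AdeqShLib
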