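import Groth.Agent.AdeqShLib.Named

/-!
# Pullback and kernels of adequate modules
-/

set_option autoImplicit false
set_option backward.isDefEq.respectTransparency false
set_option backward.isDefEq.respectTransparency.types false
set_option maxHeartbeats 800000
universe u

namespace Groth.Agent.AdeqShLib

open CategoryTheory Limits AlgebraicGeometry Opposite TensorProduct Groth.Agent.AdeqLib

variable {K : Precoverage Scheme.{u}} [BigSite.OSh K] {S T : Scheme.{u}} (f : T ⟶ S)

/-- An affine object over `T`, seen over `S`. -/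
noncomputable def mapObjIso {R : CommRingCat.{u}} (b : Spec R ⟶ T) (B : Adeq.Alg R) :
    (Over.map f).obj ((Adeq.specOver b).obj (op B)) ≅ (Adeq.specOver (b ≫ f)).obj (op B) :=
  Over.isoMk (Iso.refl _) (by
    show 𝟙 _ ≫ Spec.map _ ≫ b ≫ f = (Spec.map _ ≫ b) ≫ f
    rw [Category.id_comp, Category.assoc])

/-- The functor of a pullback. -/
theorem adequate_pullMod_iff (M : BigSite.Mod K S) {R : CommRingCat.{u}} (b : Spec R ⟶ T) :
    Adeq.adequate R ((Adeq.toMVF K b).obj ((BigSite.pullMod K f).obj M)) ↔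
      Adeq.adequate R ((Adeq.toMVF K (b ≫ f)).obj M) := by
  let e := mapObjIso f b
  let F := (Adeq.toMVF K (b ≫ f)).obj M
  let F' := (Adeq.toMVF K b).obj ((BigSite.pullMod K f).obj M)
  let g : ∀ B : Adeq.Alg R, Val F B →ₗ[(B : Type u)] Val F' B := fun B =>
    { toFun := fun x => (secPre M).map (e B).hom.op x
      map_add' := fun x y => map_add ((secPre M).map (e B).hom.op).hom x y
      map_smul' := fun r x => by
        refine (M.val.map_smul (e B).hom.op (Adeq.toSect K (b ≫ f) B r) x).trans ?_
        refine congrArg (fun r => r • (show M.val.obj (op ((Over.map f).obj ((Adeq.specOver b).obj (op B)))) from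
          (secPre M).map (e B).hom.op x)) ?_
        apply ULift.ext
        show (Scheme.Hom.appTop (𝟙 (Spec (CommRingCat.of B)))).hom ((Scheme.ΓSpecIso (CommRingCat.of B)).inv.hom r) =
          (Scheme.ΓSpecIso (CommRingCat.of B)).inv.hom r
        simp }
  have hnat : ∀ {B B' : Adeq.Alg R} (h : B ⟶ B'),
      (Over.map f).map ((Adeq.specOver b).map h.op) ≫ (e B).hom =
        (e B').hom ≫ (Adeq.specOver (b ≫ f)).map h.op := fun {B B'} h => Over.OverMorphism.ext (by
    show Spec.map _ ≫ 𝟙 _ = 𝟙 _ ≫ Spec.map _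
    rw [Category.comp_id, Category.id_comp])
  let φ : F ⟶ F' := homMk g fun {B B'} h x => by
    show (secPre M).map (e B').hom.op ((secPre M).map ((Adeq.specOver (b ≫ f)).map h.op).op x) =
      (secPre M).map ((Over.map f).map ((Adeq.specOver b).map h.op)).op ((secPre M).map (e B).hom.op x)
    rw [← ConcreteCategory.comp_apply, ← ConcreteCategory.comp_apply, ← Functor.map_comp, ← Functor.map_comp,
      ← op_comp, ← op_comp, hnat]
  haveI : IsIso φ := isIso_of_bijective fun B => by
    exact (ConcreteCategory.isIso_iff_bijective ((secPre M).map (e B).hom.op)).1 inferInstance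
  exact ⟨fun hF => (Adeq.adequate R).prop_of_iso (asIso φ).symm hF, fun hF => (Adeq.adequate R).prop_of_iso (asIso φ) hF⟩

/-- Pullback of adequate modules. -/
theorem adequateMod_pullMod (M : BigSite.Mod Scheme.fppfPrecoverage S)
    (hM : Adeq.adequateMod Scheme.fppfPrecoverage S M) :
    Adeq.adequateMod Scheme.fppfPrecoverage T ((BigSite.pullMod Scheme.fppfPrecoverage f).obj M) :=
  adequateMod_fppf _ fun R b => (adequate_pullMod_iff f M b).2 (adequate_toMVF_fppf M hM _)

/-- Adequacy is local. -/
theorem adequateMod_of_cover_pullMod (S : Scheme.{u}) (M : BigSite.Mod Scheme.fppfPrecoverage S) {ι : Type u}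
    (T : ι → Scheme.{u}) (f : ∀ i, T i ⟶ S) (hcov : Presieve.ofArrows T f ∈ Scheme.fppfPrecoverage.coverings S)
    (h : ∀ i, Adeq.adequateMod Scheme.fppfPrecoverage (T i) ((BigSite.pullMod Scheme.fppfPrecoverage (f i)).obj M)) :
    Adeq.adequateMod Scheme.fppfPrecoverage S M := by
  choose κ R a hc had using h
  refine ⟨Σ i, κ i, fun k => R k.1 k.2, fun k => a k.1 k.2 ≫ f k.1, ?_, fun k => (adequate_pullMod_iff (f k.1) M _).1 (had k.1 k.2)⟩
  refine (Scheme.ofArrows_mem_precoverage_iff fppfP).2 ?_
  obtain ⟨hs, hP⟩ := (Scheme.ofArrows_mem_precoverage_iff fppfP).1 hcov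
  refine ⟨fun x => ?_, fun k => MorphismProperty.comp_mem _ _ _ (((Scheme.ofArrows_mem_precoverage_iff fppfP).1 (hc k.1)).2 k.2) (hP k.1)⟩
  obtain ⟨i, y, rfl⟩ := hs x
  obtain ⟨k, z, rfl⟩ := ((Scheme.ofArrows_mem_precoverage_iff fppfP).1 (hc i)).1 y
  exact ⟨⟨i, k⟩, z, rfl⟩

/-- Exactness of sections at a kernel. -/
theorem kernel_sections {M N : BigSite.Mod K S} (φ : M ⟶ N) (X : Over S) :
    Function.Injective ((kernel.ι φ).val.app (op X)) ∧
      Function.Exact ((kernel.ι φ).val.app (op X)) (φ.val.app (op X)) := by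
  let E := SheafOfModules.evaluation (BigSite.ORing K S) (op X)
  haveI : E.PreservesZeroMorphisms := ⟨fun _ _ => rfl⟩
  let C := ShortComplex.mk (kernel.ι φ) φ (kernel.condition φ)
  have hC : C.Exact := ShortComplex.exact_of_f_is_kernel C (kernelIsKernel φ)
  haveI : Mono C.f := inferInstanceAs (Mono (kernel.ι φ))
  refine ⟨(ModuleCat.mono_iff_injective (E.map (kernel.ι φ))).1 inferInstance, ?_⟩
  exact (ShortComplex.ShortExact.moduleCat_exact_iff_function_exact _).1 (hC.map_of_mono_of_preservesKernel E inferInstance inferInstance)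

/-- Kernels of maps of adequate modules. -/
theorem adequateMod_kernel {M N : BigSite.Mod Scheme.fppfPrecoverage S} (φ : M ⟶ N)
    (hM : Adeq.adequateMod Scheme.fppfPrecoverage S M) (hN : Adeq.adequateMod Scheme.fppfPrecoverage S N) :
    Adeq.adequateMod Scheme.fppfPrecoverage S (kernel φ) := by
  refine adequateMod_fppf _ fun R a => ?_
  exact adequate_of_exact ((Adeq.toMVF _ a).map (kernel.ι φ)) ((Adeq.toMVF _ a).map φ)
    (adequate_toMVF_fppf M hM a) (adequate_toMVF_fppf N hN a)
    (fun B => (kernel_sections φ _).1) (fun B => (kernel_sections φ _).2)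

end Groth.Agent.AdeqShLib
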