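import Groth.Agent.AdeqShLib.Cech
import Groth.Agent.AdeqShLib.Colim
import Groth.Agent.AdeqShLib.Funct
import Groth.Agent.AdeqLib.Ext

/-!
# Extensions of adequate modules
-/

set_option autoImplicit false
set_option backward.isDefEq.respectTransparency false
set_option backward.isDefEq.respectTransparency.types false
set_option maxHeartbeats 800000
universe u w

namespace Groth.Agent.AdeqShLib

open CategoryTheory Limits AlgebraicGeometry Opposite TensorProduct Groth.Agent.AdeqLib

variable {S : Scheme.{u}} {R : CommRingCat.{u}} (a : Spec R ⟶ S)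

/-- The base, as an object over itself. -/
noncomputable abbrev topOb (R : CommRingCat.{u}) : Over (Spec R) := Over.mk (𝟙 (Spec R))

/-- The structure map to the base. -/
noncomputable def toTop (Z : Over (Spec R)) : Z ⟶ topOb R := Over.homMk Z.hom (Category.comp_id _)

theorem toTop_unique {Z : Over (Spec R)} (f : Z ⟶ topOb R) : f = toTop Z :=
  Over.OverMorphism.ext ((Category.comp_id _).symm.trans (Over.w f))

theorem specMap_algebraMap_self : (Spec.map (CommRingCat.ofHom (algebraMap (R : Type u) (R : Type u))) : Spec R ⟶ Spec R) = 𝟙 (Spec R) := by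
  rw [Algebra.algebraMap_self]
  exact Spec.map_id R
/-- The base object via the identity algebra. -/
noncomputable def selfBase0 : Over S := Over.mk ((Spec.map (CommRingCat.ofHom (algebraMap (R : Type u) (R : Type u))) : Spec R ⟶ Spec R) ≫ a)
/-- The base object. -/
noncomputable def selfBase1 : Over S := Over.mk (𝟙 (Spec R) ≫ a)
theorem selfBase01 : selfBase0 a = selfBase1 a := congrArg (fun v : Spec R ⟶ Spec R => Over.mk (v ≫ a)) specMap_algebraMap_self
theorem selfBase0_hom : (selfBase0 a).hom = (Spec.map (CommRingCat.ofHom (algebraMap (R : Type u) (R : Type u))) : Spec R ⟶ Spec R) ≫ a := rfl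
theorem selfBase1_hom : (selfBase1 a).hom = 𝟙 (Spec R) ≫ a := rfl
theorem selfBase_w : (Iso.refl (Spec R)).hom ≫ (selfBase1 a).hom = (selfBase0 a).hom := by
  have h4 : (Iso.refl (Spec R)).hom ≫ (selfBase1 a).hom = 𝟙 (Spec R) ≫ (selfBase1 a).hom := rfl
  have h5 : 𝟙 (Spec R) ≫ (selfBase1 a).hom = (selfBase1 a).hom := Category.id_comp (selfBase1 a).hom
  exact (h4.trans h5).trans ((selfBase1_hom a).trans ((congrArg (fun v : Spec R ⟶ Spec R => v ≫ a) specMap_algebraMap_self).symm.trans (selfBase0_hom a).symm))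
/-- Comparison of the two base objects. -/
noncomputable def selfBaseIso : selfBase0 a ≅ selfBase1 a := Over.isoMk (f := selfBase0 a) (g := selfBase1 a) (Iso.refl (Spec R)) (selfBase_w a)
/-- The two incarnations of an affine base. -/
noncomputable def topIso : (Adeq.specOver a).obj (op (Adeq.algOf R R)) ≅ (Over.map a).obj (Over.mk (𝟙 (Spec R))) :=
  (Iso.refl (selfBase0 a) ≪≫ selfBaseIso a ≪≫ Iso.refl (selfBase1 a) : selfBase0 a ≅ selfBase1 a)
theorem topIso_hom_left : (topIso a).hom.left = 𝟙 (Spec R) := by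
  show (𝟙 (selfBase0 a) ≫ (selfBaseIso a).hom ≫ 𝟙 (selfBase1 a)).left = 𝟙 (Spec R)
  rw [Category.id_comp, Category.comp_id]
  rfl

theorem sieve_mem_of_comp {C : Type*} [Category C] {T : C} {X Y Z Z' : Over T} (Sv : Sieve Y) (e : X ⟶ Y)
    (m : Z ⟶ X) (m' : Z' ⟶ Y) (e' : Z' ⟶ Z) (h : Sv (m ≫ e)) (hm : m' = e' ≫ m ≫ e) : Sv m' := by
  rw [hm]
  exact Sv.downward_closed h e'

/-- A covering sieve of the base contains a finite faithfully flat affine family. -/
theorem exists_ff_refine_top (Sv : Sieve ((Over.map a).obj (topOb R)))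
    (hSv : Sv ∈ QuotSh.J Scheme.fppfPrecoverage S _) :
    ∃ (ι : Type u) (_ : Finite ι) (C : ι → Adeq.Alg R), Module.FaithfullyFlat R (∀ i, (C i : Type u)) ∧
      (∀ x : Spec R, ∃ i, x ∈ Set.range (Spec.map (CommRingCat.ofHom (algebraMap R (C i))))) ∧
      (∀ i, fppfP (Spec.map (CommRingCat.ofHom (algebraMap R (C i))))) ∧
      ∀ i, Sv ((Over.map a).map (toTop (bOb R (C i)))) := by
  obtain ⟨ι, hι, C, hC, hs, hP, hmap⟩ := exists_ff_refine a (Sv.pullback (topIso a).hom)
    (GrothendieckTopology.pullback_stable _ _ hSv)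
  refine ⟨ι, hι, C, hC, hs, hP, fun i => ?_⟩
  have hh : ((Over.map a).obj (bOb R (C i))).hom = ((Adeq.specOver a).obj (op (C i))).hom := rfl
  let e' : (Over.map a).obj (bOb R (C i)) ⟶ (Adeq.specOver a).obj (op (C i)) :=
    Over.homMk (U := (Over.map a).obj (bOb R (C i))) (V := (Adeq.specOver a).obj (op (C i)))
      (𝟙 (Spec (CommRingCat.of (C i)))) ((Category.id_comp _).trans hh.symm)
  refine sieve_mem_of_comp Sv _ _ _ e' (hmap i) (Over.OverMorphism.ext ?_)
  let m := (Adeq.specOver a).map (CommAlgCat.ofHom (Algebra.ofId R (C i)) : Adeq.algOf R R ⟶ C i).op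
  show Spec.map (CommRingCat.ofHom (algebraMap R (C i))) = e'.left ≫ m.left ≫ (topIso a).hom.left
  have h1 : e'.left = 𝟙 (Spec (CommRingCat.of (C i))) := rfl
  have h2 : m.left = (Spec.map (CommRingCat.ofHom (algebraMap R (C i))) : Spec (CommRingCat.of (C i)) ⟶ Spec R) := rfl
  rw [topIso_hom_left, h1, h2]
  exact ((Category.id_comp _).trans (Category.comp_id _)).symm

/-- Gluing along a covering of an object over the affine base. -/
theorem glue_base (M : BigSite.Mod Scheme.fppfPrecoverage S) {W : Over (Spec R)} {ι : Type w} {V : ι → Over (Spec R)}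
    (f : ∀ i, V i ⟶ W) (hs : ∀ x : W.left, ∃ i, x ∈ Set.range (f i).left) (hP : ∀ i, fppfP (f i).left)
    (x : ∀ i, (baseAb R a M).obj (op (V i)))
    (hx : ∀ i j (Z : Over (Spec R)) (g : Z ⟶ V i) (h : Z ⟶ V j), g ≫ f i = h ≫ f j →
      (baseAb R a M).map g.op (x i) = (baseAb R a M).map h.op (x j)) :
    ∃! t : (baseAb R a M).obj (op W), ∀ i, (baseAb R a M).map (f i).op t = x i := by
  refine existsUnique_glue (isSheaf_secPre M) (fun i => (Over.map a).map (f i))
    (generate_mem_J fppfP _ hs hP) x fun i j Z g h e => ?_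
  let Z₀ : Over (Spec R) := Over.mk (g.left ≫ (V i).hom)
  have hl : g.left ≫ (f i).left = h.left ≫ (f j).left := congrArg CommaMorphism.left e
  let g₀ : Z₀ ⟶ V i := Over.homMk g.left rfl
  let h₀ : Z₀ ⟶ V j := Over.homMk h.left (by
    show h.left ≫ (V j).hom = g.left ≫ (V i).hom
    rw [← Over.w (f i), ← Over.w (f j), ← Category.assoc, ← Category.assoc, hl])
  have h0 := hx i j Z₀ g₀ h₀ (Over.OverMorphism.ext hl)
  let e₀ : Z ⟶ (Over.map a).obj Z₀ := Over.homMk (𝟙 _) ((Category.id_comp _).trans
    ((Category.assoc _ _ _).trans (Over.w g)))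
  have hg : g = e₀ ≫ (Over.map a).map g₀ := Over.OverMorphism.ext (Category.id_comp _).symm
  have hh : h = e₀ ≫ (Over.map a).map h₀ := Over.OverMorphism.ext (Category.id_comp _).symm
  rw [hg, hh, op_comp, op_comp, Functor.map_comp, Functor.map_comp]
  exact congrArg ((secPre M).map e₀.op) h0

theorem section_eq_zero_of_isEmpty (M : BigSite.Mod Scheme.fppfPrecoverage S) (W : Over (Spec R)) [IsEmpty W.left]
    (x : (baseAb R a M).obj (op W)) : x = 0 :=
  (glue_base a M (W := W) (ι := PEmpty.{1}) (V := fun i => i.elim) (fun i => i.elim) (fun x => isEmptyElim x)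
    (fun i => i.elim) (fun i => i.elim) (fun i => i.elim)).unique (fun i => i.elim) (fun i => i.elim)

section Surj

variable {M N : BigSite.Mod Scheme.fppfPrecoverage S} (g : M ⟶ N)

/-- A map of modules on sections. -/
noncomputable def secMap : baseAb R a M ⟶ baseAb R a N :=
  Functor.whiskerLeft (Over.map a).op ((PresheafOfModules.toPresheaf _).map g.val)

/-- Local lifts of a section along an epimorphism. -/
theorem exists_local_lifts [Epi g] (s : (baseAb R a N).obj (op (topOb R))) :
    ∃ (ι : Type u) (_ : Finite ι) (C : ι → Adeq.Alg R), Module.FaithfullyFlat R (∀ i, (C i : Type u)) ∧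
      (∀ x : Spec R, ∃ i, x ∈ Set.range (Spec.map (CommRingCat.ofHom (algebraMap R (C i))))) ∧
      (∀ i, fppfP (Spec.map (CommRingCat.ofHom (algebraMap R (C i))))) ∧
      ∀ i, ∃ t : (baseAb R a M).obj (op (bOb R (C i))),
        (secMap a g).app _ t = (baseAb R a N).map (toTop (bOb R (C i))).op s := by
  let φ := (toPre S).map g
  let P := cokernel φ
  let L := PresheafOfModules.sheafification.{u + 1} (𝟙 (BigSite.ORing Scheme.fppfPrecoverage S).obj)
  let c := asIso (PresheafOfModules.sheafificationAdjunction (𝟙 (BigSite.ORing Scheme.fppfPrecoverage S).obj)).counit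
  have hz : IsZero (L.obj P) := (isZero_cokernel_of_epi g).of_iso
    (PreservesCokernel.iso L φ ≪≫ cokernel.mapIso _ _ (c.app M) (c.app N) (c.hom.naturality g))
  let X := (Over.map a).obj (topOb R)
  let E := PresheafOfModules.evaluation.{u + 1} (BigSite.ORing Scheme.fppfPrecoverage S).obj (op X)
  haveI : (SheafOfModules.evaluation.{u + 1} (BigSite.ORing Scheme.fppfPrecoverage S) (op X)).PreservesZeroMorphisms :=
    ⟨fun _ _ => rfl⟩
  have hsub : Subsingleton ((L.obj P).val.obj (op X)) :=
    ModuleCat.subsingleton_of_isZero ((SheafOfModules.evaluation.{u + 1} (BigSite.ORing Scheme.fppfPrecoverage S) (op X)).map_isZero hz)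
  let π := ((PresheafOfModules.toPresheaf _).map (cokernel.π φ))
  have hmem := Presheaf.equalizerSieve_mem (QuotSh.J Scheme.fppfPrecoverage S) (toShAb P) (π.app (op X) s) 0
    (@Subsingleton.elim _ hsub _ _)
  obtain ⟨ι, hι, C, hC, hs, hP, hmap⟩ := exists_ff_refine_top a _ hmem
  refine ⟨ι, hι, C, hC, hs, hP, fun i => ?_⟩
  have h0 : π.app _ ((baseAb R a N).map (toTop (bOb R (C i))).op s) = 0 :=
    ((NatTrans.naturality_apply π ((Over.map a).map (toTop (bOb R (C i)))).op s).trans (hmap i)).trans (map_zero _)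
  let C' := ShortComplex.mk φ (cokernel.π φ) (cokernel.condition φ)
  let E' := PresheafOfModules.evaluation.{u + 1} (BigSite.ORing Scheme.fppfPrecoverage S).obj
    (op ((Over.map a).obj (bOb R (C i))))
  haveI : E'.PreservesZeroMorphisms := ⟨fun _ _ => rfl⟩
  haveI : Epi C'.g := inferInstanceAs (Epi (cokernel.π φ))
  exact ((ShortComplex.ShortExact.moduleCat_exact_iff_function_exact _).1
    ((ShortComplex.exact_of_g_is_cokernel C' (cokernelIsCokernel φ)).map_of_epi_of_preservesCokernel E' inferInstance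
      inferInstance) _).1 h0

end Surj

section Pi

variable {ι : Type u} (C : ι → Adeq.Alg R)

/-- The factors of a product algebra. -/
noncomputable def piInc (i : ι) : bOb R (C i) ⟶ bOb R (∀ i, (C i : Type u)) :=
  Over.homMk (Spec.map (CommRingCat.ofHom (Pi.evalRingHom (fun i => (C i : Type u)) i)))
    ((Spec.map_comp _ _).symm)

theorem piInc_surjective [Finite ι] (x : (bOb R (∀ i, (C i : Type u))).left) :
    ∃ i, x ∈ Set.range (piInc C i).left := by
  obtain ⟨⟨i, p⟩, hp⟩ := (PrimeSpectrum.sigmaToPi_bijective fun i => (C i : Type u)).2 x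
  exact ⟨i, p, hp⟩

theorem piInc_disjoint {i j : ι} (x : (bOb R (C i)).left) (y : (bOb R (C j)).left)
    (h : (piInc C i).left x = (piInc C j).left y) : i = j :=
  congrArg Sigma.fst (PrimeSpectrum.sigmaToPi_injective (fun i => (C i : Type u)) (a₁ := ⟨i, x⟩) (a₂ := ⟨j, y⟩) h)

theorem isOpenImmersion_piInc (i : ι) : IsOpenImmersion (piInc C i).left := by
  classical
  letI := (Pi.evalRingHom (fun i => (C i : Type u)) i).toAlgebra
  let e := Function.update (β := fun i => (C i : Type u)) 0 i 1
  haveI : IsLocalization.Away e (C i : Type u) := by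
    apply IsLocalization.away_of_isIdempotentElem_of_mul
    · ext j; by_cases h : j = i <;> aesop
    · intro x y
      constructor
      · intro he; ext j; by_cases h : j = i <;> aesop
      · intro he; simpa [e] using! congr_fun he i
    · exact Function.surjective_eval _
  exact IsOpenImmersion.of_isLocalization e

theorem fppf_piInc (i : ι) : fppfP (piInc C i).left := by
  haveI := isOpenImmersion_piInc C i
  exact fppfP_of_isOpenImmersion _ inferInstance

theorem exists_pi_section [Finite ι] (M : BigSite.Mod Scheme.fppfPrecoverage S)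
    (t : ∀ i, (baseAb R a M).obj (op (bOb R (C i)))) :
    ∃! x : (baseAb R a M).obj (op (bOb R (∀ i, (C i : Type u)))),
      ∀ i, (baseAb R a M).map (piInc C i).op x = t i := by
  refine glue_base a M (piInc C) (piInc_surjective C) (fppf_piInc C) t fun i j Z g h e => ?_
  by_cases hij : i = j
  · subst hij
    haveI := isOpenImmersion_piInc C i
    have : g = h := Over.OverMorphism.ext ((cancel_mono (piInc C i).left).1 (congrArg CommaMorphism.left e))
    rw [this]
  · haveI : IsEmpty Z.left := ⟨fun z => hij (piInc_disjoint C (g.left z) (h.left z) (by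
      have h1 := congrArg (fun f => f.base z) (congrArg CommaMorphism.left e)
      simpa using h1))⟩
    rw [section_eq_zero_of_isEmpty a M Z ((baseAb R a M).map g.op (t i)),
      section_eq_zero_of_isEmpty a M Z ((baseAb R a M).map h.op (t j))]

end Pi

/-- A short exact sequence with adequate kernel is exact on sections over affines. -/
theorem sections_surjective_top {C : ShortComplex (BigSite.Mod Scheme.fppfPrecoverage S)} (hC : C.ShortExact)
    (h₁ : Adeq.adequateMod Scheme.fppfPrecoverage S C.X₁) (s : (baseAb R a C.X₃).obj (op (topOb R))) :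
    ∃ t, (secMap a C.g).app _ t = s := by
  haveI := hC.epi_g
  obtain ⟨ι, hι, A, hA, hs, hP, hlift⟩ := exists_local_lifts a C.g s
  haveI := hι
  haveI := hA
  choose t ht using hlift
  let G₁ := baseAb R a C.X₁
  let G₂ := baseAb R a C.X₂
  let G₃ := baseAb R a C.X₃
  let B := ∀ i, (A i : Type u)
  obtain ⟨tB, htB, -⟩ := exists_pi_section a A C.X₂ t
  have hgB : (secMap a C.g).app _ tB = G₃.map (toTop (bOb R B)).op s := by
    refine (glue_base a C.X₃ (piInc A) (piInc_surjective A) (fppf_piInc A)
      (fun i => G₃.map (toTop (bOb R (A i))).op s) fun i j Z g h _ => ?_).unique (fun i => ?_) fun i => ?_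
    · rw [← ConcreteCategory.comp_apply, ← ConcreteCategory.comp_apply, ← G₃.map_comp, ← G₃.map_comp, ← op_comp,
        ← op_comp, toTop_unique (g ≫ _), toTop_unique (h ≫ _)]
    · rw [← ht i, ← htB i]
      exact (NatTrans.naturality_apply (secMap a C.g) _ tB).symm
    · rw [← ConcreteCategory.comp_apply, ← G₃.map_comp, ← op_comp, toTop_unique (piInc A i ≫ _)]
  let r : ∀ k, Fin k → G₂.obj (op (qOb R B k)) := fun k j => G₂.map (qPr R B k j).op tB
  have hr : ∀ k (i : Fin (k + 1)) (j : Fin k), G₂.map (qFaceOb R B k i).op (r k j) = r (k + 1) (i.succAbove j) := by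
    intro k i j
    simp only [r]
    rw [← ConcreteCategory.comp_apply, ← G₂.map_comp, ← op_comp, qFaceOb_qPr]
  have hgr : ∀ k (j : Fin k), (secMap a C.g).app _ (r k j) = G₃.map (toTop (qOb R B k)).op s := by
    intro k j
    refine (NatTrans.naturality_apply (secMap a C.g) _ tB).trans ((congrArg _ hgB).trans ?_)
    rw [← ConcreteCategory.comp_apply, ← G₃.map_comp, ← op_comp, toTop_unique (qPr R B k j ≫ _)]
  have hex : ∀ k, Function.Injective ((secMap (R := R) a C.f).app (op (qOb R B k))) ∧
      Function.Exact ((secMap (R := R) a C.f).app (op (qOb R B k))) ((secMap (R := R) a C.g).app (op (qOb R B k))) := by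
    intro k
    haveI := hC.mono_f
    let E := SheafOfModules.evaluation (BigSite.ORing Scheme.fppfPrecoverage S) (op ((Over.map a).obj (qOb R B k)))
    haveI : E.PreservesZeroMorphisms := ⟨fun _ _ => rfl⟩
    refine ⟨(ModuleCat.mono_iff_injective (E.map C.f)).1 inferInstance, ?_⟩
    exact (ShortComplex.ShortExact.moduleCat_exact_iff_function_exact _).1
      (hC.exact.map_of_mono_of_preservesKernel E inferInstance inferInstance)
  obtain ⟨c, hc⟩ := ((hex 2).2 (r 2 1 - r 2 0)).1 (by rw [map_sub, hgr, hgr, sub_self])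
  obtain ⟨y, hy⟩ := qOb_exact R B a C.X₁ h₁ 1 c ((hex 3).1 (by
    rw [map_sum, map_zero]
    refine (Finset.sum_congr rfl fun (i : Fin 3) _ => (map_zsmul ((secMap a C.f).app (op (qOb R B 3))).hom _ _).trans
      (congrArg ((-1 : ℤ) ^ (i : ℕ) • ·) (((NatTrans.naturality_apply (secMap a C.f) _ c).trans (congrArg _ hc)).trans
        ((map_sub (G₂.map (qFaceOb R B 2 i).op).hom (r 2 1) (r 2 0)).trans
          (congrArg₂ (· - ·) (hr 2 i 1) (hr 2 i 0)))))).trans ?_
    simp [Fin.sum_univ_three, Fin.succAbove]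
    try abel))
  let t' := r 1 0 - (secMap a C.f).app _ y
  have ht' : G₂.map (qFaceOb R B 1 0).op t' = G₂.map (qFaceOb R B 1 1).op t' := by
    have h := congrArg ((secMap a C.f).app _) hy
    rw [map_sum, Fin.sum_univ_two, map_zsmul, map_zsmul, NatTrans.naturality_apply, NatTrans.naturality_apply, hc] at h
    simp only [Fin.val_zero, Fin.val_one, pow_zero, pow_one, one_zsmul, neg_zsmul] at h
    simp only [t', map_sub, hr]
    rw [Fin.succAbove_zero, show (1 : Fin 2).succAbove (0 : Fin 1) = 0 from rfl, show Fin.succ (0 : Fin 1) = 1 from rfl]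
    linear_combination (norm := abel) -h
  have hcompat : ∀ (Z : Over (Spec R)) (g h : Z ⟶ qOb R B 1), G₂.map g.op t' = G₂.map h.op t' := by
    intro Z g h
    obtain ⟨u, hu⟩ := exists_qOb_lift R B (k := 2) ![g ≫ qPr R B 1 0, h ≫ qPr R B 1 0]
    have hg : u ≫ qFaceOb R B 1 1 = g := qOb_hom_ext R B fun j => by
      fin_cases j; rw [Category.assoc, qFaceOb_qPr]; exact hu 0
    have hh : u ≫ qFaceOb R B 1 0 = h := qOb_hom_ext R B fun j => by
      fin_cases j; rw [Category.assoc, qFaceOb_qPr]; exact hu 1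
    rw [← hg, ← hh, op_comp, op_comp, G₂.map_comp, G₂.map_comp, ConcreteCategory.comp_apply,
      ConcreteCategory.comp_apply, ht']
  choose v hv using fun i => exists_qOb_lift R B (Z := bOb R (A i)) (k := 1) fun _ => piInc A i
  obtain ⟨x, hx, -⟩ := glue_base a C.X₂ (fun i => toTop (bOb R (A i))) hs hP (fun i => G₂.map (v i).op t')
    fun i j Z g h _ => by
      rw [← ConcreteCategory.comp_apply, ← ConcreteCategory.comp_apply, ← G₂.map_comp, ← G₂.map_comp, ← op_comp,
        ← op_comp]
      exact hcompat Z _ _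
  refine ⟨x, (glue_base a C.X₃ (fun i => toTop (bOb R (A i))) hs hP (fun i => G₃.map (toTop (bOb R (A i))).op s)
    fun i j Z g h _ => ?_).unique (fun i => ?_) fun i => rfl⟩
  · rw [← ConcreteCategory.comp_apply, ← ConcreteCategory.comp_apply, ← G₃.map_comp, ← G₃.map_comp, ← op_comp,
      ← op_comp, toTop_unique (g ≫ _), toTop_unique (h ≫ _)]
  · refine (NatTrans.naturality_apply (secMap a C.g) _ x).symm.trans ?_
    rw [hx i, NatTrans.naturality_apply, map_sub, (hex 1).2.apply_apply_eq_zero, sub_zero, hgr,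
      ← ConcreteCategory.comp_apply, ← G₃.map_comp, ← op_comp, toTop_unique (v i ≫ _)]

theorem adequateMod_ext {C : ShortComplex (BigSite.Mod Scheme.fppfPrecoverage S)} (hC : C.ShortExact)
    (h₁ : Adeq.adequateMod Scheme.fppfPrecoverage S C.X₁) (h₃ : Adeq.adequateMod Scheme.fppfPrecoverage S C.X₃) :
    Adeq.adequateMod Scheme.fppfPrecoverage S C.X₂ := by
  refine adequateMod_fppf _ fun R a => ?_
  haveI : (Adeq.toMVF Scheme.fppfPrecoverage a).PreservesZeroMorphisms := ⟨fun _ _ => rfl⟩
  let D := C.map (Adeq.toMVF Scheme.fppfPrecoverage a)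
  haveI := hC.mono_f
  have hE : ∀ B : Adeq.Alg R, Function.Injective (app D.f B) ∧ Function.Exact (app D.f B) (app D.g B) := by
    intro B
    let E := SheafOfModules.evaluation (BigSite.ORing Scheme.fppfPrecoverage S) (op ((Adeq.specOver a).obj (op B)))
    haveI : E.PreservesZeroMorphisms := ⟨fun _ _ => rfl⟩
    refine ⟨(ModuleCat.mono_iff_injective (E.map C.f)).1 inferInstance, ?_⟩
    exact (ShortComplex.ShortExact.moduleCat_exact_iff_function_exact _).1
      (hC.exact.map_of_mono_of_preservesKernel E inferInstance inferInstance)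
  have hsurj : ∀ B : Adeq.Alg R, Function.Surjective (app D.g B) := by
    intro B s
    let a' : Spec (CommRingCat.of B) ⟶ S := Spec.map (CommRingCat.ofHom (algebraMap R B)) ≫ a
    let e : (Adeq.specOver a).obj (op B) ≅ (Over.map a').obj (topOb (CommRingCat.of B)) :=
      selfIso a B ≪≫ topIso a'
    obtain ⟨t, ht⟩ := sections_surjective_top a' hC h₁ ((secPre C.X₃).map e.inv.op s)
    refine ⟨(secPre C.X₂).map e.hom.op t, ?_⟩
    refine (NatTrans.naturality_apply ((PresheafOfModules.toPresheaf _).map C.g.val) e.hom.op t).trans ?_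
    refine (congrArg _ ht).trans ?_
    rw [← ConcreteCategory.comp_apply]
    refine ConcreteCategory.congr_hom (g := 𝟙 ((secPre C.X₃).obj (op ((Adeq.specOver a).obj (op B))))) ?_ s
    rw [← Functor.map_comp, ← op_comp, e.hom_inv_id, op_id]
    exact (secPre C.X₃).map_id _
  haveI : Mono D.f := mono_iff.2 fun B => (hE B).1
  haveI : Epi D.g := epi_iff.2 hsurj
  have hD : D.Exact := by
    refine D.exact_iff_epi_kernel_lift.2 (epi_iff.2 fun B y => ?_)
    obtain ⟨x, hx⟩ := ((hE B).2 (app (kernel.ι D.g) B y)).1 ((kernel_ι_mem D.g B _).2 ⟨y, rfl⟩)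
    refine ⟨x, kernel_ι_injective D.g B ?_⟩
    rw [← app_comp, kernel.lift_ι, hx]
  exact adequate_ext (S := D) { exact := hD } (adequate_toMVF_fppf _ h₁ a) (adequate_toMVF_fppf _ h₃ a)

end Groth.Agent.AdeqShLib
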