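import Groth.Agent.AdeqShLib.Push
import Groth.Agent.AdeqShLib.Funct

/-!
# Families over an affine base: the functor of sections on base changes
-/

set_option autoImplicit false
set_option backward.isDefEq.respectTransparency false
set_option backward.isDefEq.respectTransparency.types false
set_option maxHeartbeats 800000
universe u

namespace Groth.Agent.AdeqShLib

open CategoryTheory Limits AlgebraicGeometry Opposite TensorProduct Groth.Agent.AdeqLib

variable {T : Scheme.{u}} {R : CommRingCat.{u}} {Y Y' : Scheme.{u}}

/-- The functor `M ↦ (B ↦ M(Y ×_R Spec B))`. -/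
noncomputable abbrev famFun (q : Y ⟶ Spec R) (p : Y ⟶ T) : BigSite.Mod Scheme.fppfPrecoverage T ⥤ Adeq.MVF R :=
  BigSite.pullMod Scheme.fppfPrecoverage p ⋙ BigSite.pushMod Scheme.fppfPrecoverage q ⋙
    Adeq.toMVF Scheme.fppfPrecoverage (𝟙 (Spec R))

/-- The base change of a family. -/
noncomputable abbrev famObj (q : Y ⟶ Spec R) (p : Y ⟶ T) (B : Adeq.Alg R) : Over T :=
  (Over.map p).obj ((Over.pullback q).obj ((Adeq.specOver (𝟙 (Spec R))).obj (op B)))

theorem famFun_val (q : Y ⟶ Spec R) (p : Y ⟶ T) (M : BigSite.Mod Scheme.fppfPrecoverage T) (B : Adeq.Alg R) :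
    Val ((famFun q p).obj M) B = (secPre M).obj (op (famObj q p B)) := rfl

theorem adequate_famFun (q : Y ⟶ Spec R) (p : Y ⟶ T) [QuasiCompact q] [QuasiSeparated q]
    (M : BigSite.Mod Scheme.fppfPrecoverage T) (hM : Adeq.adequateMod Scheme.fppfPrecoverage T M) :
    Adeq.adequate R ((famFun q p).obj M) :=
  adequate_toMVF_fppf _ (adequateMod_pushMod q _ (adequateMod_pullMod p M hM)) _

variable {q : Y ⟶ Spec R} {p : Y ⟶ T} {q' : Y' ⟶ Spec R} {p' : Y' ⟶ T} (h : Y' ⟶ Y) (hq : h ≫ q = q')
  (hp : h ≫ p = p')

/-- A map of families on base changes. -/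
noncomputable def famMap (B : Adeq.Alg R) : famObj q' p' B ⟶ famObj q p B :=
  Over.homMk (pullback.map ((Adeq.specOver (𝟙 (Spec R))).obj (op B)).hom q'
      ((Adeq.specOver (𝟙 (Spec R))).obj (op B)).hom q (𝟙 _) h (𝟙 _)
      ((Category.comp_id _).trans (Category.id_comp _).symm) ((Category.comp_id _).trans hq.symm))
    (by
      show pullback.map _ _ _ _ _ _ _ _ _ ≫ pullback.snd _ q ≫ p = pullback.snd _ q' ≫ p'
      rw [pullback.lift_snd_assoc, Category.assoc, hp])

theorem famMap_left_fst (B : Adeq.Alg R) :
    (famMap h hq hp B).left ≫ pullback.fst ((Adeq.specOver (𝟙 (Spec R))).obj (op B)).hom q =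
      pullback.fst ((Adeq.specOver (𝟙 (Spec R))).obj (op B)).hom q' :=
  (pullback.lift_fst _ _ _).trans (Category.comp_id _)

theorem famMap_left_snd (B : Adeq.Alg R) :
    (famMap h hq hp B).left ≫ pullback.snd ((Adeq.specOver (𝟙 (Spec R))).obj (op B)).hom q =
      pullback.snd ((Adeq.specOver (𝟙 (Spec R))).obj (op B)).hom q' ≫ h :=
  pullback.lift_snd _ _ _

/-- Restriction along a map of families. -/
noncomputable def famRes : famFun q p ⟶ famFun q' p' where
  app M := homMk (fun B =>
    { toFun := fun x => (secPre M).map (famMap h hq hp B).op x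
      map_add' := fun x y => map_add ((secPre M).map (famMap h hq hp B).op).hom x y
      map_smul' := fun r x => by
        refine (secPre_smul M (famMap h hq hp B)
          ((pullback.fst ((Adeq.specOver (𝟙 (Spec R))).obj (op B)).hom q).appTop.hom
            ((Scheme.ΓSpecIso (CommRingCat.of B)).inv.hom r)) x).trans ?_
        refine congrArg (fun s => (ULift.up s : (BigSite.ORing Scheme.fppfPrecoverage T).obj.obj (op (famObj q' p' B))) •
          (show M.val.obj (op (famObj q' p' B)) from (secPre M).map (famMap h hq hp B).op x)) ?_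
        exact congrArg (fun m => (Scheme.Hom.appTop m).hom ((Scheme.ΓSpecIso (CommRingCat.of B)).inv.hom r))
          (famMap_left_fst h hq hp B) })
    (fun {B B'} g x => by
      show (secPre M).map (famMap h hq hp B').op ((secPre M).map
          ((Over.map p).map ((Over.pullback q).map ((Adeq.specOver (𝟙 (Spec R))).map g.op))).op x) =
        (secPre M).map ((Over.map p').map ((Over.pullback q').map ((Adeq.specOver (𝟙 (Spec R))).map g.op))).op
          ((secPre M).map (famMap h hq hp B).op x)
      rw [← ConcreteCategory.comp_apply, ← ConcreteCategory.comp_apply, ← Functor.map_comp, ← Functor.map_comp,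
        ← op_comp, ← op_comp]
      refine congrArg (fun m : famObj q' p' B' ⟶ famObj q p B => ((secPre M).map m.op) x)
        (Over.OverMorphism.ext (pullback.hom_ext ?_ ?_))
      · show ((famMap h hq hp B').left ≫ pullback.lift _ _ _) ≫ pullback.fst _ _ =
          (pullback.lift _ _ _ ≫ (famMap h hq hp B).left) ≫ pullback.fst _ _
        rw [Category.assoc, pullback.lift_fst, reassoc_of% famMap_left_fst, Category.assoc, famMap_left_fst,
          pullback.lift_fst]
      · show ((famMap h hq hp B').left ≫ pullback.lift _ _ _) ≫ pullback.snd _ _ =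
          (pullback.lift _ _ _ ≫ (famMap h hq hp B).left) ≫ pullback.snd _ _
        rw [Category.assoc, pullback.lift_snd, famMap_left_snd, Category.assoc, famMap_left_snd,
          pullback.lift_snd_assoc])
  naturality M N g := hom_ext fun B x => (NatTrans.naturality_apply ((PresheafOfModules.toPresheaf _).map g.val)
    (famMap h hq hp B).op x).symm

theorem famRes_apply (M : BigSite.Mod Scheme.fppfPrecoverage T) (B : Adeq.Alg R) (x : Val ((famFun q p).obj M) B) :
    app ((famRes h hq hp).app M) B x = (secPre M).map (famMap h hq hp B).op x := rfl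

end Groth.Agent.AdeqShLib
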