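import Groth.Agent.AdeqShLib.FamMV
import Groth.Agent.AdeqShLib.Parasitic
import Mathlib.CategoryTheory.Abelian.RightDerived
import Mathlib.Algebra.Homology.HomologySequence

/-!
# Cohomology of families is adequate
-/

set_option autoImplicit false
set_option backward.isDefEq.respectTransparency false
set_option backward.isDefEq.respectTransparency.types false
set_option maxHeartbeats 800000
universe u

namespace Groth.Agent.AdeqShLib

open CategoryTheory Limits AlgebraicGeometry Opposite TensorProduct Groth.Agent.AdeqLib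

theorem adequate_of_isZero {A : Type u} [CommRing A] {F : Adeq.MVF A} (h : IsZero F) : Adeq.adequate A F := by
  let U := (Adeq.underline A).obj (ModuleCat.of A PUnit)
  have h0 : IsZero (kernel (𝟙 U)) := isZero_kernel_of_mono _
  exact adequate_of_iso (h0.iso h) (adequate_kernel (adequate_underline _) (adequate_underline _) _)

section Sheaf

variable {S : Scheme.{u}}

theorem ab_surjective_of_isAffine {C : ShortComplex (BigSite.Ab Scheme.fppfPrecoverage S)} (hC : C.ShortExact)
    (h₁ : CechExact C.X₁) (U : Over S) [IsAffine U.left] (s : C.X₃.obj.obj (op U)) :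
    ∃ t, C.g.hom.app (op U) t = s := by
  let e : (Over.map (U.left.isoSpec.inv ≫ U.hom)).obj (topOb Γ(U.left, ⊤)) ≅ U :=
    Over.isoMk (f := (Over.map (U.left.isoSpec.inv ≫ U.hom)).obj (topOb Γ(U.left, ⊤))) (g := U) U.left.isoSpec.symm
      (Category.id_comp (U.left.isoSpec.inv ≫ U.hom)).symm
  obtain ⟨t, ht⟩ := ab_surjective_top (U.left.isoSpec.inv ≫ U.hom) hC h₁ (C.X₃.obj.map e.hom.op s)
  refine ⟨C.X₂.obj.map e.inv.op t, (NatTrans.naturality_apply C.g.hom e.inv.op t).trans ?_⟩
  refine (congrArg _ ht).trans ?_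
  rw [← ConcreteCategory.comp_apply, ← Functor.map_comp, ← op_comp, e.inv_hom_id, op_id]
  exact ConcreteCategory.congr_hom (C.X₃.obj.map_id _) s

variable {M : BigSite.Mod Scheme.fppfPrecoverage S} (Res : InjectiveResolution M)
  (hM : Adeq.adequateMod Scheme.fppfPrecoverage S M)

/-- The cycles of an injective resolution. -/
noncomputable abbrev resZ (k : ℕ) : BigSite.Mod Scheme.fppfPrecoverage S := kernel (Res.cocomplex.d k (k + 1))

/-- The sequences of cycles. -/
noncomputable abbrev resSeq (k : ℕ) : ShortComplex (BigSite.Mod Scheme.fppfPrecoverage S) :=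
  ShortComplex.mk (kernel.ι (Res.cocomplex.d k (k + 1)))
    (kernel.lift (Res.cocomplex.d (k + 1) (k + 2)) (Res.cocomplex.d k (k + 1)) (Res.cocomplex.d_comp_d _ _ _))
    ((cancel_mono (kernel.ι _)).1 (by rw [Category.assoc, kernel.lift_ι, kernel.condition, zero_comp]))

theorem shortExact_resSeq (k : ℕ) : (resSeq Res k).ShortExact := by
  have h := Res.cocomplex_exactAt_succ k
  rw [HomologicalComplex.exactAt_iff' _ k (k + 1) (k + 2) (by simp) (by simp)] at h
  haveI : Epi (resSeq Res k).g := (ShortComplex.exact_iff_epi_kernel_lift _).1 h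
  refine { exact := ShortComplex.exact_of_f_is_kernel _ (KernelFork.IsLimit.ofι _ _
    (fun {W} g hg => kernel.lift _ g (by
      have h2 := congrArg (fun v => v ≫ kernel.ι (Res.cocomplex.d (k + 1) (k + 2))) hg
      simpa only [Category.assoc, kernel.lift_ι, zero_comp] using h2))
    (fun {W} g hg => kernel.lift_ι _ _ _) (fun {W} g hg b hb => (cancel_mono (kernel.ι _)).1 (hb.trans (kernel.lift_ι _ _ _).symm))) }

include hM in
theorem cechExact_resZ : ∀ k, CechExact ((BigSite.toAbMod Scheme.fppfPrecoverage S).obj (resZ Res k))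
  | 0 => cechExact_of_adequate _ (adequateMod_of_iso
      (IsLimit.conePointUniqueUpToIso Res.exact₀.fIsKernel (limit.isLimit _)) hM)
  | k + 1 => cechExact_quotient (shortExact_toAbMod (shortExact_resSeq Res k)) (cechExact_resZ k)
      (haveI := Res.injective k; cechExact_of_injective_mod (Res.cocomplex.X k))

include hM in
theorem res_sections_exact (U : Over S) [IsAffine U.left] (k : ℕ)
    (x : (secPre (Res.cocomplex.X (k + 1))).obj (op U))
    (hx : (Res.cocomplex.d (k + 1) (k + 2)).val.app (op U) x = 0) :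
    ∃ y : (secPre (Res.cocomplex.X k)).obj (op U), (Res.cocomplex.d k (k + 1)).val.app (op U) y = x := by
  obtain ⟨z, hz⟩ := ((kernel_sections (Res.cocomplex.d (k + 1) (k + 2)) U).2 x).1 hx
  obtain ⟨y, hy⟩ := ab_surjective_of_isAffine (shortExact_toAbMod (shortExact_resSeq Res k)) (cechExact_resZ Res hM k) U z
  refine ⟨y, Eq.trans ?_ hz⟩
  have h1 := congrArg (fun v : Res.cocomplex.X k ⟶ Res.cocomplex.X (k + 1) => v.val.app (op U) y)
    (kernel.lift_ι (Res.cocomplex.d (k + 1) (k + 2)) (Res.cocomplex.d k (k + 1)) (Res.cocomplex.d_comp_d _ _ _))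
  exact h1.symm.trans (congrArg ((kernel.ι (Res.cocomplex.d (k + 1) (k + 2))).val.app (op U)) hy)

end Sheaf

section Family

variable {T : Scheme.{u}} {R : CommRingCat.{u}} {X : Scheme.{u}} (q : X ⟶ Spec R) (p : X ⟶ T)
  {M : BigSite.Mod Scheme.fppfPrecoverage T} (Res : InjectiveResolution M)
  (hM : Adeq.adequateMod Scheme.fppfPrecoverage T M)

/-- The complex of sections over base changes of an open. -/
noncomputable abbrev oCx (V : X.Opens) : CochainComplex (Adeq.MVF R) ℕ :=
  ((oFun q p V).mapHomologicalComplex (ComplexShape.up ℕ)).obj Res.cocomplex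

/-- Restriction of complexes. -/
noncomputable abbrev oCxRes {W V : X.Opens} (h : W ≤ V) : oCx q p Res V ⟶ oCx q p Res W :=
  (NatTrans.mapHomologicalComplex (oRes q p h) (ComplexShape.up ℕ)).app Res.cocomplex

/-- All cohomology functors of an open are adequate. -/
def AdeqCoh (V : X.Opens) : Prop := ∀ i, Adeq.adequate R ((oCx q p Res V).homology i)

include hM in
theorem exactAt_oCx_of_isAffineOpen {V : X.Opens} (hV : IsAffineOpen V) (k : ℕ) : (oCx q p Res V).ExactAt (k + 1) := by
  rw [HomologicalComplex.exactAt_iff' _ k (k + 1) (k + 2) (by simp) (by simp), ShortComplex.exact_iff_epi_kernel_lift,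
    epi_iff]
  intro B y
  haveI : IsAffine V := hV
  haveI : IsAffine (oObj q p V B).left :=
    inferInstanceAs (IsAffine (pullback (Spec.map (CommRingCat.ofHom (algebraMap R B)) ≫ 𝟙 (Spec R)) (V.ι ≫ q)))
  obtain ⟨x, hx⟩ := res_sections_exact Res hM (oObj q p V B) k _
    ((kernel_ι_mem ((oFun q p V).map (Res.cocomplex.d (k + 1) (k + 2))) B _).2 ⟨y, rfl⟩)
  refine ⟨x, kernel_ι_injective ((oFun q p V).map (Res.cocomplex.d (k + 1) (k + 2))) B ?_⟩
  let c := (oFun q p V).map (Res.cocomplex.d k (k + 1))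
  let d' := (oFun q p V).map (Res.cocomplex.d (k + 1) (k + 2))
  have w : c ≫ d' = 0 := by simp only [c, d', ← Functor.map_comp, Res.cocomplex.d_comp_d, Functor.map_zero]
  let x' : Val ((oFun q p V).obj (Res.cocomplex.X k)) B := x
  have e : app (kernel.ι d') B (app (kernel.lift d' c w) B x') = app c B x' := by rw [← app_comp, kernel.lift_ι]
  exact e.trans hx

include hM in
theorem adequate_homology_zero {V : X.Opens} (hV : IsAffineOpen V) : Adeq.adequate R ((oCx q p Res V).homology 0) := by
  haveI : IsAffine V := hV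
  let F := oFun q p V
  let j : M ⟶ Res.cocomplex.X 0 := Res.ι.f 0
  let d := Res.cocomplex.d 0 1
  have w : j ≫ d = 0 := Res.ι_f_zero_comp_complex_d
  have hw : F.map j ≫ F.map d = 0 := by rw [← F.map_comp, w, F.map_zero]
  let φ := kernel.lift (F.map d) (F.map j) hw
  have hE : ∀ B, Function.Injective (app (F.map j) B) ∧ Function.Exact (app (F.map j) B) (app (F.map d) B) := fun B => by
    let E := SheafOfModules.evaluation.{u + 1} (BigSite.ORing Scheme.fppfPrecoverage T) (op (oObj q p V B))
    haveI : E.PreservesZeroMorphisms := ⟨fun _ _ => rfl⟩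
    haveI : Mono j := inferInstanceAs (Mono (Res.ι.f 0))
    refine ⟨(ModuleCat.mono_iff_injective (E.map j)).1 inferInstance, ?_⟩
    exact (ShortComplex.ShortExact.moduleCat_exact_iff_function_exact _).1
      (Res.exact₀.map_of_mono_of_preservesKernel E inferInstance inferInstance)
  haveI : IsIso φ := isIso_of_bijective fun B => by
    refine ⟨fun y y' h => (hE B).1 ?_, fun y => ?_⟩
    · have h2 := congrArg (app (kernel.ι (F.map d)) B) h
      rwa [← app_comp, ← app_comp, kernel.lift_ι] at h2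
    · obtain ⟨x, hx⟩ := ((hE B).2 _).1 ((kernel_ι_mem (F.map d) B _).2 ⟨y, rfl⟩)
      exact ⟨x, kernel_ι_injective _ B (by rw [← app_comp, kernel.lift_ι]; exact hx)⟩
  haveI : QuasiSeparated (V.ι ≫ q) := inferInstance
  refine adequate_of_iso ?_ (adequate_famFun (V.ι ≫ q) (V.ι ≫ p) M hM)
  exact asIso φ ≪≫ (IsLimit.conePointUniqueUpToIso ((oCx q p Res V).cyclesIsKernel 0 1 (by simp))
    (kernelIsKernel ((oCx q p Res V).d 0 1))).symm ≪≫ CochainComplex.isoHomologyπ₀ (oCx q p Res V)

include hM in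
theorem adeqCoh_of_isAffineOpen {V : X.Opens} (hV : IsAffineOpen V) : AdeqCoh q p Res V
  | 0 => adequate_homology_zero q p Res hM hV
  | k + 1 => adequate_of_isZero
      ((HomologicalComplex.exactAt_iff_isZero_homology _ _).1 (exactAt_oCx_of_isAffineOpen q p Res hM hV k))

theorem adeq_homology_of_shortExact {S : ShortComplex (CochainComplex (Adeq.MVF R) ℕ)} (hS : S.ShortExact)
    (h₂ : ∀ i, Adeq.adequate R (S.X₂.homology i)) (h₃ : ∀ i, Adeq.adequate R (S.X₃.homology i)) :
    ∀ i, Adeq.adequate R (S.X₁.homology i) := by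
  rintro (_ | i)
  · haveI := hS.mono_f
    haveI : Mono (HomologicalComplex.homologyMap S.f 0) :=
      HomologicalComplex.mono_homologyMap_of_mono_of_not_rel _ _ (fun j h => Nat.succ_ne_zero j h)
    have hz : IsZero (kernel (𝟙 (S.X₂.homology 0))) := isZero_kernel_of_mono _
    refine adequate_middle (𝟙 (kernel (𝟙 (S.X₂.homology 0)))) (0 : kernel (𝟙 (S.X₂.homology 0)) ⟶ S.X₁.homology 0)
      (HomologicalComplex.homologyMap S.f 0) (HomologicalComplex.homologyMap S.g 0)
      (adequate_of_isZero hz) (adequate_of_isZero hz) (h₂ 0) (h₃ 0) (fun B x => ?_) (fun B x => ?_)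
      (fun B => exact_apply (hS.homology_exact₂ 0) B)
    · simp only [app_zero, app_id, true_iff]
      exact ⟨x, rfl⟩
    · refine ⟨fun hx => ⟨0, ?_⟩, ?_⟩
      · rw [app_zero]
        exact ((injective_iff_map_eq_zero _).1 (mono_iff.1 inferInstance B) x hx).symm
      · rintro ⟨y, rfl⟩
        rw [app_zero, map_zero]
  · exact adequate_middle (HomologicalComplex.homologyMap S.g i) (hS.δ i (i + 1) (by simp))
      (HomologicalComplex.homologyMap S.f (i + 1)) (HomologicalComplex.homologyMap S.g (i + 1))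
      (h₂ i) (h₃ i) (h₂ (i + 1)) (h₃ (i + 1))
      (fun B => exact_apply (hS.homology_exact₃ i (i + 1) (by simp)) B)
      (fun B => exact_apply (hS.homology_exact₁ i (i + 1) (by simp)) B)
      (fun B => exact_apply (hS.homology_exact₂ (i + 1)) B)

theorem adeq_homology_middle_of_shortExact {S : ShortComplex (CochainComplex (Adeq.MVF R) ℕ)} (hS : S.ShortExact)
    (h₁ : ∀ i, Adeq.adequate R (S.X₁.homology i)) (h₃ : ∀ i, Adeq.adequate R (S.X₃.homology i)) :
    ∀ i, Adeq.adequate R (S.X₂.homology i) := by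
  rintro (_ | i)
  · haveI := hS.mono_f
    haveI : Mono (HomologicalComplex.homologyMap S.f 0) :=
      HomologicalComplex.mono_homologyMap_of_mono_of_not_rel _ _ (fun j h => Nat.succ_ne_zero j h)
    have hz : IsZero (kernel (𝟙 (S.X₂.homology 0))) := isZero_kernel_of_mono _
    refine adequate_middle (0 : kernel (𝟙 (S.X₂.homology 0)) ⟶ S.X₁.homology 0)
      (HomologicalComplex.homologyMap S.f 0) (HomologicalComplex.homologyMap S.g 0)
      (hS.δ 0 1 (by simp)) (adequate_of_isZero hz) (h₁ 0) (h₃ 0) (h₁ 1) (fun B x => ?_)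
      (fun B => exact_apply (hS.homology_exact₂ 0) B)
      (fun B => exact_apply (hS.homology_exact₃ 0 1 (by simp)) B)
    refine ⟨fun hx => ⟨0, ?_⟩, ?_⟩
    · rw [app_zero]
      exact ((injective_iff_map_eq_zero _).1 (mono_iff.1 inferInstance B) x hx).symm
    · rintro ⟨y, rfl⟩
      rw [app_zero, map_zero]
  · exact adequate_middle (hS.δ i (i + 1) (by simp)) (HomologicalComplex.homologyMap S.f (i + 1))
      (HomologicalComplex.homologyMap S.g (i + 1)) (hS.δ (i + 1) (i + 2) (by simp))
      (h₃ i) (h₁ (i + 1)) (h₃ (i + 1)) (h₁ (i + 2))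
      (fun B => exact_apply (hS.homology_exact₁ i (i + 1) (by simp)) B)
      (fun B => exact_apply (hS.homology_exact₂ (i + 1)) B)
      (fun B => exact_apply (hS.homology_exact₃ (i + 1) (i + 2) (by simp)) B)

/-- The sequence of a restriction. -/
noncomputable abbrev resKerSeq {W V : X.Opens} (h : W ≤ V) : ShortComplex (CochainComplex (Adeq.MVF R) ℕ) :=
  ShortComplex.mk (kernel.ι (oCxRes q p Res h)) (oCxRes q p Res h) (kernel.condition _)

theorem shortExact_resKerSeq {W V : X.Opens} (h : W ≤ V) : (resKerSeq q p Res h).ShortExact := by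
  haveI : ∀ n, Epi ((oCxRes q p Res h).f n) := fun n => epi_iff.2 fun B =>
    haveI := Res.injective n
    res_surjective_of_injective q p (Res.cocomplex.X n) h B
  haveI : Epi (resKerSeq q p Res h).g := HomologicalComplex.epi_of_epi_f _ inferInstance
  exact { exact := ShortComplex.exact_of_f_is_kernel _ (kernelIsKernel _) }

theorem excision_w (V W : X.Opens) :
    oCxRes q p Res (le_sup_left (b := W) : V ≤ V ⊔ W) ≫ oCxRes q p Res (inf_le_left : V ⊓ W ≤ V) =
      oCxRes q p Res (le_sup_right (a := V) : W ≤ V ⊔ W) ≫ oCxRes q p Res (inf_le_right : V ⊓ W ≤ W) := by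
  refine HomologicalComplex.hom_ext _ _ fun n => hom_ext fun B x => ?_
  rw [HomologicalComplex.comp_f, HomologicalComplex.comp_f, app_comp, app_comp]
  show (secPre _).map (oMap q p _ B).op ((secPre _).map (oMap q p _ B).op x) =
    (secPre _).map (oMap q p _ B).op ((secPre _).map (oMap q p _ B).op x)
  rw [← ConcreteCategory.comp_apply, ← ConcreteCategory.comp_apply, ← Functor.map_comp, ← Functor.map_comp,
    ← op_comp, ← op_comp, oMap_comp, oMap_comp]

/-- The excision map. -/
noncomputable def excision (V W : X.Opens) :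
    kernel (oCxRes q p Res (le_sup_left (b := W) : V ≤ V ⊔ W)) ⟶ kernel (oCxRes q p Res (inf_le_right : V ⊓ W ≤ W)) :=
  kernel.map _ _ (oCxRes q p Res (le_sup_right (a := V) : W ≤ V ⊔ W)) (oCxRes q p Res (inf_le_left : V ⊓ W ≤ V))
    (excision_w q p Res V W)

theorem isIso_excision (V W : X.Opens) : IsIso (excision q p Res V W) := by
  haveI : ∀ n, IsIso ((excision q p Res V W).f n) := fun n => isIso_of_bijective fun B => by
    have hS := shortExact_resKerSeq q p Res (le_sup_left (b := W) : V ≤ V ⊔ W)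
    have hS' := shortExact_resKerSeq q p Res (inf_le_right : V ⊓ W ≤ W)
    have e := shortExact_apply ((hS.map_of_exact (HomologicalComplex.eval (Adeq.MVF R) (ComplexShape.up ℕ) n))) B
    have e' := shortExact_apply ((hS'.map_of_exact (HomologicalComplex.eval (Adeq.MVF R) (ComplexShape.up ℕ) n))) B
    have hι : ∀ x, app ((kernel.ι (oCxRes q p Res (inf_le_right : V ⊓ W ≤ W))).f n) B
        (app ((excision q p Res V W).f n) B x) =
        app ((oCxRes q p Res (le_sup_right (a := V) : W ≤ V ⊔ W)).f n) B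
          (app ((kernel.ι (oCxRes q p Res (le_sup_left (b := W) : V ≤ V ⊔ W))).f n) B x) := fun x => by
      rw [← app_comp, ← app_comp, ← HomologicalComplex.comp_f, ← HomologicalComplex.comp_f, excision, kernel.map,
        kernel.lift_ι]
    refine ⟨(injective_iff_map_eq_zero _).2 fun x hx => ?_, fun z => ?_⟩
    · refine e.1 ?_
      refine (sup_eq_zero q p V W B (Res.cocomplex.X n) (e.2.2.apply_apply_eq_zero x) ?_).trans
        (map_zero (app ((kernel.ι (oCxRes q p Res (le_sup_left (b := W) : V ≤ V ⊔ W))).f n) B)).symm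
      exact (hι x).symm.trans ((congrArg _ hx).trans (map_zero _))
    · obtain ⟨x, hxV, hxW⟩ := sup_glue q p V W B (Res.cocomplex.X n) 0
        (app ((kernel.ι (oCxRes q p Res (inf_le_right : V ⊓ W ≤ W))).f n) B z)
        ((map_zero _).trans (e'.2.2.apply_apply_eq_zero z).symm)
      obtain ⟨y, hy⟩ := (e.2.2 x).1 hxV
      refine ⟨y, e'.1 ?_⟩
      exact (hι y).trans ((congrArg _ hy).trans hxW)
  exact HomologicalComplex.Hom.isIso_of_components _

theorem adeqCoh_sup {V W : X.Opens} (hV : AdeqCoh q p Res V) (hW : AdeqCoh q p Res W) (hVW : AdeqCoh q p Res (V ⊓ W)) :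
    AdeqCoh q p Res (V ⊔ W) := by
  haveI := isIso_excision q p Res V W
  refine adeq_homology_middle_of_shortExact (shortExact_resKerSeq q p Res (le_sup_left (b := W) : V ≤ V ⊔ W)) (fun i => ?_) hV
  exact adequate_of_iso ((HomologicalComplex.homologyFunctor (Adeq.MVF R) (ComplexShape.up ℕ) i).mapIso
      (asIso (excision q p Res V W))).symm
    (adeq_homology_of_shortExact (shortExact_resKerSeq q p Res (inf_le_right : V ⊓ W ≤ W)) hW hVW i)

/-- Induction on finite unions from a family closed under intersection. -/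
theorem sup_induction {P : X.Opens → Prop} {s : Set X.Opens} (hinf : ∀ a ∈ s, ∀ b ∈ s, a ⊓ b ∈ s)
    (hs : ∀ a ∈ s, P a) (h0 : P ⊥) (hsup : ∀ a b, P a → P b → P (a ⊓ b) → P (a ⊔ b)) :
    ∀ t : Finset X.Opens, (t : Set X.Opens) ⊆ s → P (t.sup id) := by
  classical
  suffices ∀ n, ∀ t : Finset X.Opens, t.card ≤ n → (t : Set X.Opens) ⊆ s → P (t.sup id) from
    fun t => this _ t le_rfl
  intro n
  induction n with
  | zero =>
    intro t ht _
    rw [Finset.card_eq_zero.1 (Nat.le_zero.1 ht), Finset.sup_empty]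
    exact h0
  | succ n ih =>
    intro t ht hts
    rcases t.eq_empty_or_nonempty with rfl | ⟨a, ha⟩
    · rw [Finset.sup_empty]; exact h0
    have hcard : (t.erase a).card ≤ n := by rw [Finset.card_erase_of_mem ha]; omega
    have hsub : ((t.erase a : Finset X.Opens) : Set X.Opens) ⊆ s := fun x hx => hts (Finset.erase_subset _ _ hx)
    rw [← Finset.insert_erase ha, Finset.sup_insert, id]
    refine hsup _ _ (hs a (hts ha)) (ih _ hcard hsub) ?_
    have he : a ⊓ (t.erase a).sup id = ((t.erase a).image (a ⊓ ·)).sup id := by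
      rw [Finset.sup_image, Finset.sup_inf_distrib_left]
      rfl
    rw [he]
    refine ih _ (Finset.card_image_le.trans hcard) fun x hx => ?_
    obtain ⟨y, hy, rfl⟩ := Finset.mem_image.1 hx
    exact hinf a (hts ha) y (hsub hy)

theorem exists_finset_sup_eq {V : X.Opens} (hV : IsCompact (V : Set X)) {s : Set X.Opens}
    (h : ∀ x ∈ V, ∃ a ∈ s, x ∈ a ∧ a ≤ V) : ∃ t : Finset X.Opens, (t : Set X.Opens) ⊆ s ∧ t.sup id = V := by
  classical
  choose a ha hxa haV using h
  obtain ⟨t, ht⟩ := hV.elim_finite_subcover (fun x : V => ((a x.1 x.2 : X.Opens) : Set X)) (fun x => (a x.1 x.2).2)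
    fun x hx => Set.mem_iUnion.2 ⟨⟨x, hx⟩, hxa x hx⟩
  refine ⟨t.image fun x => a x.1 x.2, fun x hx => ?_, le_antisymm (Finset.sup_le fun x hx => ?_) fun x hx => ?_⟩
  · obtain ⟨y, -, rfl⟩ := Finset.mem_image.1 hx
    exact ha _ _
  · obtain ⟨y, -, rfl⟩ := Finset.mem_image.1 hx
    exact haV _ _
  · obtain ⟨y, hy, hxy⟩ := Set.mem_iUnion₂.1 (ht hx)
    exact SetLike.le_def.1 (Finset.le_sup (f := id) (Finset.mem_image_of_mem (fun x : V => a x.1 x.2) hy)) hxy

/-- Induction over compact opens of a quasi-compact quasi-separated scheme. -/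
theorem qcqs_induction [CompactSpace X] [QuasiSeparatedSpace X] {P : X.Opens → Prop}
    (hP : ∀ V, IsAffineOpen V → P V) (hsup : ∀ a b, P a → P b → P (a ⊓ b) → P (a ⊔ b)) : P ⊤ := by
  have h0 : P ⊥ := hP _ (isAffineOpen_bot X)
  let s : Set X.Opens := {V | IsCompact (V : Set X) ∧ ∃ U : X.Opens, IsAffineOpen U ∧ V ≤ U}
  have hA : ∀ V ∈ s, P V := by
    rintro V ⟨hV, U, hU, hVU⟩
    obtain ⟨t, ht, rfl⟩ := exists_finset_sup_eq hV (s := Set.range (fun f : Γ(X, U) => X.basicOpen f)) fun x hx => by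
      obtain ⟨f, hf, hxf⟩ := hU.exists_basicOpen_le (V := V) ⟨x, hx⟩ (hVU hx)
      exact ⟨_, ⟨f, rfl⟩, hxf, hf⟩
    refine sup_induction ?_ ?_ h0 hsup t ht
    · rintro _ ⟨f, rfl⟩ _ ⟨g, rfl⟩
      exact ⟨f * g, X.basicOpen_mul f g⟩
    · rintro _ ⟨f, rfl⟩
      exact hP _ (hU.basicOpen f)
  obtain ⟨t, ht, he⟩ := exists_finset_sup_eq (V := (⊤ : X.Opens)) isCompact_univ (s := s) fun x _ => by
    obtain ⟨U, hU, hxU, -⟩ := exists_isAffineOpen_mem_and_subset (x := x) (U := (⊤ : X.Opens)) trivial
    exact ⟨U, ⟨hU.isCompact, U, hU, le_rfl⟩, hxU, le_top⟩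
  rw [← he]
  refine sup_induction ?_ hA h0 hsup t ht
  rintro a ⟨hac, U, hU, haU⟩ b ⟨hbc, -⟩
  exact ⟨QuasiSeparatedSpace.inter_isCompact _ _ a.2 hac b.2 hbc, U, hU, inf_le_left.trans haU⟩

include hM in
theorem adeqCoh_top [CompactSpace X] [QuasiSeparatedSpace X] : AdeqCoh q p Res ⊤ :=
  qcqs_induction (fun _ hV => adeqCoh_of_isAffineOpen q p Res hM hV) fun _ _ => adeqCoh_sup q p Res

end Family

end Groth.Agent.AdeqShLib
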