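import Groth.Agent.AdeqShLib.AbSurj
import Mathlib.Algebra.Category.ModuleCat.Presheaf.Free

/-!
# Injective modules on the big fppf site
-/

set_option autoImplicit false
set_option backward.isDefEq.respectTransparency false
set_option backward.isDefEq.respectTransparency.types false
set_option maxHeartbeats 800000
universe u w

namespace Groth.Agent.AdeqShLib

open CategoryTheory Limits AlgebraicGeometry Opposite TensorProduct Groth.Agent.AdeqLib

variable {S : Scheme.{u}}

/-- The presheaf of rings of the big site. -/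
noncomputable abbrev OS (S : Scheme.{u}) : (Over S)ᵒᵖ ⥤ RingCat.{u + 1} := (BigSite.ORing Scheme.fppfPrecoverage S).obj

/-- A representable presheaf of sets, one universe up. -/
def repT (X : Over S) : (Over S)ᵒᵖ ⥤ Type (u + 1) where
  obj Z := ULift.{u + 1} (Z.unop ⟶ X)
  map f := TypeCat.ofHom fun h => ⟨f.unop ≫ h.down⟩
  map_id Z := by refine ConcreteCategory.hom_ext _ _ fun h => ?_; exact congrArg ULift.up (Category.id_comp h.down)
  map_comp f g := by refine ConcreteCategory.hom_ext _ _ fun h => ?_; exact congrArg ULift.up (Category.assoc g.unop f.unop h.down)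

/-- Maps of representable presheaves. -/
def repTMap {X Y : Over S} (m : X ⟶ Y) : repT X ⟶ repT Y where
  app Z := TypeCat.ofHom fun h => ⟨h.down ≫ m⟩
  naturality Z Z' f := by refine ConcreteCategory.hom_ext _ _ fun h => ?_; exact congrArg ULift.up (Category.assoc f.unop h.down m)

/-- The free module on a representable. -/
noncomputable abbrev mFree (X : Over S) : PresheafOfModules.{u + 1} (OS S) :=
  (PresheafOfModules.free (OS S)).obj (repT X)

/-- Maps of free modules. -/
noncomputable abbrev mFreeMap {X Y : Over S} (m : X ⟶ Y) : mFree X ⟶ mFree Y :=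
  (PresheafOfModules.free (OS S)).map (repTMap m)

/-- A section as a map out of a free module. -/
noncomputable def mFreeHom {X : Over S} (P : PresheafOfModules.{u + 1} (OS S)) (c : P.presheaf.obj (op X)) : mFree X ⟶ P :=
  PresheafOfModules.freeObjDesc
    { app := fun Z => TypeCat.ofHom fun (h : ULift.{u + 1} (Z.unop ⟶ X)) => P.presheaf.map h.down.op c
      naturality := fun Z Z' f => by
        ext h
        show P.presheaf.map (f.unop ≫ h.down).op c = P.presheaf.map f (P.presheaf.map h.down.op c)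
        rw [op_comp, Functor.map_comp]
        rfl }

/-- A generator. -/
noncomputable def mOf {X : Over S} (Z : (Over S)ᵒᵖ) (h : Z.unop ⟶ X) : (mFree X).obj Z :=
  Finsupp.single (⟨h⟩ : ULift.{u + 1} (Z.unop ⟶ X)) 1

theorem mFreeMap_of {X Y : Over S} (m : X ⟶ Y) (Z : (Over S)ᵒᵖ) (h : Z.unop ⟶ X) :
    (mFreeMap m).app Z (mOf Z h) = mOf Z (h ≫ m) := Finsupp.mapDomain_single

theorem mFreeHom_of {X : Over S} (P : PresheafOfModules.{u + 1} (OS S)) (c : P.presheaf.obj (op X)) (Z : (Over S)ᵒᵖ)
    (h : Z.unop ⟶ X) : (mFreeHom P c).app Z (mOf Z h) = P.presheaf.map h.op c :=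
  ModuleCat.freeDesc_apply _ _

theorem mFree_hom_ext_apply {X : Over S} (Z : (Over S)ᵒᵖ) {M : Type (u + 1)} [AddCommGroup M]
    [Module ((OS S).obj Z) M] (f g : (mFree X).obj Z →ₗ[(OS S).obj Z] M) (h : ∀ t, f (mOf Z t) = g (mOf Z t)) : f = g :=
  Finsupp.lhom_ext' fun t => LinearMap.ext_ring (h t.down)

theorem mFree_hom_ext {X : Over S} {P : PresheafOfModules.{u + 1} (OS S)} {f g : mFree X ⟶ P}
    (h : ∀ Z t, f.app Z (mOf Z t) = g.app Z (mOf Z t)) : f = g :=
  PresheafOfModules.hom_ext fun Z => ModuleCat.hom_ext (mFree_hom_ext_apply Z _ _ (h Z))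

/-- Free groups inside free modules. -/
noncomputable def toMFree (X : Over S) (Z : (Over S)ᵒᵖ) : (freeRep X).obj Z →+ (mFree X).obj Z :=
  FreeAbelianGroup.lift fun h => mOf Z h.down

theorem toMFree_of (X : Over S) (Z : (Over S)ᵒᵖ) (h : Z.unop ⟶ X) :
    toMFree X Z (FreeAbelianGroup.of ⟨h⟩) = mOf Z h := FreeAbelianGroup.lift_apply_of _ _

theorem mFreeMap_mono {X Y : Over S} (m : X ⟶ Y) [Mono m] : Mono (mFreeMap m) := by
  refine ⟨fun {W} f g h => PresheafOfModules.hom_ext fun Z => ModuleCat.hom_ext (LinearMap.ext fun x => ?_)⟩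
  have h1 := congrArg (fun v => v.app Z x) h
  refine Finsupp.mapDomain_injective (f := fun t : ULift.{u + 1} (Z.unop ⟶ X) => (⟨t.down ≫ m⟩ : ULift.{u + 1} (Z.unop ⟶ Y)))
    (fun t t' htt => ULift.ext _ _ ((cancel_mono m).1 (congrArg ULift.down htt))) h1

theorem injective_val (I : BigSite.Mod Scheme.fppfPrecoverage S) [Injective I] : Injective ((toPre S).obj I) :=
  Injective.injective_of_adjoint
    (PresheafOfModules.sheafificationAdjunction (𝟙 (BigSite.ORing Scheme.fppfPrecoverage S).obj)) I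

/-- Sections of injective modules extend along monomorphisms. -/
theorem injective_restrict_surjective (I : BigSite.Mod Scheme.fppfPrecoverage S) [Injective I] {X Y : Over S}
    (m : X ⟶ Y) [Mono m] (c : (secPre I).obj (op X)) : ∃ d, (secPre I).map m.op d = c := by
  haveI := injective_val I
  haveI := mFreeMap_mono m
  let φ := Injective.factorThru (mFreeHom ((toPre S).obj I) c) (mFreeMap m)
  refine ⟨φ.app (op Y) (mOf (op Y) (𝟙 Y)), ?_⟩
  have h1 := congrArg (fun v => v.app (op X) (mOf (op X) (𝟙 X))) (Injective.comp_factorThru (mFreeHom ((toPre S).obj I) c) (mFreeMap m))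
  refine Eq.trans ?_ (h1.trans ((mFreeHom_of _ c _ (𝟙 X)).trans (ConcreteCategory.congr_hom (((toPre S).obj I).presheaf.map_id _) c)))
  show _ = φ.app (op X) ((mFreeMap m).app (op X) (mOf (op X) (𝟙 X)))
  rw [mFreeMap_of, Category.id_comp]
  refine (PresheafOfModules.naturality_apply φ m.op _).symm.trans (congrArg _ ?_)
  refine (ModuleCat.freeDesc_apply _ _).trans ?_
  show mOf (op X) (m ≫ 𝟙 Y) = mOf (op X) m
  rw [Category.comp_id]

section Cech

variable (R : CommRingCat.{u}) (a : Spec R ⟶ S) (B : Type u) [CommRing B] [Algebra R B]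

/-- The differential of the free module complex. -/
noncomputable def mFreeD (k : ℕ) : mFree (qS' R a B (k + 1)) ⟶ mFree (qS' R a B k) :=
  ∑ i : Fin (k + 1), (-1 : ℤ) ^ (i : ℕ) • mFreeMap (qF' R a B k i)

theorem pMod_sum_apply {P Q : PresheafOfModules.{u + 1} (OS S)} {ι : Type} (s : Finset ι) (f : ι → (P ⟶ Q))
    (c : ι → ℤ) (Z : (Over S)ᵒᵖ) (x : P.obj Z) :
    (∑ i ∈ s, c i • f i).app Z x = ∑ i ∈ s, c i • (f i).app Z x := by
  let ev : (P ⟶ Q) →+ Q.obj Z := AddMonoidHom.mk' (fun g => g.app Z x) fun _ _ => rfl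
  show ev (∑ i ∈ s, c i • f i) = ∑ i ∈ s, c i • ev (f i)
  simp only [map_sum, map_zsmul]

theorem mFreeD_toMFree (k : ℕ) (Z : (Over S)ᵒᵖ) (z : (freeRep (qS' R a B (k + 1))).obj Z) :
    (mFreeD R a B k).app Z (toMFree _ Z z) = toMFree _ Z ((freeD R a B k).app Z z) := by
  refine DFunLike.congr_fun (FreeAbelianGroup.lift_ext ((((mFreeD R a B k).app Z).hom.toAddMonoidHom).comp (toMFree _ Z))
    ((toMFree _ Z).comp ((freeD R a B k).app Z).hom) fun h => ?_) z
  obtain ⟨h⟩ := h
  show (mFreeD R a B k).app Z (toMFree _ Z (FreeAbelianGroup.of ⟨h⟩)) = toMFree _ Z ((freeD R a B k).app Z (FreeAbelianGroup.of ⟨h⟩))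
  rw [toMFree_of, freeD_of, map_sum, mFreeD, pMod_sum_apply]
  refine Finset.sum_congr rfl fun i _ => ?_
  rw [map_zsmul, toMFree_of, mFreeMap_of]

theorem mFreeD_exact (k : ℕ) (Z : (Over S)ᵒᵖ) (x : (mFree (qS' R a B (k + 1))).obj Z)
    (hx : (mFreeD R a B k).app Z x = 0) : ∃ w, (mFreeD R a B (k + 1)).app Z w = x := by
  obtain ⟨E₁, E₀, key⟩ := exists_homotopy R a B k Z
  let F₁ : (mFree (qS' R a B (k + 1))).obj Z →ₗ[(OS S).obj Z] (mFree (qS' R a B (k + 2))).obj Z :=
    Finsupp.linearCombination _ fun t : ULift.{u + 1} (Z.unop ⟶ qS' R a B (k + 1)) => toMFree _ Z (E₁ (FreeAbelianGroup.of t))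
  let F₀ : (mFree (qS' R a B k)).obj Z →ₗ[(OS S).obj Z] (mFree (qS' R a B (k + 1))).obj Z :=
    Finsupp.linearCombination _ fun t : ULift.{u + 1} (Z.unop ⟶ qS' R a B k) => toMFree _ Z (E₀ (FreeAbelianGroup.of t))
  have hF₀ : ∀ z, F₀ (toMFree _ Z z) = toMFree _ Z (E₀ z) := fun z =>
    DFunLike.congr_fun (FreeAbelianGroup.lift_ext (F₀.toAddMonoidHom.comp (toMFree _ Z)) ((toMFree _ Z).comp E₀) fun t => by
      obtain ⟨t⟩ := t
      show F₀ (toMFree _ Z (FreeAbelianGroup.of ⟨t⟩)) = _
      rw [toMFree_of]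
      exact (Finsupp.linearCombination_single _ _ _).trans (one_smul _ _)) z
  have hid : ((mFreeD R a B (k + 1)).app Z).hom ∘ₗ F₁ = LinearMap.id - F₀ ∘ₗ ((mFreeD R a B k).app Z).hom := by
    refine mFree_hom_ext_apply Z _ _ fun t => ?_
    show (mFreeD R a B (k + 1)).app Z (F₁ (mOf Z t)) = mOf Z t - F₀ ((mFreeD R a B k).app Z (mOf Z t))
    have h1 : F₁ (mOf Z t) = toMFree _ Z (E₁ (FreeAbelianGroup.of ⟨t⟩)) :=
      (Finsupp.linearCombination_single _ _ _).trans (one_smul _ _)
    rw [h1, ← toMFree_of, mFreeD_toMFree, key, map_sub, mFreeD_toMFree, hF₀]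
  refine ⟨F₁ x, (DFunLike.congr_fun hid x).trans ?_⟩
  show x - F₀ ((mFreeD R a B k).app Z x) = x
  rw [hx, map_zero, sub_zero]

theorem mFreeD_comp (k : ℕ) : mFreeD R a B (k + 2) ≫ mFreeD R a B (k + 1) = 0 := by
  refine mFree_hom_ext fun Z t => ?_
  show (mFreeD R a B (k + 1)).app Z ((mFreeD R a B (k + 2)).app Z (mOf Z t)) = 0
  rw [← toMFree_of, mFreeD_toMFree, mFreeD_toMFree]
  exact (congrArg (toMFree _ Z) (ConcreteCategory.congr_hom (NatTrans.congr_app (freeD_comp R a B k) Z)
    (FreeAbelianGroup.of ⟨t⟩))).trans (map_zero _)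

theorem cechExact_of_injective_mod (I : BigSite.Mod Scheme.fppfPrecoverage S) [Injective I] :
    CechExact ((BigSite.toAbMod Scheme.fppfPrecoverage S).obj I) := by
  intro R a B _ _ _ k x hx
  haveI := injective_val I
  let P := (toPre S).obj I
  let C : ShortComplex (PresheafOfModules.{u + 1} (OS S)) :=
    ShortComplex.mk (mFreeD R a B (k + 2)) (mFreeD R a B (k + 1)) (mFreeD_comp R a B k)
  have hC : C.Exact := by
    refine (ShortComplex.exact_map_iff_of_faithful C (PresheafOfModules.toPresheaf (OS S))).1 ?_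
    rw [ShortComplex.exact_iff_isZero_homology, Functor.isZero_iff]
    intro Z
    have hZ : ((C.map (PresheafOfModules.toPresheaf (OS S))).map ((evaluation _ _).obj Z)).Exact := by
      rw [ShortComplex.ab_exact_iff]
      exact fun y hy => mFreeD_exact R a B (k + 1) Z y hy
    exact ((ShortComplex.exact_iff_isZero_homology _).1 hZ).of_iso
      ((C.map (PresheafOfModules.toPresheaf (OS S))).mapHomologyIso ((evaluation _ _).obj Z)).symm
  have hf : C.f ≫ mFreeHom P x = 0 := by
    refine mFree_hom_ext fun Z h => ?_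
    show (mFreeHom P x).app Z ((mFreeD R a B (k + 2)).app Z (mOf Z h)) = 0
    rw [mFreeD, pMod_sum_apply, map_sum]
    refine Eq.trans ?_ ((congrArg (P.presheaf.map h.op) hx).trans (map_zero (P.presheaf.map h.op).hom))
    rw [map_sum]
    refine Finset.sum_congr rfl fun i _ => ?_
    rw [map_zsmul, map_zsmul, mFreeMap_of, mFreeHom_of, op_comp, Functor.map_comp]
    rfl
  let φ := hC.descToInjective (mFreeHom P x) hf
  refine ⟨φ.app (op (qS' R a B (k + 1))) (mOf _ (𝟙 _)), ?_⟩
  have h1 := congrArg (fun v => v.app (op (qS' R a B (k + 2))) (mOf _ (𝟙 (qS' R a B (k + 2)))))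
    (hC.comp_descToInjective (mFreeHom P x) hf)
  refine Eq.trans ?_ (h1.trans ((mFreeHom_of P x _ (𝟙 _)).trans (ConcreteCategory.congr_hom (P.presheaf.map_id _) x)))
  show _ = φ.app _ ((mFreeD R a B (k + 1)).app _ _)
  rw [mFreeD, pMod_sum_apply, map_sum]
  refine Finset.sum_congr rfl fun i _ => ?_
  rw [map_zsmul]
  refine congrArg _ ?_
  refine (PresheafOfModules.naturality_apply φ (qF' R a B (k + 1) i).op _).symm.trans (congrArg _ ?_)
  refine Eq.trans ?_ (mFreeMap_of _ _ _).symm
  refine (ModuleCat.freeDesc_apply _ _).trans ?_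
  show mOf _ (qF' R a B (k + 1) i ≫ 𝟙 _) = mOf _ (𝟙 _ ≫ qF' R a B (k + 1) i)
  rw [Category.comp_id, Category.id_comp]

end Cech

/-- The underlying abelian sheaves of an epimorphism of modules. -/
theorem epi_toAbMod_map {M N : BigSite.Mod Scheme.fppfPrecoverage S} (g : M ⟶ N) [Epi g] :
    Epi ((BigSite.toAbMod Scheme.fppfPrecoverage S).map g) := by
  let L := PresheafOfModules.sheafification.{u + 1} (𝟙 (BigSite.ORing Scheme.fppfPrecoverage S).obj)
  let c := asIso (PresheafOfModules.sheafificationAdjunction (𝟙 (BigSite.ORing Scheme.fppfPrecoverage S).obj)).counit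
  let T := BigSite.toAbMod Scheme.fppfPrecoverage S
  let F : PresheafOfModules.{u + 1} (BigSite.ORing Scheme.fppfPrecoverage S).obj ⥤ BigSite.Ab Scheme.fppfPrecoverage S :=
    PresheafOfModules.toPresheaf _ ⋙ presheafToSheaf _ _
  haveI : PreservesColimitsOfShape WalkingParallelPair F := comp_preservesColimitsOfShape _ _
  let φ := (toPre S).map g
  have hz : IsZero (L.obj (cokernel φ)) := (isZero_cokernel_of_epi g).of_iso
    (PreservesCokernel.iso L φ ≪≫ cokernel.mapIso _ _ (c.app M) (c.app N) (c.hom.naturality g))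
  haveI : F.PreservesZeroMorphisms := Functor.preservesZeroMorphisms_comp _ _
  have hz' : IsZero (cokernel (F.map φ)) :=
    IsZero.of_iso (show IsZero (F.obj (cokernel φ)) from T.map_isZero hz) (PreservesCokernel.iso F φ).symm
  haveI : Epi (F.map φ) := Preadditive.epi_of_isZero_cokernel _ hz'
  haveI : Epi (T.map (L.map φ)) := inferInstanceAs (Epi (F.map φ))
  have hn : T.map (L.map φ) ≫ T.map (c.app N).hom = T.map (c.app M).hom ≫ T.map g := by
    rw [← T.map_comp, ← T.map_comp]
    exact congrArg T.map (c.hom.naturality g)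
  haveI : Epi (T.map (c.app M).hom ≫ T.map g) := hn ▸ epi_comp _ _
  exact epi_of_epi (T.map (c.app M).hom) (T.map g)

/-- Short exact sequences of modules are short exact as abelian sheaves. -/
theorem shortExact_toAbMod {C : ShortComplex (BigSite.Mod Scheme.fppfPrecoverage S)} (hC : C.ShortExact) :
    (C.map (BigSite.toAbMod Scheme.fppfPrecoverage S)).ShortExact := by
  haveI := hC.mono_f
  haveI := hC.epi_g
  let T := BigSite.toAbMod Scheme.fppfPrecoverage S
  haveI : PreservesFiniteLimits (T ⋙ sheafToPresheaf _ _) :=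
    inferInstanceAs (PreservesFiniteLimits (SheafOfModules.forget _ ⋙ PresheafOfModules.toPresheaf _))
  haveI : PreservesFiniteLimits T := preservesFiniteLimits_of_reflects_of_preserves T (sheafToPresheaf _ _)
  exact { exact := hC.exact.map_of_mono_of_preservesKernel T inferInstance inferInstance
          mono_f := inferInstanceAs (Mono (T.map C.f))
          epi_g := epi_toAbMod_map C.g }

end Groth.Agent.AdeqShLib
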