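import Groth.Agent.AdeqShLib.Fam
import Groth.Agent.AdeqShLib.ModVanish
import Groth.Agent.AdeqShLib.Colim
import Groth.Agent.AdeqLib.Ext

/-!
# Mayer-Vietoris and affine vanishing for families
-/

set_option autoImplicit false
set_option backward.isDefEq.respectTransparency false
set_option backward.isDefEq.respectTransparency.types false
set_option maxHeartbeats 800000
universe u

namespace Groth.Agent.AdeqShLib

open CategoryTheory Limits AlgebraicGeometry Opposite TensorProduct Groth.Agent.AdeqLib

section Middle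

variable {A : Type u} [CommRing A] {F₁ F₂ F₃ F₄ F₅ : Adeq.MVF A}

/-- Adequacy of the middle term of a five-term exact sequence. -/
theorem adequate_middle (a : F₁ ⟶ F₂) (b : F₂ ⟶ F₃) (c : F₃ ⟶ F₄) (d : F₄ ⟶ F₅)
    (h₁ : Adeq.adequate A F₁) (h₂ : Adeq.adequate A F₂) (h₄ : Adeq.adequate A F₄) (h₅ : Adeq.adequate A F₅)
    (hab : ∀ B, Function.Exact (app a B) (app b B)) (hbc : ∀ B, Function.Exact (app b B) (app c B))
    (hcd : ∀ B, Function.Exact (app c B) (app d B)) : Adeq.adequate A F₃ := by
  have wab : a ≫ b = 0 := hom_ext fun B x => by rw [app_comp, app_zero]; exact (hab B).apply_apply_eq_zero x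
  have wcd : c ≫ d = 0 := hom_ext fun B x => by rw [app_comp, app_zero]; exact (hcd B).apply_apply_eq_zero x
  let f := cokernel.desc a b wab
  let g := kernel.lift d c wcd
  have hf : ∀ B x, app f B (app (cokernel.π a) B x) = app b B x := fun B x => by rw [← app_comp, cokernel.π_desc]
  have hg : ∀ B x, app (kernel.ι d) B (app g B x) = app c B x := fun B x => by rw [← app_comp, kernel.lift_ι]
  have w : f ≫ g = 0 := hom_ext fun B y => by
    obtain ⟨x, rfl⟩ := cokernel_π_surjective a B y
    refine kernel_ι_injective d B ?_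
    rw [app_comp, app_zero, hf, hg, map_zero]
    exact (hbc B).apply_apply_eq_zero x
  let S := ShortComplex.mk f g w
  have hinj : ∀ B, Function.Injective (app f B) := fun B => (injective_iff_map_eq_zero _).2 fun y hy => by
    obtain ⟨x, rfl⟩ := cokernel_π_surjective a B y
    rw [hf] at hy
    obtain ⟨t, rfl⟩ := (hab B x).1 hy
    rw [← app_comp, cokernel.condition, app_zero]
  have hsurj : ∀ B, Function.Surjective (app g B) := fun B y => by
    obtain ⟨x, hx⟩ := (hcd B _).1 ((kernel_ι_mem d B _).2 ⟨y, rfl⟩)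
    exact ⟨x, kernel_ι_injective d B ((hg B x).trans hx)⟩
  haveI : Mono S.f := mono_iff.2 hinj
  haveI : Epi S.g := epi_iff.2 hsurj
  have hS : S.Exact := by
    refine S.exact_iff_epi_kernel_lift.2 (epi_iff.2 fun B y => ?_)
    have h0 : app c B (app (kernel.ι g) B y) = 0 := by
      rw [← hg, (kernel_ι_mem g B _).2 ⟨y, rfl⟩, map_zero]
    obtain ⟨x, hx⟩ := (hbc B _).1 h0
    refine ⟨app (cokernel.π a) B x, kernel_ι_injective g B ?_⟩
    rw [← app_comp, kernel.lift_ι]
    exact (hf B x).trans hx
  exact adequate_ext (S := S) { exact := hS } (adequate_cokernel h₁ h₂ a) (adequate_kernel h₄ h₅ d)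

theorem adequate_of_subsingleton {F : Adeq.MVF A} (h : ∀ B, Subsingleton (Val F B)) : Adeq.adequate A F := by
  refine Pres.adequate ⟨ModuleCat.of A PUnit, ModuleCat.of A PUnit, 0, 0, fun B a b _ => (h B).elim a b,
    fun B x => ⟨fun _ => ⟨0, ?_⟩, fun _ => ?_⟩⟩
  · refine (uEquiv _ B).injective ?_
    exact Subsingleton.elim _ _
  · rw [Functor.map_zero, app_zero]

end Middle

variable {T : Scheme.{u}} {R : CommRingCat.{u}}

instance additive_famFun {Y : Scheme.{u}} (q : Y ⟶ Spec R) (p : Y ⟶ T) : (famFun q p).Additive where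
  map_add := by
    intros
    exact hom_ext fun B x => rfl

section Open

variable {X : Scheme.{u}} (q : X ⟶ Spec R) (p : X ⟶ T)

/-- The functor of sections on base changes of an open. -/
noncomputable abbrev oFun (V : X.Opens) : BigSite.Mod Scheme.fppfPrecoverage T ⥤ Adeq.MVF R := famFun (V.ι ≫ q) (V.ι ≫ p)

/-- The base change of an open. -/
noncomputable abbrev oObj (V : X.Opens) (B : Adeq.Alg R) : Over T := famObj (V.ι ≫ q) (V.ι ≫ p) B

/-- The inclusion of base changes of opens. -/
noncomputable abbrev oMap {W V : X.Opens} (h : W ≤ V) (B : Adeq.Alg R) : oObj q p W B ⟶ oObj q p V B :=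
  famMap (q := V.ι ≫ q) (p := V.ι ≫ p) (X.homOfLE h) (X.homOfLE_ι_assoc h q) (X.homOfLE_ι_assoc h p) B

/-- Restriction between opens. -/
noncomputable abbrev oRes {W V : X.Opens} (h : W ≤ V) : oFun q p V ⟶ oFun q p W :=
  famRes (q := V.ι ≫ q) (p := V.ι ≫ p) (X.homOfLE h) (X.homOfLE_ι_assoc h q) (X.homOfLE_ι_assoc h p)

/-- The projection to the scheme. -/
noncomputable def oPr (V : X.Opens) (B : Adeq.Alg R) : (oObj q p V B).left ⟶ X :=
  pullback.snd ((Adeq.specOver (𝟙 (Spec R))).obj (op B)).hom (V.ι ≫ q) ≫ V.ι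

theorem oMap_oPr {W V : X.Opens} (h : W ≤ V) (B : Adeq.Alg R) :
    (oMap q p h B).left ≫ oPr q p V B = oPr q p W B := by
  rw [oPr, oPr, reassoc_of% famMap_left_snd, X.homOfLE_ι]

theorem isPullback_oMap {W V : X.Opens} (h : W ≤ V) (B : Adeq.Alg R) :
    IsPullback (oMap q p h B).left (pullback.snd ((Adeq.specOver (𝟙 (Spec R))).obj (op B)).hom (W.ι ≫ q))
      (pullback.snd ((Adeq.specOver (𝟙 (Spec R))).obj (op B)).hom (V.ι ≫ q)) (X.homOfLE h) := by
  refine IsPullback.of_right ?_ (famMap_left_snd _ _ _ B)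
    (IsPullback.of_hasPullback ((Adeq.specOver (𝟙 (Spec R))).obj (op B)).hom (V.ι ≫ q))
  rw [famMap_left_fst, X.homOfLE_ι_assoc]
  exact IsPullback.of_hasPullback _ _

theorem isOpenImmersion_oMap {W V : X.Opens} (h : W ≤ V) (B : Adeq.Alg R) : IsOpenImmersion (oMap q p h B).left :=
  MorphismProperty.of_isPullback (isPullback_oMap q p h B).flip inferInstance

theorem range_oMap {W V : X.Opens} (h : W ≤ V) (B : Adeq.Alg R) :
    Set.range (oMap q p h B).left = oPr q p V B ⁻¹' (W : Set X) := by
  have hp := isPullback_oMap q p h B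
  have hsurj : Function.Surjective hp.isoPullback.hom := hp.isoPullback.hom.homeomorph.surjective
  rw [← hp.isoPullback_hom_fst, Scheme.Hom.comp_base, TopCat.coe_comp, Set.range_comp]
  refine (congrArg _ hsurj.range_eq).trans ?_
  rw [Set.image_univ, Scheme.Pullback.range_fst]
  ext z
  refine ⟨fun ⟨w, hw⟩ => ?_, fun hz => ?_⟩
  · have h1 := congrArg V.ι hw
    rw [← Scheme.Hom.comp_apply, X.homOfLE_ι] at h1
    show V.ι _ ∈ (W : Set X)
    exact h1 ▸ w.2
  · exact ⟨⟨_, hz⟩, V.ι.isOpenEmbedding.injective (by rw [← Scheme.Hom.comp_apply, X.homOfLE_ι]; rfl)⟩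

theorem oMap_mem {W V : X.Opens} (h : W ≤ V) (B : Adeq.Alg R) (w : (oObj q p W B).left) :
    oPr q p W B w ∈ (W : Set X) := (pullback.snd ((Adeq.specOver (𝟙 (Spec R))).obj (op B)).hom (W.ι ≫ q) w).2

variable (V W : X.Opens) (B : Adeq.Alg R) (M : BigSite.Mod Scheme.fppfPrecoverage T)

theorem le_pair : ∀ i : Bool, (bif i then V else W) ≤ V ⊔ W
  | true => le_sup_left
  | false => le_sup_right

/-- The two-member covering of the base change of a union. -/
noncomputable abbrev pairMap (i : Bool) : oObj q p (bif i then V else W) B ⟶ oObj q p (V ⊔ W) B :=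
  oMap q p (W := bif i then V else W) (V := V ⊔ W) (le_pair V W i) B

theorem oMap_comp {U W' V' : X.Opens} (h : U ≤ W') (h' : W' ≤ V') :
    oMap q p h B ≫ oMap q p h' B = oMap q p (h.trans h') B := by
  refine Over.OverMorphism.ext ((isPullback_oMap q p (h.trans h') B).flip |> fun _ => pullback.hom_ext ?_ ?_)
  · show ((oMap q p h B).left ≫ (oMap q p h' B).left) ≫ _ = (oMap q p (h.trans h') B).left ≫ _
    rw [Category.assoc, famMap_left_fst, famMap_left_fst, famMap_left_fst]
  · show ((oMap q p h B).left ≫ (oMap q p h' B).left) ≫ _ = (oMap q p (h.trans h') B).left ≫ _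
    rw [Category.assoc, famMap_left_snd, reassoc_of% famMap_left_snd, famMap_left_snd, Scheme.homOfLE_homOfLE]

theorem pairMap_surjective (z : (oObj q p (V ⊔ W) B).left) : ∃ i, z ∈ Set.range (pairMap q p V W B i).left := by
  rcases (TopologicalSpace.Opens.coe_sup V W ▸ oMap_mem q p (le_refl (V ⊔ W)) B z : oPr q p (V ⊔ W) B z ∈ (V : Set X) ∪ W) with h | h
  · exact ⟨true, (Set.ext_iff.1 (range_oMap q p (le_pair V W true) B) z).2 h⟩
  · exact ⟨false, (Set.ext_iff.1 (range_oMap q p (le_pair V W false) B) z).2 h⟩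

theorem fppf_pairMap (i : Bool) : fppfP (pairMap q p V W B i).left :=
  fppfP_of_isOpenImmersion _ (isOpenImmersion_oMap q p (le_pair V W i) B)

theorem sup_eq_zero {x : Val ((oFun q p (V ⊔ W)).obj M) B} (h₁ : app ((oRes q p (le_sup_left (b := W))).app M) B x = 0)
    (h₂ : app ((oRes q p (le_sup_right (a := V))).app M) B x = 0) : x = 0 :=
  eq_zero_of_cover (isSheaf_secPre M) (pairMap q p V W B)
    (generate_mem_J fppfP _ (pairMap_surjective q p V W B) (fppf_pairMap q p V W B)) fun i =>
    match i with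
    | true => h₁
    | false => h₂

theorem sup_glue (y : Val ((oFun q p V).obj M) B) (z : Val ((oFun q p W).obj M) B)
    (h : app ((oRes q p (inf_le_left : V ⊓ W ≤ V)).app M) B y = app ((oRes q p (inf_le_right : V ⊓ W ≤ W)).app M) B z) :
    ∃ x : Val ((oFun q p (V ⊔ W)).obj M) B, app ((oRes q p (le_sup_left (b := W))).app M) B x = y ∧
      app ((oRes q p (le_sup_right (a := V))).app M) B x = z := by
  let t : ∀ i, (secPre M).obj (op (oObj q p (bif i then V else W) B)) := fun i =>
    match i with
    | true => y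
    | false => z
  have hcomp : oMap q p (inf_le_left : V ⊓ W ≤ V) B ≫ pairMap q p V W B true =
      oMap q p (inf_le_right : V ⊓ W ≤ W) B ≫ pairMap q p V W B false :=
    (oMap_comp q p B inf_le_left (le_pair V W true)).trans (oMap_comp q p B inf_le_right (le_pair V W false)).symm
  have key : ∀ (Z : Over T) (g : Z ⟶ oObj q p V B) (k : Z ⟶ oObj q p W B),
      g ≫ pairMap q p V W B true = k ≫ pairMap q p V W B false → (secPre M).map g.op y = (secPre M).map k.op z := by
    intro Z g k e
    haveI := isOpenImmersion_oMap q p (inf_le_left : V ⊓ W ≤ V) B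
    have hr : Set.range g.left ⊆ Set.range (oMap q p (inf_le_left : V ⊓ W ≤ V) B).left := by
      rw [range_oMap]
      rintro _ ⟨u, rfl⟩
      refine ⟨oMap_mem q p (le_refl V) B _, ?_⟩
      have hg : g.left ≫ oPr q p V B = g.left ≫ (pairMap q p V W B true).left ≫ oPr q p (V ⊔ W) B := by rw [oMap_oPr]; rfl
      have hk : k.left ≫ oPr q p W B = k.left ≫ (pairMap q p V W B false).left ≫ oPr q p (V ⊔ W) B := by rw [oMap_oPr]; rfl
      have he : g.left ≫ oPr q p V B = k.left ≫ oPr q p W B := by
        rw [hg, hk, ← Category.assoc, ← Category.assoc]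
        exact congrArg (· ≫ oPr q p (V ⊔ W) B) (congrArg CommaMorphism.left e)
      show (g.left ≫ oPr q p V B) u ∈ (W : Set X)
      rw [he]
      exact oMap_mem q p (le_refl W) B _
    let u : Z ⟶ oObj q p (V ⊓ W) B := Over.homMk (IsOpenImmersion.lift _ g.left hr) (by
      rw [← Over.w (oMap q p (inf_le_left : V ⊓ W ≤ V) B), IsOpenImmersion.lift_fac_assoc, Over.w g])
    have hug : u ≫ oMap q p (inf_le_left : V ⊓ W ≤ V) B = g := Over.OverMorphism.ext (IsOpenImmersion.lift_fac _ _ _)
    have huk : u ≫ oMap q p (inf_le_right : V ⊓ W ≤ W) B = k := by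
      haveI := isOpenImmersion_oMap q p (le_sup_right (a := V) : W ≤ V ⊔ W) B
      haveI : Mono (pairMap q p V W B false) :=
        (Over.forget T).mono_of_mono_map (inferInstanceAs (Mono (oMap q p (le_sup_right (a := V) : W ≤ V ⊔ W) B).left))
      refine (cancel_mono (pairMap q p V W B false)).1 ?_
      rw [Category.assoc, ← hcomp, reassoc_of% hug, e]
    rw [← hug, ← huk, op_comp, op_comp, Functor.map_comp, Functor.map_comp]
    exact congrArg ((secPre M).map u.op) h
  obtain ⟨x, hx, -⟩ := existsUnique_glue (isSheaf_secPre M) (pairMap q p V W B)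
    (generate_mem_J fppfP _ (pairMap_surjective q p V W B) (fppf_pairMap q p V W B)) t (fun i j Z g k e => by
      haveI : ∀ i, Mono (pairMap q p V W B i) := fun i =>
        haveI : Mono (pairMap q p V W B i).left := (isOpenImmersion_oMap q p _ B).mono
        (Over.forget T).mono_of_mono_map (inferInstanceAs (Mono (pairMap q p V W B i).left))
      cases i <;> cases j
      · rw [(cancel_mono (pairMap q p V W B false)).1 e]
      · exact (key Z k g e.symm).symm
      · exact key Z g k e
      · rw [(cancel_mono (pairMap q p V W B true)).1 e])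
  exact ⟨x, hx true, hx false⟩

theorem res_surjective_of_injective [Injective M] {W V : X.Opens} (h : W ≤ V) (B : Adeq.Alg R) :
    Function.Surjective (app ((oRes q p h).app M) B) := fun y => by
  haveI := isOpenImmersion_oMap q p h B
  haveI : Mono (oMap q p h B) :=
    (Over.forget T).mono_of_mono_map (inferInstanceAs (Mono (oMap q p h B).left))
  exact injective_restrict_surjective M (oMap q p h B) y

end Open

end Groth.Agent.AdeqShLib
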