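import Mathlib

/-!
# Sheaves on a slice as sheaves on the base
-/

set_option autoImplicit false
set_option backward.isDefEq.respectTransparency false
set_option backward.isDefEq.respectTransparency.types false
universe u

namespace Groth.Agent.AdeqShLib

open CategoryTheory Limits Opposite

variable {C : Type (u + 1)} [Category.{u} C] {S : C} (P : (Over S)ᵒᵖ ⥤ Type (u + 1))

/-- Sections over all structure maps at once. -/
def totalPre : Cᵒᵖ ⥤ Type (u + 1) where
  obj Y := Σ g : Y.unop ⟶ S, P.obj (op (Over.mk g))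
  map {Y Y'} h := TypeCat.ofHom fun p => ⟨h.unop ≫ p.1,
    P.map (Over.homMk h.unop rfl : Over.mk (h.unop ≫ p.1) ⟶ Over.mk p.1).op p.2⟩
  map_id Y := by
    refine ConcreteCategory.hom_ext _ _ fun ⟨g, t⟩ => ?_
    have key : ∀ (g' : Y.unop ⟶ S) (e : g' = g) (m : Over.mk g' ⟶ Over.mk g), m.left = 𝟙 _ →
        (⟨g', P.map m.op t⟩ : Σ g : Y.unop ⟶ S, P.obj (op (Over.mk g))) = ⟨g, t⟩ := by
      rintro g' rfl m hm
      rw [show m = 𝟙 _ from Over.OverMorphism.ext hm, op_id, P.map_id]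
      rfl
    exact key _ (Category.id_comp g) (Over.homMk (𝟙 _) rfl) rfl
  map_comp {Y Y' Y''} h h' := by
    refine ConcreteCategory.hom_ext _ _ fun ⟨g, t⟩ => ?_
    have key : ∀ (g' g'' : Y''.unop ⟶ S) (e : g' = g'') (m : Over.mk g' ⟶ Over.mk g) (m' : Over.mk g'' ⟶ Over.mk g),
        m.left = m'.left →
        (⟨g', P.map m.op t⟩ : Σ g : Y''.unop ⟶ S, P.obj (op (Over.mk g))) = ⟨g'', P.map m'.op t⟩ := by
      rintro g' g'' rfl m m' hm
      rw [show m = m' from Over.OverMorphism.ext hm]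
    refine (key _ _ (Category.assoc _ _ _) (Over.homMk (h'.unop ≫ h.unop) rfl)
      ((Over.homMk h'.unop rfl : Over.mk (h'.unop ≫ h.unop ≫ g) ⟶ Over.mk (h.unop ≫ g)) ≫
        (Over.homMk h.unop rfl : Over.mk (h.unop ≫ g) ⟶ Over.mk g)) rfl).trans ?_
    rw [op_comp, P.map_comp]
    rfl

variable {P}

/-- Equality of total sections. -/
theorem total_ext {Y : C} {g g' : Y ⟶ S} {t : P.obj (op (Over.mk g))} {t' : P.obj (op (Over.mk g'))}
    (e : g = g') (h : ∀ m : Over.mk g ⟶ Over.mk g', m.left = 𝟙 _ → t = P.map m.op t') :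
    (⟨g, t⟩ : (totalPre P).obj (op Y)) = ⟨g', t'⟩ := by
  subst e
  rw [h (𝟙 _) rfl, op_id, P.map_id]
  rfl

theorem total_snd {Y : C} {g g' : Y ⟶ S} {t : P.obj (op (Over.mk g))} {t' : P.obj (op (Over.mk g'))}
    (h : (⟨g, t⟩ : (totalPre P).obj (op Y)) = ⟨g', t'⟩) (m : Over.mk g ⟶ Over.mk g') (hm : m.left = 𝟙 _) :
    t = P.map m.op t' := by
  obtain rfl : g = g' := congrArg Sigma.fst h
  obtain rfl : t = t' := eq_of_heq (Sigma.mk.inj h).2
  rw [show m = 𝟙 _ from Over.OverMorphism.ext hm, op_id, P.map_id]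
  rfl

theorem totalPre_map {Y Y' : C} (h : Y' ⟶ Y) (g : Y ⟶ S) (t : P.obj (op (Over.mk g))) :
    (totalPre P).map h.op ⟨g, t⟩ = ⟨h ≫ g, P.map (Over.homMk h rfl : Over.mk (h ≫ g) ⟶ Over.mk g).op t⟩ := rfl

variable (T : GrothendieckTopology C) [hsub : T.Subcanonical]

include hsub

theorem isSheaf_over_of_isSheaf_totalPre (hQ : Presieve.IsSheaf T (totalPre P)) : Presieve.IsSheaf (T.over S) P := by
  intro X R hR x hx
  have hR' : Sieve.overEquiv X R ∈ T X.left := (GrothendieckTopology.mem_over_iff T R).1 hR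
  have hyo : Presieve.IsSheaf T (yoneda.obj S) := GrothendieckTopology.Subcanonical.isSheaf_of_isRepresentable _
  let y : Presieve.FamilyOfElements (totalPre P) (Sieve.overEquiv X R : Sieve X.left).arrows := fun Z h hh =>
    ⟨h ≫ X.hom, x (Over.homMk h rfl : Over.mk (h ≫ X.hom) ⟶ X) ((Sieve.overEquiv_iff R h).1 hh)⟩
  have hy : y.Compatible := by
    intro Z₁ Z₂ W g₁ g₂ h₁ h₂ hh₁ hh₂ e
    refine (totalPre_map g₁ _ _).trans ((total_ext (by rw [reassoc_of% e]) fun m hm => ?_).trans (totalPre_map g₂ _ _).symm)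
    refine (hx (Over.homMk g₁ rfl : Over.mk (g₁ ≫ h₁ ≫ X.hom) ⟶ Over.mk (h₁ ≫ X.hom))
      (m ≫ (Over.homMk g₂ rfl : Over.mk (g₂ ≫ h₂ ≫ X.hom) ⟶ Over.mk (h₂ ≫ X.hom))) ((Sieve.overEquiv_iff R h₁).1 hh₁)
      ((Sieve.overEquiv_iff R h₂).1 hh₂) (Over.OverMorphism.ext ?_)).trans ?_
    · simp [hm, e]
    · rw [op_comp, P.map_comp]
      rfl
  obtain ⟨⟨g, t⟩, ht, huniq⟩ := hQ _ hR' y hy
  have hg : g = X.hom := (hyo _ hR').isSeparatedFor.ext fun Z h hh => congrArg Sigma.fst (ht h hh)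
  subst hg
  refine ⟨t, fun Z h hh => ?_, fun t' ht' => ?_⟩
  · have hl : (Sieve.overEquiv X R : Sieve X.left).arrows h.left :=
      (Sieve.overEquiv_iff R h.left).2 (by
        have : (Over.homMk h.left rfl : Over.mk (h.left ≫ X.hom) ⟶ X) =
            (Over.homMk (𝟙 _) (by simp) : Over.mk (h.left ≫ X.hom) ⟶ Z) ≫ h := Over.OverMorphism.ext (by simp)
        rw [this]
        exact R.downward_closed hh _)
    have h1 := total_snd ((totalPre_map h.left X.hom t).symm.trans (ht h.left hl)) (𝟙 _) rfl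
    rw [op_id, P.map_id] at h1
    let e : Z ⟶ Over.mk (h.left ≫ X.hom) := Over.homMk (𝟙 _) (by simp)
    have h2 := congrArg (P.map e.op) h1
    have h3 : h = e ≫ (Over.homMk h.left rfl : Over.mk (h.left ≫ X.hom) ⟶ X) := Over.OverMorphism.ext (by simp [e])
    conv_lhs => rw [h3, op_comp, P.map_comp]
    refine h2.trans ?_
    refine (hx e (𝟙 Z) ((Sieve.overEquiv_iff R h.left).1 hl) hh ((Category.id_comp h).trans h3).symm).trans ?_
    rw [op_id, P.map_id]
    rfl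
  · exact eq_of_heq (Sigma.mk.inj (huniq ⟨X.hom, t'⟩ fun Z h hh =>
      (totalPre_map h X.hom t').trans (congrArg (Sigma.mk (h ≫ X.hom))
        (ht' (Over.homMk h rfl : Over.mk (h ≫ X.hom) ⟶ X) ((Sieve.overEquiv_iff R h).1 hh))))).2

theorem isSheaf_totalPre (hP : Presieve.IsSheaf (T.over S) P) : Presieve.IsSheaf T (totalPre P) := by
  intro Y R hR y hy
  have hyo : Presieve.IsSheaf T (yoneda.obj S) := GrothendieckTopology.Subcanonical.isSheaf_of_isRepresentable _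
  obtain ⟨g, hg, hgu⟩ := hyo R hR (fun Z h hh => (y h hh).1) (fun Z₁ Z₂ W g₁ g₂ h₁ h₂ hh₁ hh₂ e =>
    congrArg Sigma.fst (hy g₁ g₂ hh₁ hh₂ e))
  let R' : Sieve (Over.mk g) := (Sieve.overEquiv (Over.mk g)).symm R
  have hR' : R' ∈ (T.over S) (Over.mk g) := GrothendieckTopology.overEquiv_symm_mem_over T (Over.mk g) R hR
  have hmk : ∀ {Z : Over S} (h : Z ⟶ Over.mk g) (hh : R h.left), Z.hom = (y h.left hh).1 := fun h hh =>
    (Over.w h).symm.trans (hg h.left hh)
  let x : Presieve.FamilyOfElements P R'.arrows := fun Z h hh =>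
    P.map (Over.homMk (𝟙 _) ((Category.id_comp _).trans (hmk h hh).symm) : Z ⟶ Over.mk (y h.left hh).1).op (y h.left hh).2
  have hx : x.Compatible := by
    intro Z₁ Z₂ W g₁ g₂ h₁ h₂ hh₁ hh₂ e
    have h' := hy g₁.left g₂.left hh₁ hh₂ (congrArg CommaMorphism.left e)
    have key : ∀ (p₁ p₂ : (totalPre P).obj (op W.left)), p₁ = p₂ → ∀ (m₁ : W ⟶ Over.mk p₁.1) (m₂ : W ⟶ Over.mk p₂.1),
        m₁.left = 𝟙 _ → m₂.left = 𝟙 _ → P.map m₁.op p₁.2 = P.map m₂.op p₂.2 := by
      rintro p₁ p₂ rfl m₁ m₂ hm₁ hm₂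
      rw [show m₁ = m₂ from Over.OverMorphism.ext (hm₁.trans hm₂.symm)]
    have k := key _ _ h' (Over.homMk (𝟙 _) (by
        show 𝟙 _ ≫ g₁.left ≫ (y h₁.left hh₁).1 = W.hom
        rw [Category.id_comp, ← hmk h₁ hh₁, Over.w g₁]))
      (Over.homMk (𝟙 _) (by
        show 𝟙 _ ≫ g₂.left ≫ (y h₂.left hh₂).1 = W.hom
        rw [Category.id_comp, ← hmk h₂ hh₂, Over.w g₂])) rfl rfl
    refine Eq.trans ?_ (k.trans ?_)
    · refine ((P.map_comp_apply _ _ _).symm.trans ?_).trans (P.map_comp_apply _ _ _)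
      rw [← op_comp, ← op_comp]
      refine congrArg (fun m => P.map (Quiver.Hom.op m) (y h₁.left hh₁).2) (Over.OverMorphism.ext ?_)
      simp
    · refine (((P.map_comp_apply _ _ _).symm.trans ?_).trans (P.map_comp_apply _ _ _))
      rw [← op_comp, ← op_comp]
      refine congrArg (fun m => P.map (Quiver.Hom.op m) (y h₂.left hh₂).2) (Over.OverMorphism.ext ?_)
      simp
  obtain ⟨t, ht, htu⟩ := hP R' hR' x hx
  refine ⟨⟨g, t⟩, fun Z h hh => ?_, fun p hp => ?_⟩
  · refine (totalPre_map h g t).trans (total_ext (hg h hh) fun m hm => ?_)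
    refine (ht (Over.homMk h rfl : Over.mk (h ≫ g) ⟶ Over.mk g) hh).trans ?_
    exact congrArg (fun m => P.map (Quiver.Hom.op m) (y h hh).2) (Over.OverMorphism.ext hm.symm)
  · obtain ⟨g', t'⟩ := p
    have hg' : g' = g := hgu g' fun Z h hh => congrArg Sigma.fst (hp h hh)
    subst hg'
    refine congrArg (Sigma.mk g') (htu t' fun Z h hh => ?_)
    have k := total_snd (hp h.left hh) (Over.homMk (𝟙 _) ((Category.id_comp _).trans (hg h.left hh).symm)) rfl
    let e : Z ⟶ Over.mk (h.left ≫ g') := Over.homMk (𝟙 _) ((Category.id_comp _).trans (Over.w h))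
    have h3 : h = e ≫ (Over.homMk h.left rfl : Over.mk (h.left ≫ g') ⟶ Over.mk g') := Over.OverMorphism.ext (by simp [e])
    conv_lhs => rw [h3, op_comp, P.map_comp]
    refine (congrArg (P.map e.op) k).trans ?_
    refine (P.map_comp_apply _ _ _).symm.trans ?_
    rw [← op_comp]
    refine congrArg (fun m => P.map (Quiver.Hom.op m) (y h.left hh).2) (Over.OverMorphism.ext ?_)
    simp [e]

end Groth.Agent.AdeqShLib
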