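import Groth.Agent.AdeqShLib.Named
import Groth.Agent.AdeqShLib.Slice
import Groth.Agent.AdeqLib.FFDescent

/-!
# Adequate modules are fpqc sheaves
-/

set_option autoImplicit false
set_option backward.isDefEq.respectTransparency false
set_option backward.isDefEq.respectTransparency.types false
set_option maxHeartbeats 800000
universe u

namespace Groth.Agent.AdeqShLib

open CategoryTheory Limits AlgebraicGeometry Opposite TensorProduct Groth.Agent.AdeqLib

variable {K : Precoverage Scheme.{u}} [BigSite.OSh K] {S : Scheme.{u}}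

theorem isSheaf_fpqc_of_adequate (hK : Scheme.zariskiPrecoverage ≤ K) (M : BigSite.Mod K S)
    (hM : ∀ (R : CommRingCat.{u}) (a : Spec R ⟶ S), Adeq.adequate R ((Adeq.toMVF K a).obj M)) :
    Presheaf.IsSheaf (QuotSh.J Scheme.fpqcPrecoverage S) (secPre M) := by
  rw [Presheaf.isSheaf_iff_isSheaf_forget _ _ (forget Ab), isSheaf_iff_isSheaf_of_type]
  let P : (Over S)ᵒᵖ ⥤ Type (u + 1) := secPre M ⋙ forget Ab
  have hzar : Presieve.IsSheaf (Scheme.zariskiTopology.over S) P :=
    Presieve.isSheaf_of_le _ (BigSite.J_mono hK S)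
      ((isSheaf_iff_isSheaf_of_type _ _).1 ((Presheaf.isSheaf_iff_isSheaf_forget _ _ (forget Ab)).1 (isSheaf_secPre M)))
  have hQ : Presieve.IsSheaf Scheme.fpqcTopology (totalPre P) := by
    rw [Scheme.fpqcTopology_eq_propQCTopology, isSheaf_type_propQCTopology_iff]
    refine ⟨isSheaf_totalPre _ hzar, fun {R B} φ hflat hsurj => ?_⟩
    have hyo : Presieve.IsSheafFor (yoneda.obj S) (.singleton (Spec.map φ)) := by
      have h := GrothendieckTopology.Subcanonical.isSheaf_of_isRepresentable (J := Scheme.fpqcTopology) (yoneda.obj S)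
      rw [Scheme.fpqcTopology_eq_propQCTopology, isSheaf_type_propQCTopology_iff] at h
      exact h.2 φ hflat hsurj
    rw [Presieve.isSheafFor_singleton]
    rintro ⟨g, t⟩ hcomp
    obtain ⟨a, ha, hau⟩ := Presieve.isSheafFor_singleton.1 hyo g
      (fun {Z} p₁ p₂ e => congrArg Sigma.fst (hcomp p₁ p₂ e))
    have ha' : Spec.map φ ≫ a = g := ha
    subst ha'
    letI : Algebra R B := φ.hom.toAlgebra
    haveI : Module.FaithfullyFlat R B := by
      exact RingHom.faithfullyFlat_algebraMap_iff.1 ((flat_and_surjective_SpecMap_iff φ).1 ⟨hflat, hsurj⟩)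
    obtain ⟨q⟩ := exists_pres (hM R a)
    obtain ⟨hinj, heq⟩ := q.equalizer B
    let i₁ : Adeq.algOf R B ⟶ Adeq.algOf R (B ⊗[R] B) :=
      CommAlgCat.ofHom (Algebra.TensorProduct.includeLeft : B →ₐ[R] B ⊗[R] B)
    let i₂ : Adeq.algOf R B ⟶ Adeq.algOf R (B ⊗[R] B) :=
      CommAlgCat.ofHom (Algebra.TensorProduct.includeRight : B →ₐ[R] B ⊗[R] B)
    let p₁ := (Adeq.specOver a).map i₁.op
    let p₂ := (Adeq.specOver a).map i₂.op
    have hp : P.map p₁.op t = P.map p₂.op t := by
      have h := hcomp p₁.left p₂.left (by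
        show Spec.map _ ≫ Spec.map φ = Spec.map _ ≫ Spec.map φ
        rw [← Spec.map_comp, ← Spec.map_comp]
        refine congrArg Spec.map (CommRingCat.hom_ext (RingHom.ext fun r => ?_))
        exact (i₁.hom.commutes r).trans (i₂.hom.commutes r).symm)
      let e : (Adeq.specOver a).obj (op (Adeq.algOf R (B ⊗[R] B))) ⟶ Over.mk (p₁.left ≫ Spec.map φ ≫ a) :=
        Over.homMk (𝟙 _) ((Category.id_comp _).trans (Over.w p₁))
      let m : Over.mk (p₁.left ≫ Spec.map φ ≫ a) ⟶ Over.mk (p₂.left ≫ Spec.map φ ≫ a) :=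
        Over.homMk (𝟙 _) ((Category.id_comp _).trans ((Over.w p₂).trans (Over.w p₁).symm))
      have h1 := congrArg (P.map e.op) (total_snd ((totalPre_map _ _ t).symm.trans (h.trans (totalPre_map _ _ t))) m rfl)
      refine Eq.trans ?_ (h1.trans ?_)
      · refine Eq.trans ?_ (P.map_comp_apply _ _ _)
        rw [← op_comp]
        exact congrArg (fun m => P.map (Quiver.Hom.op m) t) (Over.OverMorphism.ext (Category.id_comp _).symm)
      · refine ((congrArg (P.map e.op) (P.map_comp_apply _ m.op t).symm).trans (P.map_comp_apply _ _ _).symm).trans ?_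
        rw [← op_comp, ← op_comp]
        refine congrArg (fun m => P.map (Quiver.Hom.op m) t) (Over.OverMorphism.ext ?_)
        simp [e, m]
    obtain ⟨x, hx⟩ := heq t hp
    let e : Over.mk a ⟶ (Adeq.specOver a).obj (op (Adeq.algOf R R)) := Over.homMk (𝟙 _) (by
      show 𝟙 _ ≫ Spec.map (CommRingCat.ofHom (RingHom.id R)) ≫ a = a
      simp)
    let d : (Adeq.specOver a).obj (op (Adeq.algOf R R)) ⟶ Over.mk a := Over.homMk (𝟙 _) (by
      show 𝟙 _ ≫ a = Spec.map (CommRingCat.ofHom (RingHom.id R)) ≫ a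
      simp)
    let j := (Adeq.specOver a).map (CommAlgCat.ofHom (Algebra.ofId R B) : Adeq.algOf R R ⟶ Adeq.algOf R B).op
    refine ⟨⟨a, P.map e.op x⟩, ?_, ?_⟩
    · refine (totalPre_map (Spec.map φ) a (P.map e.op x)).trans (congrArg (Sigma.mk (Spec.map φ ≫ a)) ?_)
      refine ((P.map_comp_apply _ _ x).symm.trans ?_).trans hx
      show _ = P.map j.op x
      rw [← op_comp]
      exact congrArg (fun m => P.map (Quiver.Hom.op m) x) (Over.OverMorphism.ext (Category.comp_id _))
    · rintro ⟨a', t'⟩ h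
      have hh := (totalPre_map (Spec.map φ) a' t').symm.trans h
      obtain rfl : a' = a := hau a' (congrArg Sigma.fst hh)
      refine congrArg (Sigma.mk a') ?_
      have h1 : P.map j.op (P.map d.op t') = t := by
        refine ((P.map_comp_apply _ _ t').symm.trans ?_).trans (eq_of_heq (Sigma.mk.inj hh).2)
        rw [← op_comp]
        exact congrArg (fun m => P.map (Quiver.Hom.op m) t') (Over.OverMorphism.ext (Category.comp_id _))
      have h2 : P.map d.op t' = x := hinj (h1.trans hx.symm)
      rw [← h2]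
      have h3 : P.map e.op (P.map d.op t') = t' := by
        refine (P.map_comp_apply _ _ t').symm.trans ?_
        rw [← op_comp, show e ≫ d = 𝟙 _ from Over.OverMorphism.ext (Category.id_comp _), op_id, P.map_id]
        rfl
      exact h3.symm
  exact isSheaf_over_of_isSheaf_totalPre _ hQ

end Groth.Agent.AdeqShLib
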