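import Groth.Agent.AdeqShLib.Descent

/-!
# The named topologies
-/

set_option autoImplicit false
set_option backward.isDefEq.respectTransparency false
set_option backward.isDefEq.respectTransparency.types false
universe u

namespace Groth.Agent.AdeqShLib

open CategoryTheory Limits AlgebraicGeometry Opposite

/-- The property of fppf maps. -/
abbrev fppfP : MorphismProperty Scheme.{u} := @Flat ⊓ @LocallyOfFinitePresentation

instance : BigSite.OSh (Scheme.precoverage fppfP.{u}) := inferInstanceAs (BigSite.OSh Scheme.fppfPrecoverage)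

instance : BigSite.OSh (Scheme.precoverage (@IsOpenImmersion : MorphismProperty Scheme.{u})) :=
  inferInstanceAs (BigSite.OSh Scheme.zariskiPrecoverage)

theorem fppfP_isOpenMap {X Y : Scheme.{u}} (f : X ⟶ Y) (hf : fppfP f) : IsOpenMap f := by
  obtain ⟨h1, h2⟩ := hf
  exact f.isOpenMap

theorem fppfP_of_isOpenImmersion {X Y : Scheme.{u}} (f : X ⟶ Y) (_ : IsOpenImmersion f) : fppfP f :=
  ⟨inferInstance, inferInstance⟩

theorem adequate_toMVF_fppf {S : Scheme.{u}} (M : BigSite.Mod Scheme.fppfPrecoverage S)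
    (hM : Adeq.adequateMod Scheme.fppfPrecoverage S M) {R : CommRingCat.{u}} (b : Spec R ⟶ S) :
    Adeq.adequate R ((Adeq.toMVF Scheme.fppfPrecoverage b).obj M) :=
  adequate_toMVF fppfP (fun f hf => fppfP_isOpenMap f hf) (fun f hf => fppfP_of_isOpenImmersion f hf) M hM b

theorem adequate_toMVF_zariski {S : Scheme.{u}} (M : BigSite.Mod Scheme.zariskiPrecoverage S)
    (hM : Adeq.adequateMod Scheme.zariskiPrecoverage S M) {R : CommRingCat.{u}} (b : Spec R ⟶ S) :
    Adeq.adequate R ((Adeq.toMVF Scheme.zariskiPrecoverage b).obj M) :=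
  adequate_toMVF (@IsOpenImmersion) (fun f hf => (haveI := hf; f.isOpenEmbedding.isOpenMap)) (fun _ hf => hf) M hM b

/-- A module whose functors over all affine objects are adequate is adequate. -/
theorem adequateMod_of_forall (P : MorphismProperty Scheme.{u}) [BigSite.OSh (Scheme.precoverage P)]
    (himm : ∀ {X Y : Scheme.{u}} (f : X ⟶ Y), IsOpenImmersion f → P f) {S : Scheme.{u}}
    (M : BigSite.Mod (Scheme.precoverage P) S)
    (h : ∀ (R : CommRingCat.{u}) (a : Spec R ⟶ S), Adeq.adequate R ((Adeq.toMVF (Scheme.precoverage P) a).obj M)) :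
    Adeq.adequateMod (Scheme.precoverage P) S M := by
  refine ⟨S, fun x => Γ((exists_isAffineOpen_mem_and_subset (x := x) (U := ⊤) trivial).choose, ⊤),
    fun x => (haveI : IsAffine _ := (exists_isAffineOpen_mem_and_subset (x := x) (U := (⊤ : S.Opens)) trivial).choose_spec.1
      (exists_isAffineOpen_mem_and_subset (x := x) (U := (⊤ : S.Opens)) trivial).choose.toScheme.isoSpec.inv ≫
        (exists_isAffineOpen_mem_and_subset (x := x) (U := (⊤ : S.Opens)) trivial).choose.ι), ?_, fun x => h _ _⟩
  refine (Scheme.ofArrows_mem_precoverage_iff P).2 ⟨fun x => ?_, fun x => himm _ inferInstance⟩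
  obtain ⟨hW, hx, -⟩ := (exists_isAffineOpen_mem_and_subset (x := x) (U := (⊤ : S.Opens)) trivial).choose_spec
  haveI : IsAffine _ := hW
  refine ⟨x, (exists_isAffineOpen_mem_and_subset (x := x) (U := (⊤ : S.Opens)) trivial).choose.toScheme.isoSpec.hom ⟨x, hx⟩, ?_⟩
  rw [← Scheme.Hom.comp_apply, Iso.hom_inv_id_assoc]
  rfl

theorem adequateMod_fppf {S : Scheme.{u}} (M : BigSite.Mod Scheme.fppfPrecoverage S)
    (h : ∀ (R : CommRingCat.{u}) (a : Spec R ⟶ S), Adeq.adequate R ((Adeq.toMVF Scheme.fppfPrecoverage a).obj M)) :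
    Adeq.adequateMod Scheme.fppfPrecoverage S M :=
  adequateMod_of_forall fppfP (fun f hf => fppfP_of_isOpenImmersion f hf) M h

end Groth.Agent.AdeqShLib
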