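import Groth.Agent.AdeqShLib.Named

/-!
# Pushforward of adequate modules along quasi-compact quasi-separated morphisms
-/

set_option autoImplicit false
set_option backward.isDefEq.respectTransparency false
set_option backward.isDefEq.respectTransparency.types false
set_option maxHeartbeats 800000
universe u

namespace Groth.Agent.AdeqShLib

open CategoryTheory Limits AlgebraicGeometry Opposite TensorProduct Groth.Agent.AdeqLib

variable {K : Precoverage Scheme.{u}} [BigSite.OSh K] {S T : Scheme.{u}}

/-- The presheaf of a module takes scalars through pullback of functions. -/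
theorem secPre_smul (M : BigSite.Mod K S) {X Y : Over S} (m : X ⟶ Y) (r : Γ(Y.left, ⊤))
    (x : M.val.obj (op Y)) :
    (show M.val.obj (op X) from (secPre M).map m.op ((ULift.up r : (BigSite.ORing K S).obj.obj (op Y)) • x)) =
      (ULift.up (m.left.appTop.hom r) : (BigSite.ORing K S).obj.obj (op X)) •
        (show M.val.obj (op X) from (secPre M).map m.op x) :=
  M.val.map_smul m.op _ x

section

variable {R : CommRingCat.{u}} {C D : Adeq.Alg R}

/-- The functor of values on the base change of an affine object over the source. -/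
noncomputable abbrev pieceFun (C : Adeq.Alg R) (b : Spec (CommRingCat.of C) ⟶ T) (M : BigSite.Mod K T) : Adeq.MVF R :=
  (Adeq.push R C).obj ((Adeq.toMVF K (R := CommRingCat.of C) b).obj M)

/-- An affine object over the source, base changed. -/
noncomputable abbrev pieceObj (C : Adeq.Alg R) (b : Spec (CommRingCat.of C) ⟶ T) (B : Adeq.Alg R) : Over T :=
  (Adeq.specOver (R := CommRingCat.of C) b).obj (op ((Adeq.Alg.baseChange R C).obj B))

theorem pieceObj_hom (b : Spec (CommRingCat.of C) ⟶ T) (B : Adeq.Alg R) :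
    (pieceObj C b B).hom = Spec.map (inclL C B) ≫ b := rfl

variable (φ : C ⟶ D)

/-- The map of base changes. -/
noncomputable def bcMap (B : Adeq.Alg R) : CommRingCat.of ((C : Type u) ⊗[R] (B : Type u)) ⟶ CommRingCat.of ((D : Type u) ⊗[R] (B : Type u)) :=
  CommRingCat.ofHom (Algebra.TensorProduct.map φ.hom (AlgHom.id R B)).toRingHom

theorem inclL_bcMap (B : Adeq.Alg R) : inclL C B ≫ bcMap φ B = rh φ ≫ inclL D B := by
  refine CommRingCat.hom_ext (RingHom.ext fun c => ?_)
  show Algebra.TensorProduct.map φ.hom (AlgHom.id R B) ((c : C) ⊗ₜ[R] (1 : B)) = φ.hom c ⊗ₜ[R] (1 : B)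
  rw [Algebra.TensorProduct.map_tmul, map_one]

theorem bcMap_natural {B B' : Adeq.Alg R} (g : B ⟶ B') (z : (C : Type u) ⊗[R] (B : Type u)) :
    (bcMap φ B').hom (Algebra.TensorProduct.map (AlgHom.id C C) g.hom z) =
      Algebra.TensorProduct.map (AlgHom.id D D) g.hom ((bcMap φ B).hom z) := by
  induction z using TensorProduct.induction_on with
  | zero => simp
  | tmul c b => simp [bcMap]
  | add x y hx hy => simp only [map_add, hx, hy]

variable (b : Spec (CommRingCat.of C) ⟶ T) (b' : Spec (CommRingCat.of D) ⟶ T) (hb : Spec.map (rh φ) ≫ b = b')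

include hb in
theorem pieceMap_w (B : Adeq.Alg R) : Spec.map (bcMap φ B) ≫ Spec.map (inclL C B) ≫ b = Spec.map (inclL D B) ≫ b' := by
  rw [← Spec.map_comp_assoc, inclL_bcMap, Spec.map_comp, Category.assoc, hb]

/-- The map of base changed objects. -/
noncomputable def pieceMap (B : Adeq.Alg R) : pieceObj D b' B ⟶ pieceObj C b B :=
  Over.homMk (Spec.map (bcMap φ B)) (pieceMap_w φ b b' hb B)

/-- The map of functors of base changed objects. -/
noncomputable def pieceHom (M : BigSite.Mod K T) : pieceFun C b M ⟶ pieceFun D b' M :=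
  homMk (fun B =>
    { toFun := fun x => (secPre M).map (pieceMap φ b b' hb B).op x
      map_add' := fun x y => map_add ((secPre M).map (pieceMap φ b b' hb B).op).hom x y
      map_smul' := fun r x => by
        refine (secPre_smul M (pieceMap φ b b' hb B)
          ((Scheme.ΓSpecIso (CommRingCat.of ((C : Type u) ⊗[R] (B : Type u)))).inv.hom (inR (A := R) B r)) x).trans ?_
        refine congrArg (fun s => (ULift.up s : (BigSite.ORing K T).obj.obj (op (pieceObj D b' B))) •
          (show M.val.obj (op (pieceObj D b' B)) from (secPre M).map (pieceMap φ b b' hb B).op x)) ?_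
        show ((Scheme.ΓSpecIso _).inv ≫ (Spec.map (bcMap φ B)).appTop).hom (inR (A := R) B r) = _
        rw [← Scheme.ΓSpecIso_inv_naturality]
        show (Scheme.ΓSpecIso _).inv.hom ((bcMap φ B).hom ((1 : C) ⊗ₜ[R] r)) = _
        refine congrArg _ ?_
        show Algebra.TensorProduct.map φ.hom (AlgHom.id R B) ((1 : C) ⊗ₜ[R] r) = (1 : D) ⊗ₜ[R] r
        rw [Algebra.TensorProduct.map_tmul, map_one]
        rfl })
    (fun {B B'} g x => by
      show (secPre M).map (pieceMap φ b b' hb B').op ((secPre M).map
          ((Adeq.specOver (R := CommRingCat.of C) b).map ((Adeq.Alg.baseChange R C).map g).op).op x) =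
        (secPre M).map ((Adeq.specOver (R := CommRingCat.of D) b').map ((Adeq.Alg.baseChange R D).map g).op).op
          ((secPre M).map (pieceMap φ b b' hb B).op x)
      rw [← ConcreteCategory.comp_apply, ← ConcreteCategory.comp_apply, ← Functor.map_comp, ← Functor.map_comp,
        ← op_comp, ← op_comp]
      refine congrArg (fun m : pieceObj D b' B' ⟶ pieceObj C b B => ((secPre M).map m.op) x) (Over.OverMorphism.ext ?_)
      show Spec.map (bcMap φ B') ≫ Spec.map _ = Spec.map _ ≫ Spec.map (bcMap φ B)
      rw [← Spec.map_comp, ← Spec.map_comp]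
      exact congrArg Spec.map (CommRingCat.hom_ext (RingHom.ext fun z => bcMap_natural φ g z)))

end

section Global

variable (f : T ⟶ S) {R : CommRingCat.{u}} (a : Spec R ⟶ S) {C : Adeq.Alg R}

/-- The base change to the source of an affine object. -/
noncomputable abbrev srcObj (B : Adeq.Alg R) : Over T := (Over.pullback f).obj ((Adeq.specOver a).obj (op B))

/-- The projection to the fibre product over the affine base. -/
noncomputable def toFibre (B : Adeq.Alg R) : (srcObj f a B).left ⟶ pullback a f :=
  pullback.lift (pullback.fst _ _ ≫ Spec.map (CommRingCat.ofHom (algebraMap R B))) (pullback.snd _ _) (by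
    rw [Category.assoc]
    exact pullback.condition)

theorem isPullback_toFibre (B : Adeq.Alg R) :
    IsPullback (toFibre f a B) (pullback.fst ((Adeq.specOver a).obj (op B)).hom f) (pullback.fst a f)
      (Spec.map (CommRingCat.ofHom (algebraMap R B))) := by
  refine IsPullback.of_right ?_ (pullback.lift_fst _ _ _) (IsPullback.of_hasPullback a f).flip
  rw [toFibre, pullback.lift_snd]
  exact (IsPullback.of_hasPullback ((Adeq.specOver a).obj (op B)).hom f).flip

variable (j : Spec (CommRingCat.of C) ⟶ pullback a f)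
  (hj : j ≫ pullback.fst a f = Spec.map (CommRingCat.ofHom (algebraMap R C)))

include hj in
theorem piece_w (B : Adeq.Alg R) : (Spec.map (rh (Adeq.Alg.unit R C B))) ≫ ((Adeq.specOver a).obj (op B)).hom =
    (Spec.map (inclL C B) ≫ j ≫ pullback.snd a f) ≫ f := by
  rw [Category.assoc, Category.assoc, ← pullback.condition, reassoc_of% hj, reassoc_of% (isPullback_coAlg C B).w]
  rfl

/-- A piece of the fibre product, base changed. -/
noncomputable def pieceIn (B : Adeq.Alg R) : pieceObj C (j ≫ pullback.snd a f) B ⟶ srcObj f a B :=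
  Over.homMk (pullback.lift (Spec.map (rh (Adeq.Alg.unit R C B))) (Spec.map (inclL C B) ≫ j ≫ pullback.snd a f)
    (piece_w f a j hj B)) (pullback.lift_snd _ _ _)

theorem pieceIn_fst (B : Adeq.Alg R) :
    (pieceIn f a j hj B).left ≫ pullback.fst ((Adeq.specOver a).obj (op B)).hom f = Spec.map (rh (Adeq.Alg.unit R C B)) :=
  pullback.lift_fst _ _ _

theorem pieceIn_toFibre (B : Adeq.Alg R) : (pieceIn f a j hj B).left ≫ toFibre f a B = Spec.map (inclL C B) ≫ j := by
  refine pullback.hom_ext ?_ ?_
  · rw [Category.assoc, Category.assoc, toFibre, pullback.lift_fst, reassoc_of% pieceIn_fst, hj, rh_alg]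
    refine Eq.trans ?_ (((rh_alg (Adeq.Alg.unit R C B)).symm.trans (isPullback_coAlg C B).w.symm))
    refine congrArg Spec.map (CommRingCat.hom_ext (RingHom.ext fun r => ?_))
    show algebraMap R C r ⊗ₜ[R] (1 : B) = algebraMap R C r ⊗ₜ[R] (1 : B)
    rfl
  · rw [Category.assoc, toFibre, pullback.lift_snd, Category.assoc]
    exact pullback.lift_snd _ _ _

/-- The base change of a piece is cartesian over the piece. -/
theorem isPullback_pieceIn (B : Adeq.Alg R) :
    IsPullback (Spec.map (inclL C B)) (pieceIn f a j hj B).left j (toFibre f a B) := by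
  have h := isPullback_coAlg C B
  rw [← hj, ← pieceIn_fst f a j hj B] at h
  exact IsPullback.of_bot h (pieceIn_toFibre f a j hj B).symm (isPullback_toFibre f a B)

theorem range_pieceIn (B : Adeq.Alg R) :
    Set.range (pieceIn f a j hj B).left = (toFibre f a B) ⁻¹' Set.range j := by
  have h := isPullback_pieceIn f a j hj B
  have hsurj : Function.Surjective h.isoPullback.hom := h.isoPullback.hom.homeomorph.surjective
  rw [← h.isoPullback_hom_snd, Scheme.Hom.comp_base, TopCat.coe_comp, Set.range_comp]
  refine (congrArg _ hsurj.range_eq).trans ?_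
  rw [Set.image_univ, Scheme.Pullback.range_snd]

/-- Restriction to a piece. -/
noncomputable def pieceRes (M : BigSite.Mod K T) :
    (Adeq.toMVF K a).obj ((BigSite.pushMod K f).obj M) ⟶ pieceFun C (j ≫ pullback.snd a f) M :=
  homMk (fun B =>
    { toFun := fun x => (secPre M).map (pieceIn f a j hj B).op x
      map_add' := fun x y => map_add ((secPre M).map (pieceIn f a j hj B).op).hom x y
      map_smul' := fun r x => by
        refine (secPre_smul M (pieceIn f a j hj B)
          ((pullback.fst ((Adeq.specOver a).obj (op B)).hom f).appTop.hom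
            ((Scheme.ΓSpecIso (CommRingCat.of B)).inv.hom r)) x).trans ?_
        refine congrArg (fun s => (ULift.up s : (BigSite.ORing K T).obj.obj (op (pieceObj C (j ≫ pullback.snd a f) B))) •
          (show M.val.obj (op (pieceObj C (j ≫ pullback.snd a f) B)) from (secPre M).map (pieceIn f a j hj B).op x)) ?_
        have h := congrArg (fun m => (Scheme.Hom.appTop m).hom ((Scheme.ΓSpecIso (CommRingCat.of B)).inv.hom r))
          (pieceIn_fst f a j hj B)
        simp only [Scheme.Hom.comp_appTop, CommRingCat.comp_apply] at h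
        refine h.trans ?_
        show ((Scheme.ΓSpecIso _).inv ≫ (Spec.map (rh (Adeq.Alg.unit R C B))).appTop).hom r = _
        rw [← Scheme.ΓSpecIso_inv_naturality]
        rfl })
    (fun {B B'} g x => by
      show (secPre M).map (pieceIn f a j hj B').op ((secPre M).map
          ((Over.pullback f).map ((Adeq.specOver a).map g.op)).op x) =
        (secPre M).map ((Adeq.specOver (R := CommRingCat.of C) _).map ((Adeq.Alg.baseChange R C).map g).op).op
          ((secPre M).map (pieceIn f a j hj B).op x)
      rw [← ConcreteCategory.comp_apply, ← ConcreteCategory.comp_apply, ← Functor.map_comp, ← Functor.map_comp,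
        ← op_comp, ← op_comp]
      refine congrArg (fun m : pieceObj C (j ≫ pullback.snd a f) B' ⟶ srcObj f a B => ((secPre M).map m.op) x)
        (Over.OverMorphism.ext (pullback.hom_ext ?_ ?_))
      · show ((pieceIn f a j hj B').left ≫ pullback.lift _ _ _) ≫ pullback.fst _ _ = (Spec.map _ ≫ (pieceIn f a j hj B).left) ≫ pullback.fst _ _
        rw [Category.assoc, pullback.lift_fst, reassoc_of% pieceIn_fst, Category.assoc, pieceIn_fst]
        show _ ≫ Spec.map (rh g) = Spec.map (rh ((Adeq.Alg.restr R C).map ((Adeq.Alg.baseChange R C).map g))) ≫ _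
        rw [← Spec.map_comp, ← Spec.map_comp]
        exact congrArg (fun v => Spec.map (rh v)) (unit_naturality C g)
      · show ((pieceIn f a j hj B').left ≫ pullback.lift _ _ _) ≫ pullback.snd _ _ = (Spec.map _ ≫ (pieceIn f a j hj B).left) ≫ pullback.snd _ _
        rw [Category.assoc, pullback.lift_snd, Category.assoc]
        refine (Over.w (pieceIn f a j hj B')).trans (Eq.trans ?_ (congrArg _ (Over.w (pieceIn f a j hj B)).symm))
        show Spec.map (inclL C B') ≫ _ = Spec.map _ ≫ Spec.map (inclL C B) ≫ _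
        rw [← inclL_map C g, Category.assoc]
        rfl)

variable {D : Adeq.Alg R} (φ : C ⟶ D) (jD : Spec (CommRingCat.of D) ⟶ pullback a f)
  (hjD : jD ≫ pullback.fst a f = Spec.map (CommRingCat.ofHom (algebraMap R D))) (hφ : Spec.map (rh φ) ≫ j = jD)

theorem pieceMap_pieceIn (B : Adeq.Alg R) :
    pieceMap φ (j ≫ pullback.snd a f) (jD ≫ pullback.snd a f) (by rw [reassoc_of% hφ]) B ≫ pieceIn f a j hj B =
      pieceIn f a jD hjD B := by
  refine Over.OverMorphism.ext (pullback.hom_ext ?_ ?_)
  · show (Spec.map (bcMap φ B) ≫ (pieceIn f a j hj B).left) ≫ _ = _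
    rw [Category.assoc, pieceIn_fst, pieceIn_fst, ← Spec.map_comp]
    refine congrArg Spec.map (CommRingCat.hom_ext (RingHom.ext fun r => ?_))
    show Algebra.TensorProduct.map φ.hom (AlgHom.id R B) ((1 : C) ⊗ₜ[R] r) = (1 : D) ⊗ₜ[R] r
    rw [Algebra.TensorProduct.map_tmul, map_one]
    rfl
  · exact (Over.w (pieceMap φ _ _ _ B ≫ pieceIn f a j hj B)).trans (Over.w (pieceIn f a jD hjD B)).symm

end Global

/-- An affine scheme over an affine base as an algebra. -/
theorem exists_piece {R : CommRingCat.{u}} {X : Scheme.{u}} (q : X ⟶ Spec R) {U : X.Opens} (hU : IsAffineOpen U) :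
    ∃ (C : Adeq.Alg R) (j : Spec (CommRingCat.of C) ⟶ X), IsOpenImmersion j ∧ Set.range j = (U : Set X) ∧
      j ≫ q = Spec.map (CommRingCat.ofHom (algebraMap R C)) := by
  letI : Algebra R Γ(X, U) := (Spec.preimage (hU.fromSpec ≫ q)).hom.toAlgebra
  exact ⟨Adeq.algOf R Γ(X, U), hU.fromSpec, inferInstance, hU.range_fromSpec, (Spec.map_preimage _).symm⟩

/-- A map of algebras from a map of affine schemes over the base. -/
theorem exists_alg_hom {R : CommRingCat.{u}} {C D : Adeq.Alg R} (g : Spec (CommRingCat.of D) ⟶ Spec (CommRingCat.of C))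
    (hg : g ≫ Spec.map (CommRingCat.ofHom (algebraMap R C)) = Spec.map (CommRingCat.ofHom (algebraMap R D))) :
    ∃ φ : C ⟶ D, Spec.map (rh φ) = g := by
  have h : CommRingCat.ofHom (algebraMap R C) ≫ Spec.preimage g = CommRingCat.ofHom (algebraMap R D) :=
    Spec.map_injective (by rw [Spec.map_comp, Spec.map_preimage, hg])
  refine ⟨CommAlgCat.ofHom { (Spec.preimage g).hom with commutes' := fun r => ?_ }, ?_⟩
  · exact congrArg (fun v => v.hom r) h
  · exact Spec.map_preimage g

/-- Pushforward along quasi-compact quasi-separated morphisms preserves adequacy on affine objects. -/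
theorem adequate_toMVF_pushMod (P : MorphismProperty Scheme.{u}) [BigSite.OSh (Scheme.precoverage P)]
    (himm : ∀ {X Y : Scheme.{u}} (f : X ⟶ Y), IsOpenImmersion f → P f) (f : T ⟶ S) [QuasiCompact f] [QuasiSeparated f]
    (M : BigSite.Mod (Scheme.precoverage P) T)
    (hM : ∀ (C : CommRingCat.{u}) (b : Spec C ⟶ T), Adeq.adequate C ((Adeq.toMVF (Scheme.precoverage P) b).obj M))
    {R : CommRingCat.{u}} (a : Spec R ⟶ S) :
    Adeq.adequate R ((Adeq.toMVF (Scheme.precoverage P) a).obj ((BigSite.pushMod (Scheme.precoverage P) f).obj M)) := by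
  classical
  let X := pullback a f
  haveI : CompactSpace X := QuasiCompact.compactSpace_of_compactSpace (pullback.fst a f)
  haveI : QuasiSeparatedSpace X := quasiSeparatedSpace_of_quasiSeparated (pullback.fst a f)
  obtain ⟨s, hs, hcov⟩ := (isCompact_and_isOpen_iff_finite_and_eq_biUnion_affineOpens (X := X)).1
    ⟨isCompact_univ, isOpen_univ⟩
  haveI := hs.to_subtype
  choose C j hjI hjR hj using fun U : s => exists_piece (pullback.fst a f) U.1.2
  have hint : ∀ U V : s, ∃ t : Set X.affineOpens, t.Finite ∧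
      ((U.1.1 : Set X) ∩ (V.1.1 : Set X)) = ⋃ W ∈ t, ((W : X.Opens) : Set X) := fun U V =>
    isCompact_and_isOpen_iff_finite_and_eq_biUnion_affineOpens.1
      ⟨QuasiSeparatedSpace.inter_isCompact _ _ U.1.1.2 U.1.2.isCompact V.1.1.2 V.1.2.isCompact, U.1.1.2.inter V.1.1.2⟩
  choose t ht htU using hint
  let κ := Σ p : s × s, t p.1 p.2
  haveI : ∀ p : s × s, Finite (t p.1 p.2) := fun p => (ht p.1 p.2).to_subtype
  choose D l hlI hlR hl using fun k : κ => exists_piece (pullback.fst a f) k.2.1.2
  have hsub : ∀ k : κ, Set.range (l k) ⊆ Set.range (j k.1.1) ∧ Set.range (l k) ⊆ Set.range (j k.1.2) := by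
    rintro ⟨⟨U, V⟩, W, hW⟩
    rw [hlR, hjR, hjR]
    have : ((W : X.Opens) : Set X) ⊆ (U.1.1 : Set X) ∩ (V.1.1 : Set X) := by
      rw [htU U V]; exact Set.subset_biUnion_of_mem (u := fun W : X.affineOpens => ((W : X.Opens) : Set X)) hW
    exact ⟨this.trans Set.inter_subset_left, this.trans Set.inter_subset_right⟩
  have hφ : ∀ k : κ, ∃ φ : C k.1.1 ⟶ D k, Spec.map (rh φ) ≫ j k.1.1 = l k := fun k => by
    haveI := hjI k.1.1
    obtain ⟨φ, hφ⟩ := exists_alg_hom (IsOpenImmersion.lift (j k.1.1) (l k) (hsub k).1)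
      (by rw [← hj, IsOpenImmersion.lift_fac_assoc, hl])
    exact ⟨φ, by rw [hφ, IsOpenImmersion.lift_fac]⟩
  have hψ : ∀ k : κ, ∃ ψ : C k.1.2 ⟶ D k, Spec.map (rh ψ) ≫ j k.1.2 = l k := fun k => by
    haveI := hjI k.1.2
    obtain ⟨ψ, hψ⟩ := exists_alg_hom (IsOpenImmersion.lift (j k.1.2) (l k) (hsub k).2)
      (by rw [← hj, IsOpenImmersion.lift_fac_assoc, hl])
    exact ⟨ψ, by rw [hψ, IsOpenImmersion.lift_fac]⟩
  choose φ hφ using hφ
  choose ψ hψ using hψ
  let b : ∀ U : s, Spec (CommRingCat.of (C U)) ⟶ T := fun U => j U ≫ pullback.snd a f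
  let b' : ∀ k : κ, Spec (CommRingCat.of (D k)) ⟶ T := fun k => l k ≫ pullback.snd a f
  have hjimm : ∀ (U : s) (B : Adeq.Alg R), IsOpenImmersion (pieceIn f a (j U) (hj U) B).left := fun U B =>
    MorphismProperty.of_isPullback (isPullback_pieceIn f a (j U) (hj U) B) (hjI U)
  have hmem : ∀ B : Adeq.Alg R, Sieve.generate (Presieve.ofArrows _ fun U : s => pieceIn f a (j U) (hj U) B) ∈
      QuotSh.J (Scheme.precoverage P) T (srcObj f a B) := fun B => by
    refine generate_mem_J P _ (fun x => ?_) fun U => himm _ (hjimm U B)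
    have hx : toFibre f a B x ∈ (Set.univ : Set X) := trivial
    rw [hcov] at hx
    obtain ⟨U, hU, hx⟩ := Set.mem_iUnion₂.1 hx
    refine ⟨⟨U, hU⟩, ?_⟩
    rw [range_pieceIn]
    show toFibre f a B x ∈ Set.range (j ⟨U, hU⟩)
    rw [hjR]
    exact hx
  refine adequate_of_equalizer (fun U : s => pieceFun (C U) (b U) M) (fun k : κ => pieceFun (D k) (b' k) M)
    (fun U => (pushPres (exists_pres (hM _ (b U))).some).adequate)
    (fun k => (pushPres (exists_pres (hM _ (b' k))).some).adequate)
    (fun U => pieceRes f a (j U) (hj U) M) (fun k => k.1.1) (fun k => k.1.2)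
    (fun k => pieceHom (φ k) (b k.1.1) (b' k) (by simp only [b, b', reassoc_of% hφ k]) M)
    (fun k => pieceHom (ψ k) (b k.1.2) (b' k) (by simp only [b, b', reassoc_of% hψ k]) M)
    (fun k => hom_ext fun B x => ?_) (fun B x hx => eq_zero_of_cover (isSheaf_secPre M) _ (hmem B) hx) fun B y hy => ?_
  · show (secPre M).map (pieceMap _ _ _ _ B).op ((secPre M).map (pieceIn f a _ _ B).op x) =
      (secPre M).map (pieceMap _ _ _ _ B).op ((secPre M).map (pieceIn f a _ _ B).op x)
    rw [← ConcreteCategory.comp_apply, ← ConcreteCategory.comp_apply, ← Functor.map_comp, ← Functor.map_comp,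
      ← op_comp, ← op_comp, pieceMap_pieceIn f a (j k.1.1) (hj _) (φ k) (l k) (hl k) (hφ k) B,
      pieceMap_pieceIn f a (j k.1.2) (hj _) (ψ k) (l k) (hl k) (hψ k) B]
  · obtain ⟨z, hz, -⟩ := existsUnique_glue (isSheaf_secPre M) _ (hmem B) y fun U V Z g h e => by
      let hbase : ∀ k : t U V, pieceObj (D ⟨(U, V), k⟩) (b' ⟨(U, V), k⟩) B ⟶ pieceObj (C U) (b U) B := fun k =>
        pieceMap (φ ⟨(U, V), k⟩) (b U) (b' ⟨(U, V), k⟩) (by simp only [b, b', reassoc_of% hφ ⟨(U, V), k⟩]) B
      have hbase' : ∀ k, hbase k ≫ pieceIn f a (j U) (hj U) B = pieceIn f a (l ⟨(U, V), k⟩) (hl _) B :=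
        fun k => pieceMap_pieceIn f a (j U) (hj _) (φ ⟨(U, V), k⟩) (l _) (hl _) (hφ _) B
      have himm' : ∀ k, IsOpenImmersion (hbase k).left := fun k => by
        haveI := hjimm U B
        haveI : IsOpenImmersion ((hbase k).left ≫ (pieceIn f a (j U) (hj U) B).left) := by
          rw [← Over.comp_left, hbase' k]
          exact MorphismProperty.of_isPullback (isPullback_pieceIn f a (l _) (hl _) B) (hlI _)
        exact IsOpenImmersion.of_comp (hbase k).left (pieceIn f a (j U) (hj U) B).left
      let Zk : t U V → Over T := fun k => Over.mk (pullback.fst g.left (hbase k).left ≫ Z.hom)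
      let ρ : ∀ k, Zk k ⟶ Z := fun k => Over.homMk (pullback.fst g.left (hbase k).left) rfl
      let σ : ∀ k, Zk k ⟶ pieceObj (D ⟨(U, V), k⟩) (b' ⟨(U, V), k⟩) B := fun k =>
        Over.homMk (pullback.snd g.left (hbase k).left) (by
          show _ = pullback.fst g.left (hbase k).left ≫ Z.hom
          rw [← Over.w g, ← Over.w (hbase k), reassoc_of% pullback.condition (f := g.left) (g := (hbase k).left)])
      have hρ : ∀ k, ρ k ≫ g = σ k ≫ hbase k := fun k => Over.OverMorphism.ext pullback.condition
      have hcover : Sieve.generate (Presieve.ofArrows Zk ρ) ∈ QuotSh.J (Scheme.precoverage P) T Z := by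
        refine generate_mem_J P ρ (fun z => ?_) fun k => himm _ (by
          haveI := himm' k
          show IsOpenImmersion (pullback.fst g.left (hbase k).left)
          infer_instance)
        let x := (pieceIn f a (j U) (hj U) B).left (g.left z)
        have hxV : x = (pieceIn f a (j V) (hj V) B).left (h.left z) :=
          congrArg (fun m : Z.left ⟶ (srcObj f a B).left => m z) (congrArg CommaMorphism.left e)
        have h1 : toFibre f a B x ∈ (U.1.1 : Set X) ∩ (V.1.1 : Set X) := by
          refine ⟨?_, ?_⟩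
          · rw [← hjR]; exact (range_pieceIn f a (j U) (hj U) B).le ⟨g.left z, rfl⟩
          · rw [← hjR]; exact (range_pieceIn f a (j V) (hj V) B).le ⟨h.left z, hxV.symm⟩
        rw [htU U V] at h1
        obtain ⟨W, hW, hxW⟩ := Set.mem_iUnion₂.1 h1
        obtain ⟨w, hw⟩ : x ∈ Set.range (pieceIn f a (l ⟨(U, V), ⟨W, hW⟩⟩) (hl _) B).left := by
          rw [range_pieceIn, hlR]; exact hxW
        refine ⟨⟨W, hW⟩, ?_⟩
        show z ∈ Set.range (pullback.fst g.left (hbase ⟨W, hW⟩).left)
        rw [Scheme.Pullback.range_fst]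
        refine ⟨w, ?_⟩
        haveI := hjimm U B
        refine (pieceIn f a (j U) (hj U) B).left.isOpenEmbedding.injective ?_
        rw [← Scheme.Hom.comp_apply, ← Over.comp_left, hbase']
        exact hw
      refine eq_of_cover (isSheaf_secPre M) ρ hcover fun k => ?_
      have hk := hy ⟨(U, V), k⟩
      let hbase₂ : pieceObj (D ⟨(U, V), k⟩) (b' ⟨(U, V), k⟩) B ⟶ pieceObj (C V) (b V) B :=
        pieceMap (ψ ⟨(U, V), k⟩) (b V) (b' ⟨(U, V), k⟩) (by simp only [b, b', reassoc_of% hψ ⟨(U, V), k⟩]) B
      have hh : ρ k ≫ h = σ k ≫ hbase₂ := by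
        haveI := hjimm V B
        refine Over.OverMorphism.ext ((cancel_mono (pieceIn f a (j V) (hj V) B).left).1 ?_)
        rw [← Over.comp_left, ← Over.comp_left, Category.assoc, ← e, Category.assoc,
          pieceMap_pieceIn f a (j V) (hj _) (ψ ⟨(U, V), k⟩) (l _) (hl _) (hψ _) B, ← hbase' k, reassoc_of% hρ]
      rw [← ConcreteCategory.comp_apply, ← ConcreteCategory.comp_apply, ← Functor.map_comp, ← Functor.map_comp,
        ← op_comp, ← op_comp, hρ, hh, op_comp, op_comp, Functor.map_comp, Functor.map_comp,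
        ConcreteCategory.comp_apply, ConcreteCategory.comp_apply]
      exact congrArg _ hk
    exact ⟨z, hz⟩

theorem adequateMod_pushMod (f : T ⟶ S) [QuasiCompact f] [QuasiSeparated f]
    (M : BigSite.Mod Scheme.fppfPrecoverage T) (hM : Adeq.adequateMod Scheme.fppfPrecoverage T M) :
    Adeq.adequateMod Scheme.fppfPrecoverage S ((BigSite.pushMod Scheme.fppfPrecoverage f).obj M) :=
  adequateMod_fppf _ fun _ a => adequate_toMVF_pushMod fppfP (fun f hf => fppfP_of_isOpenImmersion f hf) f M
    (fun _ b => adequate_toMVF_fppf M hM b) a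

end Groth.Agent.AdeqShLib
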