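import Groth.Agent.AdeqShLib.FamCoh

/-!
# Higher direct images of adequate modules
-/

set_option autoImplicit false
set_option backward.isDefEq.respectTransparency false
set_option backward.isDefEq.respectTransparency.types false
set_option maxHeartbeats 800000
universe u w w'

namespace Groth.Agent.AdeqShLib

open CategoryTheory Limits AlgebraicGeometry Opposite TensorProduct Groth.Agent.AdeqLib

variable {S T : Scheme.{u}} (f : T ⟶ S) {R : CommRingCat.{u}} (a : Spec R ⟶ S)

/-- The functor of sections over base changes of an affine object. -/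
noncomputable abbrev srcFun : BigSite.Mod Scheme.fppfPrecoverage T ⥤ Adeq.MVF R :=
  BigSite.pushMod Scheme.fppfPrecoverage f ⋙ Adeq.toMVF Scheme.fppfPrecoverage a

theorem cmp_w (B : Adeq.Alg R) :
    pullback.fst ((Adeq.specOver (𝟙 (Spec R))).obj (op B)).hom ((⊤ : (pullback a f).Opens).ι ≫ pullback.fst a f) ≫
        ((Adeq.specOver a).obj (op B)).hom =
      (pullback.snd ((Adeq.specOver (𝟙 (Spec R))).obj (op B)).hom ((⊤ : (pullback a f).Opens).ι ≫ pullback.fst a f) ≫
        (⊤ : (pullback a f).Opens).ι ≫ pullback.snd a f) ≫ f := by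
  rw [Category.assoc, Category.assoc, ← pullback.condition]
  have h1 : ((Adeq.specOver a).obj (op B)).hom = ((Adeq.specOver (𝟙 (Spec R))).obj (op B)).hom ≫ a := by
    refine (specOver_obj_hom a B).trans (congrArg (fun v => v ≫ a) ?_)
    exact (Category.comp_id (Spec.map (CommRingCat.ofHom (algebraMap R B)))).symm
  rw [h1, pullback.condition_assoc, Category.assoc]

/-- The comparison with the whole fibre product. -/
noncomputable def cmpMap (B : Adeq.Alg R) :
    oObj (pullback.fst a f) (pullback.snd a f) ⊤ B ⟶ srcObj f a B :=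
  Over.homMk (pullback.lift (pullback.fst _ _) (pullback.snd _ _ ≫ (⊤ : (pullback a f).Opens).ι ≫ pullback.snd a f)
    (cmp_w f a B)) (pullback.lift_snd _ _ _)

theorem cmpMap_fst (B : Adeq.Alg R) :
    (cmpMap f a B).left ≫ pullback.fst ((Adeq.specOver a).obj (op B)).hom f =
      pullback.fst ((Adeq.specOver (𝟙 (Spec R))).obj (op B)).hom ((⊤ : (pullback a f).Opens).ι ≫ pullback.fst a f) :=
  pullback.lift_fst _ _ _

theorem cmpMap_snd (B : Adeq.Alg R) :
    (cmpMap f a B).left ≫ pullback.snd ((Adeq.specOver a).obj (op B)).hom f =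
      pullback.snd ((Adeq.specOver (𝟙 (Spec R))).obj (op B)).hom ((⊤ : (pullback a f).Opens).ι ≫ pullback.fst a f) ≫
        (⊤ : (pullback a f).Opens).ι ≫ pullback.snd a f :=
  pullback.lift_snd _ _ _

theorem isIso_cmpMap (B : Adeq.Alg R) : IsIso (cmpMap f a B) := by
  let g : (srcObj f a B).left ⟶ (oObj (pullback.fst a f) (pullback.snd a f) ⊤ B).left :=
    pullback.lift (pullback.fst _ _) (toFibre f a B ≫ (pullback a f).topIso.inv) (by
      rw [Category.assoc, ← Scheme.topIso_hom, Iso.inv_hom_id_assoc, toFibre, pullback.lift_fst]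
      rw [show ((Adeq.specOver (𝟙 (Spec R))).obj (op B)).hom = Spec.map (CommRingCat.ofHom (algebraMap R B)) from
        Category.comp_id _])
  haveI : IsIso ((Over.forget T).map (cmpMap f a B)) := by
    refine ⟨g, pullback.hom_ext ?_ ?_, pullback.hom_ext ?_ ?_⟩
    · show ((cmpMap f a B).left ≫ g) ≫ _ = 𝟙 _ ≫ _
      rw [Category.assoc, pullback.lift_fst, cmpMap_fst, Category.id_comp]
    · show ((cmpMap f a B).left ≫ g) ≫ _ = 𝟙 _ ≫ _
      rw [Category.assoc, pullback.lift_snd, Category.id_comp, ← cancel_mono (pullback a f).topIso.hom, Category.assoc,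
        Category.assoc, Iso.inv_hom_id, Category.comp_id, Scheme.topIso_hom]
      refine pullback.hom_ext ?_ ?_
      · rw [Category.assoc, toFibre, pullback.lift_fst, reassoc_of% cmpMap_fst, Category.assoc, ← pullback.condition]
        show _ ≫ Spec.map (CommRingCat.ofHom (algebraMap R B)) = _ ≫ Spec.map (CommRingCat.ofHom (algebraMap R B)) ≫ 𝟙 _
        rw [Category.comp_id]
      · rw [Category.assoc, toFibre, pullback.lift_snd, cmpMap_snd, Category.assoc]
    · show (g ≫ (cmpMap f a B).left) ≫ _ = 𝟙 _ ≫ _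
      rw [Category.assoc, cmpMap_fst, pullback.lift_fst, Category.id_comp]
    · show (g ≫ (cmpMap f a B).left) ≫ _ = 𝟙 _ ≫ _
      rw [Category.assoc, cmpMap_snd, pullback.lift_snd_assoc, Category.assoc, ← Scheme.topIso_hom,
        Iso.inv_hom_id_assoc, toFibre, pullback.lift_snd, Category.id_comp]
  exact isIso_of_reflects_iso (cmpMap f a B) (Over.forget T)

/-- The comparison of section functors. -/
noncomputable def cmpNat : srcFun f a ⟶ oFun (pullback.fst a f) (pullback.snd a f) ⊤ where
  app M := homMk (fun B =>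
    { toFun := fun x => (secPre M).map (cmpMap f a B).op x
      map_add' := fun x y => map_add ((secPre M).map (cmpMap f a B).op).hom x y
      map_smul' := fun r x => by
        refine (secPre_smul M (cmpMap f a B)
          ((pullback.fst ((Adeq.specOver a).obj (op B)).hom f).appTop.hom
            ((Scheme.ΓSpecIso (CommRingCat.of B)).inv.hom r)) x).trans ?_
        refine congrArg (fun s => (ULift.up s :
            (BigSite.ORing Scheme.fppfPrecoverage T).obj.obj (op (oObj (pullback.fst a f) (pullback.snd a f) ⊤ B))) •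
          (show M.val.obj (op (oObj (pullback.fst a f) (pullback.snd a f) ⊤ B)) from (secPre M).map (cmpMap f a B).op x)) ?_
        exact congrArg (fun m => (Scheme.Hom.appTop m).hom ((Scheme.ΓSpecIso (CommRingCat.of B)).inv.hom r))
          (cmpMap_fst f a B) })
    (fun {B B'} g x => by
      show (secPre M).map (cmpMap f a B').op ((secPre M).map ((Over.pullback f).map ((Adeq.specOver a).map g.op)).op x) =
        (secPre M).map ((Over.map ((⊤ : (pullback a f).Opens).ι ≫ pullback.snd a f)).map
          ((Over.pullback ((⊤ : (pullback a f).Opens).ι ≫ pullback.fst a f)).map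
            ((Adeq.specOver (𝟙 (Spec R))).map g.op))).op ((secPre M).map (cmpMap f a B).op x)
      rw [← ConcreteCategory.comp_apply, ← ConcreteCategory.comp_apply, ← Functor.map_comp, ← Functor.map_comp,
        ← op_comp, ← op_comp]
      refine congrArg (fun m : oObj (pullback.fst a f) (pullback.snd a f) ⊤ B' ⟶ srcObj f a B => ((secPre M).map m.op) x)
        (Over.OverMorphism.ext (pullback.hom_ext ?_ ?_))
      · show ((cmpMap f a B').left ≫ pullback.lift _ _ _) ≫ pullback.fst _ _ =
          (pullback.lift _ _ _ ≫ (cmpMap f a B).left) ≫ pullback.fst _ _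
        rw [Category.assoc, pullback.lift_fst, reassoc_of% cmpMap_fst, Category.assoc, cmpMap_fst, pullback.lift_fst]
        rfl
      · show ((cmpMap f a B').left ≫ pullback.lift _ _ _) ≫ pullback.snd _ _ =
          (pullback.lift _ _ _ ≫ (cmpMap f a B).left) ≫ pullback.snd _ _
        rw [Category.assoc, pullback.lift_snd, cmpMap_snd, Category.assoc, cmpMap_snd, pullback.lift_snd_assoc])
  naturality M N g := hom_ext fun B x => (NatTrans.naturality_apply ((PresheafOfModules.toPresheaf _).map g.val)
    (cmpMap f a B).op x).symm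

theorem isIso_cmpNat : IsIso (cmpNat f a) := by
  haveI : ∀ M, IsIso ((cmpNat f a).app M) := fun M => isIso_of_bijective fun B => by
    haveI := isIso_cmpMap f a B
    exact ConcreteCategory.bijective_of_isIso ((secPre M).map (cmpMap f a B).op)
  exact NatIso.isIso_of_isIso_app _

instance preservesLimitsOfShape_toMVFPre {J : Type w} [Category.{w'} J] [HasLimitsOfShape J Ab.{u + 1}]
    [HasLimitsOfShape J (PresheafOfModules.{u + 1} (BigSite.ORing Scheme.fppfPrecoverage S).obj)]
    [HasLimitsOfShape J (Adeq.MVF R)]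
    [PreservesLimitsOfShape J (PresheafOfModules.toPresheaf.{u + 1} (BigSite.ORing Scheme.fppfPrecoverage S).obj)]
    [PreservesLimitsOfShape J (PresheafOfModules.toPresheaf.{u + 1} (Adeq.ringOf R))] :
    PreservesLimitsOfShape J (Adeq.toMVFPre Scheme.fppfPrecoverage a) := by
  let e : PresheafOfModules.toPresheaf (BigSite.ORing Scheme.fppfPrecoverage S).obj ⋙
        (Functor.whiskeringLeft _ _ Ab.{u + 1}).obj (Adeq.specOver a).op ≅
      Adeq.toMVFPre Scheme.fppfPrecoverage a ⋙ PresheafOfModules.toPresheaf _ :=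
    NatIso.ofComponents (fun P => Iso.refl _) (fun f => rfl)
  haveI := preservesLimitsOfShape_of_natIso (J := J) e
  haveI : ReflectsLimitsOfShape J (PresheafOfModules.toPresheaf.{u + 1} (Adeq.ringOf R)) :=
    reflectsLimitsOfShape_of_reflectsIsomorphisms
  exact preservesLimitsOfShape_of_reflects_of_preserves _ (PresheafOfModules.toPresheaf _)

theorem preservesHomology_toMVFPre : (Adeq.toMVFPre Scheme.fppfPrecoverage a).PreservesHomology := by
  haveI : PreservesFiniteLimits (Adeq.toMVFPre Scheme.fppfPrecoverage a) := ⟨fun J _ _ => inferInstance⟩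
  haveI : PreservesFiniteColimits (Adeq.toMVFPre Scheme.fppfPrecoverage a) := ⟨fun J _ _ => inferInstance⟩
  infer_instance

variable {M : BigSite.Mod Scheme.fppfPrecoverage T} (Res : InjectiveResolution M)

instance additive_preFun : (BigSite.pushMod Scheme.fppfPrecoverage f ⋙ toPre S).Additive where
  map_add := by intros; rfl

/-- The presheaf higher direct image. -/
noncomputable def rPre (i : ℕ) : PresheafOfModules.{u + 1} (BigSite.ORing Scheme.fppfPrecoverage S).obj :=
  (((BigSite.pushMod Scheme.fppfPrecoverage f ⋙ toPre S).mapHomologicalComplex (ComplexShape.up ℕ)).obj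
    Res.cocomplex).homology i

/-- Its values over an affine object. -/
noncomputable def rPreIso (i : ℕ) :
    (Adeq.toMVFPre Scheme.fppfPrecoverage a).obj (rPre f Res i) ≅
      (oCx (pullback.fst a f) (pullback.snd a f) Res ⊤).homology i :=
  haveI := preservesHomology_toMVFPre a
  haveI := isIso_cmpNat f a
  let K := ((BigSite.pushMod Scheme.fppfPrecoverage f ⋙ toPre S).mapHomologicalComplex (ComplexShape.up ℕ)).obj Res.cocomplex
  haveI : (srcFun f a).Additive := ⟨by intros; exact hom_ext fun B x => rfl⟩
  (show (Adeq.toMVFPre Scheme.fppfPrecoverage a).obj (rPre f Res i) ≅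
      (((srcFun f a).mapHomologicalComplex (ComplexShape.up ℕ)).obj Res.cocomplex).homology i from
    ((K.sc i).mapHomologyIso (Adeq.toMVFPre Scheme.fppfPrecoverage a)).symm) ≪≫
  (HomologicalComplex.homologyFunctor (Adeq.MVF R) (ComplexShape.up ℕ) i).mapIso
    ((NatIso.mapHomologicalComplex (asIso (cmpNat f a)) (ComplexShape.up ℕ)).app Res.cocomplex)

theorem adequate_rPre [QuasiCompact f] [QuasiSeparated f] (hM : Adeq.adequateMod Scheme.fppfPrecoverage T M)
    (i : ℕ) (R : CommRingCat.{u}) (a : Spec R ⟶ S) :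
    Adeq.adequate R ((Adeq.toMVFPre Scheme.fppfPrecoverage a).obj (rPre f Res i)) := by
  haveI : CompactSpace ↥(pullback a f) := QuasiCompact.compactSpace_of_compactSpace (pullback.fst a f)
  haveI : QuasiSeparatedSpace ↥(pullback a f) := quasiSeparatedSpace_of_quasiSeparated (pullback.fst a f)
  exact adequate_of_iso (rPreIso f a Res i).symm (adeqCoh_top (pullback.fst a f) (pullback.snd a f) Res hM i)

/-- The higher direct image as a sheafification. -/
noncomputable def rPushIso [HasInjectiveResolutions (BigSite.Mod Scheme.fppfPrecoverage T)] (i : ℕ) :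
    (BigSite.RpushMod Scheme.fppfPrecoverage f i).obj M ≅
      (PresheafOfModules.sheafification (𝟙 (BigSite.ORing Scheme.fppfPrecoverage S).obj)).obj (rPre f Res i) :=
  let L := PresheafOfModules.sheafification.{u + 1} (𝟙 (BigSite.ORing Scheme.fppfPrecoverage S).obj)
  let G := BigSite.pushMod Scheme.fppfPrecoverage f
  let c := asIso (PresheafOfModules.sheafificationAdjunction (𝟙 (BigSite.ORing Scheme.fppfPrecoverage S).obj)).counit
  let K := ((G ⋙ toPre S).mapHomologicalComplex (ComplexShape.up ℕ)).obj Res.cocomplex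
  haveI : L.Additive := (PresheafOfModules.sheafificationAdjunction (𝟙 (BigSite.ORing Scheme.fppfPrecoverage S).obj)).left_adjoint_additive
  haveI : ((G ⋙ toPre S) ⋙ L).Additive := inferInstance
  let e : G ≅ (G ⋙ toPre S) ⋙ L :=
    (G.rightUnitor.symm ≪≫ Functor.isoWhiskerLeft G c.symm ≪≫ (Functor.associator G (toPre S) L).symm)
  Res.isoRightDerivedObj G i ≪≫
    (HomologicalComplex.homologyFunctor (BigSite.Mod Scheme.fppfPrecoverage S) (ComplexShape.up ℕ) i).mapIso
      ((NatIso.mapHomologicalComplex e (ComplexShape.up ℕ)).app Res.cocomplex) ≪≫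
    (K.sc i).mapHomologyIso L

theorem adequateMod_Rpush [QuasiCompact f] [QuasiSeparated f] [HasInjectiveResolutions (BigSite.Mod Scheme.fppfPrecoverage T)]
    (hM : Adeq.adequateMod Scheme.fppfPrecoverage T M) (i : ℕ) :
    Adeq.adequateMod Scheme.fppfPrecoverage S ((BigSite.RpushMod Scheme.fppfPrecoverage f i).obj M) := by
  obtain ⟨Res⟩ := HasInjectiveResolution.out (Z := M)
  exact adequateMod_of_iso (rPushIso f Res i).symm
    (adequateMod_sheafification _ fun R a => adequate_rPre f Res hM i R a)

section Parasitic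

variable {X : Scheme.{u}} (q : X ⟶ Spec R) (p : X ⟶ T) [Flat p]
  (hM : Adeq.adequateMod Scheme.fppfPrecoverage T M) (hP : Adeq.parasitic Scheme.fppfPrecoverage T M)

/-- Vanishing of the cohomology over the base itself. -/
def ZeroCoh (V : X.Opens) : Prop := ∀ i, Subsingleton (Val ((oCx q p Res V).homology i) (Adeq.algOf R R))

include hM hP in
theorem zeroCoh_of_isAffineOpen {V : X.Opens} (hV : IsAffineOpen V) : ZeroCoh Res q p V := by
  haveI : IsAffine V := hV
  let B := Adeq.algOf R R
  rintro (_ | k)
  · haveI : Flat (oObj q p V B).hom := by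
      haveI : IsIso (Spec.map (CommRingCat.ofHom (algebraMap (R : Type u) (R : Type u)))) := by
        rw [Algebra.algebraMap_self, CommRingCat.ofHom_id]
        infer_instance
      haveI : IsIso ((Adeq.specOver (𝟙 (Spec R))).obj (op B)).hom :=
        inferInstanceAs (IsIso (Spec.map (CommRingCat.ofHom (algebraMap (R : Type u) (R : Type u))) ≫ 𝟙 (Spec R)))
      exact inferInstanceAs (Flat (pullback.snd ((Adeq.specOver (𝟙 (Spec R))).obj (op B)).hom (V.ι ≫ q) ≫ V.ι ≫ p))
    have h0 := hP (oObj q p V B) inferInstance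
    let F := oFun q p V
    let j : M ⟶ Res.cocomplex.X 0 := Res.ι.f 0
    let E := SheafOfModules.evaluation.{u + 1} (BigSite.ORing Scheme.fppfPrecoverage T) (op (oObj q p V B))
    haveI : E.PreservesZeroMorphisms := ⟨fun _ _ => rfl⟩
    haveI : Mono j := inferInstanceAs (Mono (Res.ι.f 0))
    have hE : Function.Exact (E.map j) (E.map (Res.cocomplex.d 0 1)) :=
      (ShortComplex.ShortExact.moduleCat_exact_iff_function_exact _).1
        (Res.exact₀.map_of_mono_of_preservesKernel E inferInstance inferInstance)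
    have hk : Subsingleton (Val (kernel ((oCx q p Res V).d 0 1)) B) := ⟨fun y y' => kernel_ι_injective _ B (by
      obtain ⟨x, hx⟩ := (hE _).1 ((kernel_ι_mem (F.map (Res.cocomplex.d 0 1)) B _).2 ⟨y, rfl⟩)
      obtain ⟨x', hx'⟩ := (hE _).1 ((kernel_ι_mem (F.map (Res.cocomplex.d 0 1)) B _).2 ⟨y', rfl⟩)
      exact hx.symm.trans ((congrArg (E.map j) (h0.elim x x')).trans hx'))⟩
    let e : (oCx q p Res V).homology 0 ≅ kernel ((oCx q p Res V).d 0 1) :=
      (CochainComplex.isoHomologyπ₀ (oCx q p Res V)).symm ≪≫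
        IsLimit.conePointUniqueUpToIso ((oCx q p Res V).cyclesIsKernel 0 1 (by simp))
          (limit.isLimit _)
    exact Function.Injective.subsingleton (mono_iff.1 (inferInstance : Mono e.hom) B)
  · have hz := (HomologicalComplex.exactAt_iff_isZero_homology _ _).1 (exactAt_oCx_of_isAffineOpen q p Res hM hV k)
    exact ⟨fun x y => by rw [← app_id B x, ← app_id B y, hz.eq_of_src (𝟙 _) 0, app_zero, app_zero]⟩

theorem zeroCoh_sup {V W : X.Opens} (hV : ZeroCoh Res q p V) (hW : ZeroCoh Res q p W) (hVW : ZeroCoh Res q p (V ⊓ W)) :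
    ZeroCoh Res q p (V ⊔ W) := by
  let B := Adeq.algOf R R
  have hS' := shortExact_resKerSeq q p Res (inf_le_right : V ⊓ W ≤ W)
  haveI := isIso_excision q p Res V W
  have hS := shortExact_resKerSeq q p Res (le_sup_left (b := W) : V ≤ V ⊔ W)
  have hK : ∀ i, Subsingleton (Val ((kernel (oCxRes q p Res (inf_le_right : V ⊓ W ≤ W))).homology i) B) := by
    rintro (_ | i)
    · haveI := hS'.mono_f
      haveI : Mono (HomologicalComplex.homologyMap (resKerSeq q p Res (inf_le_right : V ⊓ W ≤ W)).f 0) :=
        HomologicalComplex.mono_homologyMap_of_mono_of_not_rel _ _ (fun j h => Nat.succ_ne_zero j h)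
      exact ⟨fun x y => mono_iff.1 (inferInstance : Mono (HomologicalComplex.homologyMap
        (resKerSeq q p Res (inf_le_right : V ⊓ W ≤ W)).f 0)) B ((hW 0).elim _ _)⟩
    · refine ⟨fun x y => sub_eq_zero.1 ?_⟩
      obtain ⟨z, hz⟩ := (exact_apply (hS'.homology_exact₁ i (i + 1) (by simp)) B (x - y)).1 ((hW (i + 1)).elim _ _)
      rw [← hz, (hVW i).elim z 0, map_zero]
  intro i
  refine ⟨fun x y => sub_eq_zero.1 ?_⟩
  obtain ⟨z, hz⟩ := (exact_apply (hS.homology_exact₂ i) B (x - y)).1 ((hV i).elim _ _)
  let e := (HomologicalComplex.homologyFunctor (Adeq.MVF R) (ComplexShape.up ℕ) i).mapIso (asIso (excision q p Res V W))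
  have hz0 : z = 0 := mono_iff.1 (inferInstance : Mono e.hom) B ((hK i).elim _ _)
  rw [← hz, hz0, map_zero]

include hM hP in
theorem zeroCoh_top [CompactSpace X] [QuasiSeparatedSpace X] : ZeroCoh Res q p ⊤ :=
  qcqs_induction (fun _ hV => zeroCoh_of_isAffineOpen Res q p hM hP hV) fun _ _ => zeroCoh_sup Res q p

end Parasitic

theorem parasitic_Rpush [QuasiCompact f] [QuasiSeparated f] [HasInjectiveResolutions (BigSite.Mod Scheme.fppfPrecoverage T)]
    (hM : Adeq.adequateMod Scheme.fppfPrecoverage T M) (hP : Adeq.parasitic Scheme.fppfPrecoverage T M) (i : ℕ) :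
    Adeq.parasitic Scheme.fppfPrecoverage S ((BigSite.RpushMod Scheme.fppfPrecoverage f i).obj M) := by
  obtain ⟨Res⟩ := HasInjectiveResolution.out (Z := M)
  refine parasitic_of_forall_affine _ fun U hU y => ?_
  obtain ⟨W, hW, hyW, -⟩ := exists_isAffineOpen_mem_and_subset (x := y) (U := (⊤ : U.left.Opens)) trivial
  refine ⟨Γ(U.left, W), hW.fromSpec, inferInstance, by rw [hW.range_fromSpec]; exact hyW, ?_⟩
  let R := Γ(U.left, W)
  let a : Spec R ⟶ S := hW.fromSpec ≫ U.hom
  haveI : Flat U.hom := hU
  haveI : Flat a := inferInstanceAs (Flat (hW.fromSpec ≫ U.hom))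
  haveI : Flat (pullback.snd a f) := inferInstance
  haveI : CompactSpace ↥(pullback a f) := QuasiCompact.compactSpace_of_compactSpace (pullback.fst a f)
  haveI : QuasiSeparatedSpace ↥(pullback a f) := quasiSeparatedSpace_of_quasiSeparated (pullback.fst a f)
  have h0 : Subsingleton (Val ((Adeq.toMVFPre Scheme.fppfPrecoverage a).obj (rPre f Res i)) (Adeq.algOf R R)) :=
    haveI := zeroCoh_top Res (pullback.fst a f) (pullback.snd a f) hM hP i
    Function.Injective.subsingleton (mono_iff.1 (inferInstance : Mono (rPreIso f a Res i).hom) (Adeq.algOf R R))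
  let N := (BigSite.RpushMod Scheme.fppfPrecoverage f i).obj M
  have h1 : Subsingleton ((secPre ((PresheafOfModules.sheafification
      (𝟙 (BigSite.ORing Scheme.fppfPrecoverage S).obj)).obj (rPre f Res i))).obj
      (op ((Adeq.specOver a).obj (op (Adeq.algOf R R))))) :=
    haveI : Subsingleton ((rPre f Res i).presheaf.obj (op ((Adeq.specOver a).obj (op (Adeq.algOf R R))))) := h0
    (toShAb_bijective (rPre f Res i) (fun R a => adequate_rPre f Res hM i R a) a (Adeq.algOf R R)).2.subsingleton
  exact subsingleton_of_iso (secPre N) (topIso a)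
    (Adeq.subsingleton_sectMod_of_iso Scheme.fppfPrecoverage S (rPushIso f Res i).symm _ h1)

end Groth.Agent.AdeqShLib
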