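import Groth.Agent.AdeqShLib.Named
import Groth.Agent.AdeqLib.FFFamily

/-!
# Sheafification of presheaves of modules with adequate functors
-/

set_option autoImplicit false
set_option backward.isDefEq.respectTransparency false
set_option backward.isDefEq.respectTransparency.types false
set_option maxHeartbeats 800000
universe u w

namespace Groth.Agent.AdeqShLib

open CategoryTheory Limits AlgebraicGeometry Opposite TensorProduct Groth.Agent.AdeqLib

instance : fppfP.{u}.ContainsIdentities := ⟨fun _ => ⟨inferInstance, inferInstance⟩⟩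

instance : fppfP.{u}.RespectsIso := MorphismProperty.IsStableUnderBaseChange.respectsIso

instance : (Scheme.precoverage fppfP.{u}).HasIsos := inferInstance

theorem sieve_mem_of_left {C : Type*} [Category C] {S : C} {X Z : Over S} (Sv : Sieve X) (m : Z ⟶ X)
    {f : Z.left ⟶ X.left} (hf : m.left = f) (h : Sieve.overEquiv X Sv f) : Sv m := by
  subst hf
  have h2 := (Sieve.overEquiv_iff Sv _).1 h
  let e : Z ⟶ Over.mk (m.left ≫ X.hom) := Over.homMk (𝟙 _) ((Category.id_comp _).trans (Over.w m))
  have hm : m = e ≫ (Over.homMk m.left rfl : Over.mk (m.left ≫ X.hom) ⟶ X) :=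
    Over.OverMorphism.ext (Category.id_comp _).symm
  rw [hm]
  exact Sv.downward_closed h2 e

theorem specOver_map_ofId_left {S : Scheme.{u}} {R : CommRingCat.{u}} (a : Spec R ⟶ S) (B : Adeq.Alg R) :
    ((Adeq.specOver a).map (CommAlgCat.ofHom (Algebra.ofId R B) : Adeq.algOf R R ⟶ B).op).left =
      Spec.map (CommRingCat.ofHom (algebraMap R B)) := rfl

/-- A covering sieve of an affine object contains a finite faithfully flat affine family. -/
theorem exists_ff_refine {S : Scheme.{u}} {R : CommRingCat.{u}} (a : Spec R ⟶ S)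
    (Sv : Sieve ((Adeq.specOver a).obj (op (Adeq.algOf R R))))
    (hSv : Sv ∈ QuotSh.J Scheme.fppfPrecoverage S _) :
    ∃ (ι : Type u) (_ : Finite ι) (C : ι → Adeq.Alg R), Module.FaithfullyFlat R (∀ i, (C i : Type u)) ∧
      (∀ x : Spec R, ∃ i, x ∈ Set.range (Spec.map (CommRingCat.ofHom (algebraMap R (C i))))) ∧
      (∀ i, fppfP (Spec.map (CommRingCat.ofHom (algebraMap R (C i))))) ∧
      ∀ i, Sv ((Adeq.specOver a).map (CommAlgCat.ofHom (Algebra.ofId R (C i)) : Adeq.algOf R R ⟶ C i).op) := by
  let X := (Adeq.specOver a).obj (op (Adeq.algOf R R))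
  have hJ : Sieve.overEquiv X Sv ∈ (Scheme.precoverage fppfP).toGrothendieck X.left :=
    (GrothendieckTopology.mem_over_iff _ Sv).1 hSv
  obtain ⟨P, hP, hle⟩ := Precoverage.mem_toGrothendieck_iff_of_isStableUnderComposition.1 hJ
  obtain ⟨E, hE⟩ := Precoverage.mem_iff_exists_zeroHypercover.1 hP
  have hcov : Presieve.ofArrows E.X E.f ∈ (Scheme.precoverage fppfP).coverings (Spec R) := E.mem₀
  obtain ⟨n, D, φ, hs, hPf, hfac⟩ := exists_refine fppfP (fun f hf => fppfP_isOpenMap f hf)
    (fun f hf => fppfP_of_isOpenImmersion f hf) E.f hcov (𝟙 (Spec R))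
  letI : ∀ l, Algebra R (D l) := fun l => (φ l).hom.toAlgebra
  let C : ULift.{u} (Fin n) → Adeq.Alg R := fun l => Adeq.algOf R (D l.down)
  refine ⟨_, inferInstance, C, ?_, fun x => ?_, fun l => hPf l.down, fun l => ?_⟩
  · haveI : ∀ l, Module.Flat R (C l : Type u) := fun l => by
      have h1 : Flat (Spec.map (φ l.down)) := (hPf l.down).1
      exact RingHom.flat_algebraMap_iff.1 (Flat.SpecMap_iff.1 h1)
    haveI := Fintype.ofFinite (ULift.{u} (Fin n))
    haveI : Module.Flat R (∀ l, (C l : Type u)) :=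
      Module.Flat.of_linearEquiv (DirectSum.linearEquivFunOnFintype R (ULift.{u} (Fin n)) fun l => (C l : Type u)).symm
    refine RingHom.faithfullyFlat_algebraMap_iff.1 (RingHom.FaithfullyFlat.iff_flat_and_comap_surjective.2
      ⟨RingHom.flat_algebraMap_iff.2 inferInstance, fun x => ?_⟩)
    obtain ⟨l, y, hy⟩ := hs x
    exact ⟨PrimeSpectrum.comap (Pi.evalRingHom (fun l => (C l : Type u)) ⟨l⟩) y, hy⟩
  · obtain ⟨l, hl⟩ := hs x
    exact ⟨⟨l⟩, hl⟩
  · obtain ⟨i, g, hg⟩ := hfac l.down
    rw [Category.comp_id] at hg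
    have h1 : (Sieve.overEquiv X Sv) (g ≫ E.f i) :=
      (Sieve.overEquiv X Sv).downward_closed (hle _ _ (hE ▸ Presieve.ofArrows.mk i)) g
    rw [hg] at h1
    refine sieve_mem_of_left Sv _ (f := Spec.map (φ l.down)) ?_ h1
    exact specOver_map_ofId_left a (C l)

section Unit

variable {S : Scheme.{u}} (P : PresheafOfModules.{u + 1} (BigSite.ORing Scheme.fppfPrecoverage S).obj)
  (hP : ∀ (R : CommRingCat.{u}) (a : Spec R ⟶ S), Adeq.adequate R ((Adeq.toMVFPre Scheme.fppfPrecoverage a).obj P))

/-- The abelian sheafification map. -/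
noncomputable abbrev toShAb : P.presheaf ⟶ CategoryTheory.sheafify (QuotSh.J Scheme.fppfPrecoverage S) P.presheaf :=
  CategoryTheory.toSheafify _ P.presheaf

theorem res_preFun {R : CommRingCat.{u}} (a : Spec R ⟶ S) {B B' : Adeq.Alg R} (g : B ⟶ B')
    (x : Val ((Adeq.toMVFPre Scheme.fppfPrecoverage a).obj P) B) :
    res ((Adeq.toMVFPre Scheme.fppfPrecoverage a).obj P) g x = P.presheaf.map ((Adeq.specOver a).map g.op).op x := rfl

omit P in
theorem self_w {R : CommRingCat.{u}} (a : Spec R ⟶ S) (B : Adeq.Alg R) :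
    Spec.map (CommRingCat.ofHom (algebraMap (B : Type u) (B : Type u))) ≫
      Spec.map (CommRingCat.ofHom (algebraMap R B)) ≫ a = Spec.map (CommRingCat.ofHom (algebraMap R B)) ≫ a := by
  rw [Algebra.algebraMap_self, CommRingCat.ofHom_id]
  exact (congrArg (fun v => v ≫ Spec.map (CommRingCat.ofHom (algebraMap R B)) ≫ a) (Spec.map_id _)).trans (Category.id_comp _)

/-- The base object over an affine object. -/
noncomputable def selfObj {R : CommRingCat.{u}} (a : Spec R ⟶ S) (B : Adeq.Alg R) : Over S :=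
  (Adeq.specOver (R := CommRingCat.of B) (Spec.map (CommRingCat.ofHom (algebraMap R B)) ≫ a)).obj
    (op (Adeq.algOf B B))

omit P in
theorem selfObj_hom {R : CommRingCat.{u}} (a : Spec R ⟶ S) (B : Adeq.Alg R) : (selfObj a B).hom =
    Spec.map (CommRingCat.ofHom (algebraMap (B : Type u) (B : Type u))) ≫
      Spec.map (CommRingCat.ofHom (algebraMap R B)) ≫ a := rfl

omit P in
theorem specOver_obj_hom {R : CommRingCat.{u}} (a : Spec R ⟶ S) (B : Adeq.Alg R) :
    ((Adeq.specOver a).obj (op B)).hom = Spec.map (CommRingCat.ofHom (algebraMap R B)) ≫ a := rfl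

omit P in
theorem refl_comp_selfObj_hom {R : CommRingCat.{u}} (a : Spec R ⟶ S) (B : Adeq.Alg R) :
    (Iso.refl (Spec (CommRingCat.of B))).hom ≫ (selfObj a B).hom = ((Adeq.specOver a).obj (op B)).hom := by
  have h4 : (Iso.refl (Spec (CommRingCat.of B))).hom ≫ (selfObj a B).hom =
      𝟙 (Spec (CommRingCat.of B)) ≫ (selfObj a B).hom := rfl
  have h5 : 𝟙 (Spec (CommRingCat.of B)) ≫ (selfObj a B).hom = (selfObj a B).hom :=
    Category.id_comp (selfObj a B).hom
  exact (h4.trans h5).trans ((selfObj_hom a B).trans ((self_w a B).trans (specOver_obj_hom a B).symm))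

/-- An affine object as the base object over itself. -/
noncomputable def selfIso {R : CommRingCat.{u}} (a : Spec R ⟶ S) (B : Adeq.Alg R) :
    (Adeq.specOver a).obj (op B) ≅ selfObj a B :=
  Over.isoMk (f := (Adeq.specOver a).obj (op B)) (g := selfObj a B) (Iso.refl (Spec (CommRingCat.of B)))
    (refl_comp_selfObj_hom a B)

include hP

theorem toShAb_injective {R : CommRingCat.{u}} (a : Spec R ⟶ S)
    (x : P.presheaf.obj (op ((Adeq.specOver a).obj (op (Adeq.algOf R R)))))
    (hx : (toShAb P).app _ x = 0) : x = 0 := by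
  have hmem := Presheaf.equalizerSieve_mem (QuotSh.J Scheme.fppfPrecoverage S) (toShAb P) x 0
    (hx.trans (map_zero ((toShAb P).app _).hom).symm)
  obtain ⟨ι, hι, C, hC, -, -, hmap⟩ := exists_ff_refine a _ hmem
  haveI := hC
  haveI := hι
  obtain ⟨q⟩ := exists_pres (hP R a)
  exact (q.equalizer_family C).1 x fun i => (hmap i).trans (map_zero _)

theorem toShAb_injective' {R : CommRingCat.{u}} (a : Spec R ⟶ S) (B : Adeq.Alg R)
    (x : P.presheaf.obj (op ((Adeq.specOver a).obj (op B)))) (hx : (toShAb P).app _ x = 0) : x = 0 := by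
  let e := selfIso a B
  have h : P.presheaf.map e.inv.op x = 0 := toShAb_injective P hP _ _ (by
    refine (NatTrans.naturality_apply (toShAb P) e.inv.op x).trans ?_
    rw [hx, map_zero])
  have h2 := congrArg (P.presheaf.map e.hom.op) h
  rw [← ConcreteCategory.comp_apply, ← Functor.map_comp, ← op_comp, e.hom_inv_id, op_id, P.presheaf.map_id, map_zero] at h2
  exact h2

theorem toShAb_surjective {R : CommRingCat.{u}} (a : Spec R ⟶ S)
    (s : (CategoryTheory.sheafify (QuotSh.J Scheme.fppfPrecoverage S) P.presheaf).obj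
      (op ((Adeq.specOver a).obj (op (Adeq.algOf R R))))) :
    ∃ x, (toShAb P).app _ x = s := by
  have hmem := Presheaf.imageSieve_mem (QuotSh.J Scheme.fppfPrecoverage S) (toShAb P) s
  obtain ⟨ι, hι, C, hC, hs, hPC, hmap⟩ := exists_ff_refine a _ hmem
  haveI := hC
  haveI := hι
  obtain ⟨q⟩ := exists_pres (hP R a)
  choose y hy using hmap
  obtain ⟨x, hx⟩ := (q.equalizer_family C).2 y fun i j => by
    refine sub_eq_zero.1 (toShAb_injective' P hP a _ _ ?_)
    rw [map_sub, sub_eq_zero, res_preFun, res_preFun]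
    refine (NatTrans.naturality_apply (toShAb P) _ (y i)).trans (Eq.trans ?_ (NatTrans.naturality_apply (toShAb P) _ (y j)).symm)
    refine (congrArg _ (hy i)).trans (Eq.trans ?_ (congrArg _ (hy j)).symm)
    rw [← ConcreteCategory.comp_apply, ← ConcreteCategory.comp_apply, ← Functor.map_comp, ← Functor.map_comp,
      ← op_comp, ← op_comp, ← Functor.map_comp, ← Functor.map_comp, ← op_comp, ← op_comp]
    refine congrArg (fun v => (CategoryTheory.sheafify _ P.presheaf).map ((Adeq.specOver a).map (Quiver.Hom.op v)).op s) ?_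
    exact CommAlgCat.hom_ext (Subsingleton.elim _ _)
  refine ⟨x, eq_of_cover ((presheafToSheaf (QuotSh.J Scheme.fppfPrecoverage S) _).obj P.presheaf).property
    (fun i => (Adeq.specOver a).map (CommAlgCat.ofHom (Algebra.ofId R (C i)) : Adeq.algOf R R ⟶ C i).op)
    (generate_mem_J fppfP _ (fun z => ?_) fun i => ?_) fun i => ?_⟩
  · obtain ⟨i, hi⟩ := hs z
    exact ⟨i, hi⟩
  · exact hPC i
  · exact ((NatTrans.naturality_apply (toShAb P) _ x).symm.trans (congrArg ((toShAb P).app _) (hx i))).trans (hy i)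

theorem toShAb_bijective {R : CommRingCat.{u}} (a : Spec R ⟶ S) (B : Adeq.Alg R) :
    Function.Bijective ((toShAb P).app (op ((Adeq.specOver a).obj (op B)))) := by
  refine ⟨(injective_iff_map_eq_zero _).2 (toShAb_injective' P hP a B), fun s => ?_⟩
  let e := selfIso a B
  obtain ⟨x, hx⟩ := toShAb_surjective P hP _ ((CategoryTheory.sheafify _ P.presheaf).map e.inv.op s)
  refine ⟨P.presheaf.map e.hom.op x, (NatTrans.naturality_apply (toShAb P) e.hom.op x).trans ?_⟩
  refine (congrArg _ hx).trans ?_
  rw [← ConcreteCategory.comp_apply, ← Functor.map_comp, ← op_comp, e.hom_inv_id, op_id]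
  exact ConcreteCategory.congr_hom ((CategoryTheory.sheafify _ P.presheaf).map_id _) s

/-- The unit of sheafification is an isomorphism on affine objects. -/
theorem isIso_toMVFPre_unit {R : CommRingCat.{u}} (a : Spec R ⟶ S) :
    IsIso ((Adeq.toMVFPre Scheme.fppfPrecoverage a).map
      ((PresheafOfModules.sheafificationAdjunction (𝟙 (BigSite.ORing Scheme.fppfPrecoverage S).obj)).unit.app P)) :=
  isIso_of_bijective fun B => toShAb_bijective P hP a B

/-- The sheafification of a presheaf with adequate functors is adequate. -/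
theorem adequateMod_sheafification :
    Adeq.adequateMod Scheme.fppfPrecoverage S
      ((PresheafOfModules.sheafification (𝟙 (BigSite.ORing Scheme.fppfPrecoverage S).obj)).obj P) := by
  refine adequateMod_fppf _ fun R a => ?_
  haveI := isIso_toMVFPre_unit P hP a
  exact (Adeq.adequate R).prop_of_iso (asIso ((Adeq.toMVFPre Scheme.fppfPrecoverage a).map
      ((PresheafOfModules.sheafificationAdjunction (𝟙 (BigSite.ORing Scheme.fppfPrecoverage S).obj)).unit.app P))) (hP R a)

end Unit

end Groth.Agent.AdeqShLib
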